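import Groth.Agent.Lib.KFlat.Cover
import Groth.Prelude.Def_DRing4
import Mathlib.RingTheory.Flat.Basic
import Mathlib.Algebra.Category.ModuleCat.AB
import Mathlib.Algebra.Category.ModuleCat.Adjunctions

/-!
K-flat complexes of modules over a commutative ring.
-/

set_option autoImplicit false
set_option linter.unusedSectionVars false

universe u

open CategoryTheory CategoryTheory.Limits MonoidalCategory

namespace Groth.Agent.KFlat.Module

variable {R : Type u} [CommRing R]

variable (R) in
/-- The tensor product of modules. -/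
noncomputable abbrev TM : ModuleCat.{u} R ⥤ ModuleCat.{u} R ⥤ ModuleCat.{u} R :=
  curriedTensor (ModuleCat.{u} R)

instance preservesColimits_flip_TM (X : ModuleCat.{u} R) :
    PreservesColimitsOfSize.{0, 0} ((TM R).flip.obj X) :=
  have : PreservesColimitsOfSize.{u, u} (tensorLeft X) :=
    (ihom.adjunction X).leftAdjoint_preservesColimits
  have : PreservesColimitsOfSize.{u, u} (tensorRight X) :=
    preservesColimits_of_natIso (BraidedCategory.tensorLeftIsoTensorRight X)
  preservesColimitsOfSize_shrink.{0, u, 0, u} (tensorRight X)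

instance preservesColimits_TM (X : ModuleCat.{u} R) :
    PreservesColimitsOfSize.{0, 0} ((TM R).obj X) :=
  have : PreservesColimitsOfSize.{u, u} (tensorLeft X) :=
    (ihom.adjunction X).leftAdjoint_preservesColimits
  preservesColimitsOfSize_shrink.{0, u, 0, u} (tensorLeft X)

instance ab5 : AB5OfSize.{0, 0} (ModuleCat.{u} R) := AB5OfSize_shrink.{0, 0, u, u} _

theorem isFlat_iff (X : ModuleCat.{u} R) : IsFlat (TM R) X ↔ _root_.Module.Flat R X := by
  constructor
  · intro h
    refine _root_.Module.Flat.iff_lTensor_preserves_injective_linearMap.2 fun N N' _ _ _ _ f hf => ?_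
    have := h.left
    have : Mono (ModuleCat.ofHom f) := (ModuleCat.mono_iff_injective _).2 hf
    exact (ModuleCat.mono_iff_injective (X ◁ ModuleCat.ofHom f)).1
      (inferInstanceAs (Mono (((TM R).obj X).map (ModuleCat.ofHom f))))
  · intro h
    refine ⟨⟨fun {A B} f _ => ?_⟩, ⟨fun {A B} f _ => ?_⟩⟩
    · exact (ModuleCat.mono_iff_injective (X ◁ f)).2
        (_root_.Module.Flat.lTensor_preserves_injective_linearMap f.hom
          ((ModuleCat.mono_iff_injective f).1 inferInstance))
    · exact (ModuleCat.mono_iff_injective (f ▷ X)).2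
        (_root_.Module.Flat.rTensor_preserves_injective_linearMap f.hom
          ((ModuleCat.mono_iff_injective f).1 inferInstance))

/-- The free cover. -/
noncomputable def coverπ : forget (ModuleCat.{u} R) ⋙ ModuleCat.free R ⟶ 𝟭 _ :=
  (ModuleCat.adj R).counit

theorem epi_coverπ (X : ModuleCat.{u} R) : Epi (coverπ.app X) :=
  (ModuleCat.epi_iff_surjective _).2 fun x =>
    ⟨ModuleCat.freeMk x, by simp [coverπ, ModuleCat.adj]⟩

/-- The free cover, compatible with zero maps. -/
noncomputable def cover : Cover (ModuleCat.{u} R) := Cover.mk' _ coverπ epi_coverπ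

theorem isFlat_cover (X : ModuleCat.{u} R) : IsFlat (TM R) (cover.F.obj X) :=
  Cover.isFlat_mk' _ coverπ epi_coverπ
    (fun Y => (isFlat_iff _).2 (inferInstanceAs (_root_.Module.Flat R (((forget _).obj Y) →₀ R)))) X

theorem enough : EnoughFlat (TM R) := enoughFlat (T := (TM R)) cover isFlat_cover

theorem isKFlat_iff (E : DRing.Cx R) : IsKFlat (TM R) E ↔
    ∀ L : DRing.Cx R, (∀ i : ℤ, IsZero (L.homology i)) → ∀ i : ℤ, IsZero ((L ⊗ E).homology i) :=
  ⟨fun h L hL i => (HomologicalComplex.exactAt_iff_isZero_homology _ _).1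
      (h L (fun j => (HomologicalComplex.exactAt_iff_isZero_homology _ _).2 (hL j)) i),
    fun h L hL i => (HomologicalComplex.exactAt_iff_isZero_homology
      (((tcx (TM R)).obj L).obj E) i).2
      (h L (fun j => (HomologicalComplex.exactAt_iff_isZero_homology _ _).1 (hL j)) i)⟩

theorem whiskerRight_eq {L L' : DRing.Cx R} (f : L ⟶ L') (E : DRing.Cx R) :
    f ▷ E = ((tcx (TM R)).map f).app E := rfl

theorem whiskerLeft_eq (L : DRing.Cx R) {E E' : DRing.Cx R} (f : E ⟶ E') :
    L ◁ f = ((tcx (TM R)).obj L).map f := rfl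

end Groth.Agent.KFlat.Module
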