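import Groth.Agent.Lib.KFlat.Tensor

/-!
Additive functors commuting with coproducts commute with total complexes and total tensor products.
-/

set_option autoImplicit false
set_option linter.unusedSectionVars false

universe v₁ v₂ v₃ v₄ v₅ v₆ v₇ v₈ u₁ u₂ u₃ u₄ u₅ u₆ u₇ u₈

open CategoryTheory CategoryTheory.Limits

namespace Groth.Agent.KFlat

section Total

variable {C : Type u₁} [Category.{v₁} C] [Preadditive C] [HasColimitsOfSize.{0, 0} C]
  {D : Type u₂} [Category.{v₂} D] [Preadditive D] [HasColimitsOfSize.{0, 0} D]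
  (G : C ⥤ D) [G.Additive] [PreservesColimitsOfSize.{0, 0} G]

/-- A functor applied to a bicomplex. -/
noncomputable abbrev map₂ (K : HomologicalComplex₂ C (ComplexShape.up ℤ) (ComplexShape.up ℤ)) :
    HomologicalComplex₂ D (ComplexShape.up ℤ) (ComplexShape.up ℤ) :=
  ((G.mapHomologicalComplex (ComplexShape.up ℤ)).mapHomologicalComplex (ComplexShape.up ℤ)).obj K

variable (K : HomologicalComplex₂ C (ComplexShape.up ℤ) (ComplexShape.up ℤ))

/-- The degreewise comparison. -/
noncomputable def mapTotalX (n : ℤ) :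
    ((map₂ G K).total (ComplexShape.up ℤ)).X n ≅ G.obj ((K.total (ComplexShape.up ℤ)).X n) :=
  (PreservesCoproduct.iso G (K.toGradedObject.mapObjFun
    (ComplexShape.π (ComplexShape.up ℤ) (ComplexShape.up ℤ) (ComplexShape.up ℤ)) n)).symm

theorem ι_mapTotalX (p q n : ℤ) (h : p + q = n) :
    (map₂ G K).ιTotal (ComplexShape.up ℤ) p q n h ≫ (mapTotalX G K n).hom =
      G.map (K.ιTotal (ComplexShape.up ℤ) p q n h) :=
  ι_comp_sigmaComparison G _ _

theorem map_units_smul' {X Y : C} (u : ℤˣ) (f : X ⟶ Y) : G.map (u • f) = u • G.map f := by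
  rw [Units.smul_def, Units.smul_def, G.map_zsmul]

theorem d₁_mapTotalX (p q n : ℤ) :
    (map₂ G K).d₁ (ComplexShape.up ℤ) p q n ≫ (mapTotalX G K n).hom =
      G.map (K.d₁ (ComplexShape.up ℤ) p q n) := by
  by_cases h : p + 1 + q = n
  · rw [HomologicalComplex₂.d₁_eq _ _ (i₁' := p + 1) rfl q n h,
      HomologicalComplex₂.d₁_eq _ _ (i₁' := p + 1) rfl q n h, map_units_smul', G.map_comp,
      Linear.units_smul_comp, Category.assoc, ι_mapTotalX]
    rfl
  · rw [HomologicalComplex₂.d₁_eq_zero' _ _ (i₁' := p + 1) rfl q n h,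
      HomologicalComplex₂.d₁_eq_zero' _ _ (i₁' := p + 1) rfl q n h, zero_comp, G.map_zero]
    rfl

theorem d₂_mapTotalX (p q n : ℤ) :
    (map₂ G K).d₂ (ComplexShape.up ℤ) p q n ≫ (mapTotalX G K n).hom =
      G.map (K.d₂ (ComplexShape.up ℤ) p q n) := by
  by_cases h : p + (q + 1) = n
  · rw [HomologicalComplex₂.d₂_eq _ _ p (i₂' := q + 1) rfl n h,
      HomologicalComplex₂.d₂_eq _ _ p (i₂' := q + 1) rfl n h, map_units_smul', G.map_comp,
      Linear.units_smul_comp, Category.assoc, ι_mapTotalX]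
    rfl
  · rw [HomologicalComplex₂.d₂_eq_zero' _ _ p (i₂' := q + 1) rfl n h,
      HomologicalComplex₂.d₂_eq_zero' _ _ p (i₂' := q + 1) rfl n h, zero_comp, G.map_zero]
    rfl

/-- Additive functors commuting with coproducts commute with total complexes. -/
noncomputable def mapTotalIso : (map₂ G K).total (ComplexShape.up ℤ) ≅
    (G.mapHomologicalComplex (ComplexShape.up ℤ)).obj (K.total (ComplexShape.up ℤ)) :=
  HomologicalComplex.Hom.isoOfComponents (mapTotalX G K) fun n n' _ => by
    refine HomologicalComplex₂.total.hom_ext _ fun p q h => ?_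
    refine ((Category.assoc _ _ _).symm.trans (congrArg (· ≫ _) (ι_mapTotalX G K p q n h))).trans ?_
    refine Eq.trans ?_ (Category.assoc _ _ _)
    change G.map _ ≫ G.map ((K.total _).d n n') = _
    rw [← G.map_comp, HomologicalComplex₂.total_d, HomologicalComplex₂.total_d,
      Preadditive.comp_add, Preadditive.comp_add, G.map_add, HomologicalComplex₂.ι_D₁,
      HomologicalComplex₂.ι_D₂, HomologicalComplex₂.ι_D₁, HomologicalComplex₂.ι_D₂,
      Preadditive.add_comp]
    exact (congrArg₂ (· + ·) (d₁_mapTotalX G K p q n') (d₂_mapTotalX G K p q n')).symm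

theorem ι_mapTotalIso (p q n : ℤ) (h : p + q = n) :
    (map₂ G K).ιTotal (ComplexShape.up ℤ) p q n h ≫ (mapTotalIso G K).hom.f n =
      G.map (K.ιTotal (ComplexShape.up ℤ) p q n h) :=
  ι_mapTotalX G K p q n h

theorem ι_mapTotalIso_inv (p q n : ℤ) (h : p + q = n) :
    G.map (K.ιTotal (ComplexShape.up ℤ) p q n h) ≫ (mapTotalIso G K).inv.f n =
      (map₂ G K).ιTotal (ComplexShape.up ℤ) p q n h :=
  (congrArg (· ≫ _) (ι_mapTotalX G K p q n h).symm).trans
    ((Category.assoc _ _ _).trans ((congrArg (_ ≫ ·) (mapTotalX G K n).hom_inv_id).trans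
      (Category.comp_id _)))

theorem mapTotalIso_naturality {K K' : HomologicalComplex₂ C (ComplexShape.up ℤ) (ComplexShape.up ℤ)}
    (φ : K ⟶ K') :
    HomologicalComplex₂.total.map
        (((G.mapHomologicalComplex (ComplexShape.up ℤ)).mapHomologicalComplex
          (ComplexShape.up ℤ)).map φ) (ComplexShape.up ℤ) ≫ (mapTotalIso G K').hom =
      (mapTotalIso G K).hom ≫
        (G.mapHomologicalComplex (ComplexShape.up ℤ)).map
          (HomologicalComplex₂.total.map φ (ComplexShape.up ℤ)) := by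
  refine HomologicalComplex.hom_ext _ _ fun n => HomologicalComplex₂.total.hom_ext _ fun p q h => ?_
  simp only [HomologicalComplex.comp_f]
  rw [HomologicalComplex₂.ιTotal_map_assoc, ι_mapTotalIso, reassoc_of% (ι_mapTotalIso G K p q n h)]
  change G.map _ ≫ G.map _ = G.map _ ≫ G.map _
  rw [← G.map_comp, ← G.map_comp, HomologicalComplex₂.ιTotal_map]

end Total

section Bifunctor

variable {C₁ : Type u₁} [Category.{v₁} C₁] [Preadditive C₁] {C₂ : Type u₂} [Category.{v₂} C₂]
  [Preadditive C₂] {E₁ : Type u₃} [Category.{v₃} E₁] [Preadditive E₁] {E₂ : Type u₄}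
  [Category.{v₄} E₂] [Preadditive E₂] {E₃ : Type u₅} [Category.{v₅} E₃] [Preadditive E₃]
  [HasColimitsOfSize.{0, 0} E₃]
  {D₁ : Type u₆} [Category.{v₆} D₁] [Preadditive D₁] {D₂ : Type u₇}
  [Category.{v₇} D₂] [Preadditive D₂] {D₃ : Type u₈} [Category.{v₈} D₃] [Preadditive D₃]
  [HasColimitsOfSize.{0, 0} D₃]
  (T : E₁ ⥤ E₂ ⥤ E₃) [T.Additive] [∀ X, (T.obj X).Additive]
  (T' : D₁ ⥤ D₂ ⥤ D₃) [T'.Additive] [∀ X, (T'.obj X).Additive]
  (A₀ : C₁ ⥤ E₁) [A₀.Additive] (B₀ : C₂ ⥤ E₂) [B₀.Additive]
  (A : C₁ ⥤ D₁) [A.Additive] (B : C₂ ⥤ D₂) [B.Additive]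
  (G : E₃ ⥤ D₃) [G.Additive] [PreservesColimitsOfSize.{0, 0} G]

variable (η : ∀ (X : C₁) (Y : C₂),
    G.obj ((T.obj (A₀.obj X)).obj (B₀.obj Y)) ≅ (T'.obj (A.obj X)).obj (B.obj Y))

/-- Naturality in each variable of a family of comparison isomorphisms. -/
structure Natural₂ : Prop where
  left : ∀ {X X' : C₁} (f : X ⟶ X') (Y : C₂),
    G.map ((T.map (A₀.map f)).app (B₀.obj Y)) ≫ (η X' Y).hom =
      (η X Y).hom ≫ (T'.map (A.map f)).app (B.obj Y)
  right : ∀ (X : C₁) {Y Y' : C₂} (g : Y ⟶ Y'),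
    G.map ((T.obj (A₀.obj X)).map (B₀.map g)) ≫ (η X Y').hom =
      (η X Y).hom ≫ (T'.obj (A.obj X)).map (B.map g)

variable {η} (hη : Natural₂ T T' A₀ B₀ A B G η)

variable (L : CochainComplex C₁ ℤ) (E : CochainComplex C₂ ℤ)

/-- The comparison of bicomplexes. -/
noncomputable def bicomplexIso :
    map₂ G (((T.mapBifunctorHomologicalComplex (ComplexShape.up ℤ) (ComplexShape.up ℤ)).obj
        ((A₀.mapHomologicalComplex _).obj L)).obj ((B₀.mapHomologicalComplex _).obj E)) ≅
      ((T'.mapBifunctorHomologicalComplex (ComplexShape.up ℤ) (ComplexShape.up ℤ)).obj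
        ((A.mapHomologicalComplex _).obj L)).obj ((B.mapHomologicalComplex _).obj E) :=
  HomologicalComplex.Hom.isoOfComponents
    (fun p => HomologicalComplex.Hom.isoOfComponents (fun q => η (L.X p) (E.X q))
      fun q q' _ => (hη.right (L.X p) (E.d q q')).symm)
    fun p p' _ => HomologicalComplex.hom_ext _ _ fun q => (hη.left (L.d p p') (E.X q)).symm

/-- Functors with natural comparisons commute with total bifunctor complexes. -/
noncomputable def transferIso :
    (G.mapHomologicalComplex (ComplexShape.up ℤ)).obj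
        (HomologicalComplex.mapBifunctor ((A₀.mapHomologicalComplex _).obj L)
          ((B₀.mapHomologicalComplex _).obj E) T (ComplexShape.up ℤ)) ≅
      HomologicalComplex.mapBifunctor ((A.mapHomologicalComplex _).obj L)
        ((B.mapHomologicalComplex _).obj E) T' (ComplexShape.up ℤ) :=
  (mapTotalIso G _).symm ≪≫
    HomologicalComplex₂.total.mapIso (bicomplexIso T T' A₀ B₀ A B G hη L E) (ComplexShape.up ℤ)

theorem ι_transferIso (p q n : ℤ) (h : p + q = n) :
    G.map (HomologicalComplex.ιMapBifunctor ((A₀.mapHomologicalComplex _).obj L)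
          ((B₀.mapHomologicalComplex _).obj E) T (ComplexShape.up ℤ) p q n h) ≫
        (transferIso T T' A₀ B₀ A B G hη L E).hom.f n =
      (η (L.X p) (E.X q)).hom ≫ HomologicalComplex.ιMapBifunctor ((A.mapHomologicalComplex _).obj L)
          ((B.mapHomologicalComplex _).obj E) T' (ComplexShape.up ℤ) p q n h := by
  refine ((Category.assoc _ _ _).symm.trans (congrArg (· ≫ _) (ι_mapTotalIso_inv G _ p q n h))).trans ?_
  exact HomologicalComplex₂.ιTotal_map _ _ (bicomplexIso T T' A₀ B₀ A B G hη L E).hom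
    (ComplexShape.up ℤ) p q n h

theorem transferIso_naturality {L L' : CochainComplex C₁ ℤ} (f : L ⟶ L')
    {E E' : CochainComplex C₂ ℤ} (g : E ⟶ E') :
    (G.mapHomologicalComplex (ComplexShape.up ℤ)).map
        (HomologicalComplex.mapBifunctorMap ((A₀.mapHomologicalComplex _).map f)
          ((B₀.mapHomologicalComplex _).map g) T (ComplexShape.up ℤ)) ≫
        (transferIso T T' A₀ B₀ A B G hη L' E').hom =
      (transferIso T T' A₀ B₀ A B G hη L E).hom ≫
        HomologicalComplex.mapBifunctorMap ((A.mapHomologicalComplex _).map f)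
          ((B.mapHomologicalComplex _).map g) T' (ComplexShape.up ℤ) := by
  refine (cancel_epi (mapTotalIso G _).hom).1 ?_
  refine HomologicalComplex.hom_ext _ _ fun n => HomologicalComplex₂.total.hom_ext _ fun p q h => ?_
  simp only [HomologicalComplex.comp_f]
  rw [reassoc_of% (ι_mapTotalIso G _ p q n h), reassoc_of% (ι_mapTotalIso G _ p q n h)]
  refine Eq.trans ?_ ((Category.assoc _ _ _).symm.trans ((congrArg (· ≫ _)
    (ι_transferIso T T' A₀ B₀ A B G hη L E p q n h)).trans (Category.assoc _ _ _))).symm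
  refine Eq.trans ?_ (congrArg (_ ≫ ·)
    (HomologicalComplex.ι_mapBifunctorMap ((A.mapHomologicalComplex _).map f)
      ((B.mapHomologicalComplex _).map g) T' (ComplexShape.up ℤ) p q n h)).symm
  change G.map _ ≫ G.map _ ≫ _ = _
  refine (G.map_comp_assoc _ _ _).symm.trans ?_
  refine (congrArg (fun t => G.map t ≫ _) (HomologicalComplex.ι_mapBifunctorMap
    ((A₀.mapHomologicalComplex _).map f) ((B₀.mapHomologicalComplex _).map g) T
    (ComplexShape.up ℤ) p q n h)).trans ?_
  refine (G.map_comp_assoc _ _ _).trans ((congrArg (_ ≫ ·) ((G.map_comp_assoc _ _ _).trans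
    (congrArg (_ ≫ ·) (ι_transferIso T T' A₀ B₀ A B G hη L' E' p q n h)))).trans ?_)
  change G.map ((T.map (A₀.map (f.f p))).app (B₀.obj (E.X q))) ≫
    G.map ((T.obj (A₀.obj (L'.X p))).map (B₀.map (g.f q))) ≫ _ ≫ _ = _
  refine (congrArg (_ ≫ ·) ((Category.assoc _ _ _).symm.trans
    ((congrArg (· ≫ _) (hη.right (L'.X p) (g.f q))).trans (Category.assoc _ _ _)))).trans ?_
  exact (Category.assoc _ _ _).symm.trans
    ((congrArg (· ≫ _) (hη.left (f.f p) (E.X q))).trans (Category.assoc _ _ _))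

end Bifunctor

end Groth.Agent.KFlat
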