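import Mathlib.CategoryTheory.Adjunction.Additive
import Groth.Agent.Lib.KFlat.Module
import Groth.Agent.Lib.KFlat.Transfer
import Mathlib.Algebra.Category.ModuleCat.ChangeOfRings
import Mathlib.LinearAlgebra.TensorProduct.Tower

/-!
K-flatness is stable under extension of scalars (projection formula).
-/

set_option autoImplicit false
set_option linter.unusedSectionVars false

universe u

open CategoryTheory CategoryTheory.Limits
open scoped TensorProduct

namespace Groth.Agent.KFlat.Module

instance additive_extendScalars {R S : Type u} [CommRing R] [CommRing S] (φ : R →+* S) :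
    (ModuleCat.extendScalars.{u, u, u} φ).Additive :=
  (ModuleCat.extendRestrictScalarsAdj φ).left_adjoint_additive

variable {R S : Type u} [CommRing R] [CommRing S]

section

variable (φ : R →+* S)

/-- `L ⊗_S (S ⊗_R M) ≅ L ⊗_R M`, over `R`. -/
noncomputable def projEquiv (L : ModuleCat.{u} S) (M : ModuleCat.{u} R) :
    (ModuleCat.restrictScalars φ).obj
      (((TM S).obj L).obj ((ModuleCat.extendScalars φ).obj M)) ≅
    ((TM R).obj ((ModuleCat.restrictScalars φ).obj L)).obj M :=
  letI := φ.toAlgebra
  letI : Module R L := Module.compHom L φ
  haveI : IsScalarTower R S L := IsScalarTower.of_algebraMap_smul fun _ _ => rfl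
  LinearEquiv.toModuleIso
    (show (ModuleCat.restrictScalars φ).obj
        (((TM S).obj L).obj ((ModuleCat.extendScalars φ).obj M)) ≃ₗ[R]
      (((TM R).obj ((ModuleCat.restrictScalars φ).obj L)).obj M : ModuleCat.{u} R) from
      { (TensorProduct.AlgebraTensorModule.cancelBaseChange R S S L M).toAddEquiv with
        map_smul' := fun r z => by
          refine ((TensorProduct.AlgebraTensorModule.cancelBaseChange R S S L M).map_smul
            (φ r) z).trans ?_
          exact algebraMap_smul S r _ })

theorem natural_projEquiv :
    Natural₂ (TM S) (TM R) (𝟭 _) (ModuleCat.extendScalars φ)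
      (ModuleCat.restrictScalars φ) (𝟭 _)
      (ModuleCat.restrictScalars φ) (projEquiv φ) where
  left {L L'} f M := ModuleCat.hom_ext (LinearMap.ext fun z => by
    induction z using TensorProduct.induction_on with
    | zero => exact ((map_zero _).trans (map_zero _).symm)
    | tmul l t =>
      induction t using TensorProduct.induction_on with
      | zero =>
        refine (congrArg _ (TensorProduct.tmul_zero ((ModuleCat.extendScalars φ).obj M) l)).trans ?_
        refine Eq.trans ?_ (congrArg _ (TensorProduct.tmul_zero ((ModuleCat.extendScalars φ).obj M) l)).symm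
        exact (map_zero _).trans (map_zero _).symm
      | tmul s m =>
        exact congrArg (fun a : (ModuleCat.restrictScalars φ).obj L' => a ⊗ₜ[R] m)
          (f.hom.map_smul (s : S) l).symm
      | add a b ha hb =>
        refine (congrArg _ (TensorProduct.tmul_add (R := S) (N := (ModuleCat.extendScalars φ).obj M) l a b)).trans ?_
        refine Eq.trans ?_ (congrArg _ (TensorProduct.tmul_add (R := S) (N := (ModuleCat.extendScalars φ).obj M) l a b)).symm
        exact ((map_add _ _ _).trans (congrArg₂ (· + ·) ha hb)).trans (map_add _ _ _).symm
    | add a b ha hb => exact ((map_add _ _ _).trans (congrArg₂ (· + ·) ha hb)).trans (map_add _ _ _).symm)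
  right L {M M'} g := ModuleCat.hom_ext (LinearMap.ext fun z => by
    induction z using TensorProduct.induction_on with
    | zero => exact ((map_zero _).trans (map_zero _).symm)
    | tmul l t =>
      induction t using TensorProduct.induction_on with
      | zero =>
        refine (congrArg _ (TensorProduct.tmul_zero ((ModuleCat.extendScalars φ).obj M) l)).trans ?_
        refine Eq.trans ?_ (congrArg _ (TensorProduct.tmul_zero ((ModuleCat.extendScalars φ).obj M) l)).symm
        exact (map_zero _).trans (map_zero _).symm
      | tmul s m => rfl
      | add a b ha hb =>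
        refine (congrArg _ (TensorProduct.tmul_add (R := S) (N := (ModuleCat.extendScalars φ).obj M) l a b)).trans ?_
        refine Eq.trans ?_ (congrArg _ (TensorProduct.tmul_add (R := S) (N := (ModuleCat.extendScalars φ).obj M) l a b)).symm
        exact ((map_add _ _ _).trans (congrArg₂ (· + ·) ha hb)).trans (map_add _ _ _).symm
    | add a b ha hb => exact ((map_add _ _ _).trans (congrArg₂ (· + ·) ha hb)).trans (map_add _ _ _).symm)

/-- The projection formula for total tensor products. -/
noncomputable def projCxIso (L : CochainComplex (ModuleCat.{u} S) ℤ) (K : CochainComplex (ModuleCat.{u} R) ℤ) :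
    ((ModuleCat.restrictScalars φ).mapHomologicalComplex (ComplexShape.up ℤ)).obj
        (((tcx (TM S)).obj L).obj
          (((ModuleCat.extendScalars φ).mapHomologicalComplex (ComplexShape.up ℤ)).obj K)) ≅
      ((tcx (TM R)).obj
        (((ModuleCat.restrictScalars φ).mapHomologicalComplex (ComplexShape.up ℤ)).obj L)).obj K :=
  transferIso (TM S) (TM R) (𝟭 _) (ModuleCat.extendScalars φ)
    (ModuleCat.restrictScalars φ) (𝟭 _)
    (ModuleCat.restrictScalars φ) (natural_projEquiv φ) L K

theorem acyclic_restrictScalars_iff (L : CochainComplex (ModuleCat.{u} S) ℤ) :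
    (((ModuleCat.restrictScalars φ).mapHomologicalComplex (ComplexShape.up ℤ)).obj L).Acyclic ↔
      L.Acyclic :=
  forall_congr' fun n => (L.sc n).exact_map_iff_of_faithful (ModuleCat.restrictScalars φ)

/-- Extension of scalars of a K-flat complex is K-flat. -/
theorem isKFlat_extendScalars {K : CochainComplex (ModuleCat.{u} R) ℤ} (hK : IsKFlat (TM R) K) :
    IsKFlat (TM S) (((ModuleCat.extendScalars φ).mapHomologicalComplex (ComplexShape.up ℤ)).obj K) :=
  fun L hL => (acyclic_restrictScalars_iff φ _).1
    (acyclic_of_iso (hK _ ((acyclic_restrictScalars_iff φ L).2 hL)) (projCxIso φ L K).symm)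

end

end Groth.Agent.KFlat.Module
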