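import Groth.Agent.Lib.KFlat.StalkCx
import Groth.Agent.Lib.KFlat.BaseChange
import Groth.Agent.Lib.TensorMod.Tilde
import Mathlib.RingTheory.Localization.BaseChange

/-!
Stalks of `M^~`; the complex associated to a K-flat complex of modules is K-flat.
-/

set_option autoImplicit false
set_option linter.unusedSectionVars false
set_option backward.isDefEq.respectTransparency false

universe u

open CategoryTheory CategoryTheory.Limits AlgebraicGeometry
open scoped TensorProduct

namespace Groth.Agent.KFlat.Sch

open Groth.Agent.M2

variable (R : CommRingCat.{u}) (x : PrimeSpectrum R)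

/-- The stalk of `M^~` is the base change of `M` to the local ring, naturally. -/
noncomputable def tildeStalkNatIso :
    tilde.functor R ⋙ stF (X := Spec R) x ≅
      ModuleCat.extendScalars (StructureSheaf.toStalk R x).hom := by
  let A := ((Spec R).presheaf.stalk x : Type u)
  letI : Algebra R A := (StructureSheaf.toStalk R x).hom.toAlgebra
  haveI : IsLocalization x.asIdeal.primeCompl A := by
    exact (inferInstance : IsLocalization.AtPrime ((Spec.structureSheaf R).presheaf.stalk x) x.asIdeal)
  haveI hT : ∀ P : ModuleCat.{u} R, IsScalarTower R A ((tilde P).presheaf.stalk x) := fun P =>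
    ⟨fun r a z => by
      rw [Algebra.smul_def, mul_smul]
      rfl⟩
  haveI hloc : ∀ P : ModuleCat.{u} R, IsLocalizedModule x.asIdeal.primeCompl (tilde.toStalk P x).hom :=
    fun P => inferInstanceAs (IsLocalizedModule x.asIdeal.primeCompl (StructureSheaf.toStalkₗ ..))
  let hb : ∀ P : ModuleCat.{u} R, IsBaseChange A (tilde.toStalk P x).hom := fun P =>
    IsLocalizedModule.isBaseChange x.asIdeal.primeCompl A _
  refine (NatIso.ofComponents (F := ModuleCat.extendScalars (StructureSheaf.toStalk R x).hom)
    (G := tilde.functor R ⋙ stF (X := Spec R) x)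
    (fun P => LinearEquiv.toModuleIso
      (X₁ := (A ⊗[R] P : Type u))
      (X₂ := ((tilde P).presheaf.stalk x : Type u))
      (hb P).equiv) fun {P Q} g => ?_).symm
  refine ModuleCat.hom_ext (LinearMap.ext fun t => ?_)
  induction t using TensorProduct.induction_on with
  | zero => exact (map_zero _).trans (map_zero _).symm
  | add a b ha hb => exact ((map_add _ _ _).trans (congrArg₂ (· + ·) ha hb)).trans (map_add _ _ _).symm
  | tmul s m =>
    refine ((hb Q).equiv_tmul s (g m)).trans ?_
    refine Eq.trans ?_ (congrArg (stMap ((pmF (Spec R)).map ((tilde.functor R).map g)) x)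
      ((hb P).equiv_tmul s m)).symm
    refine Eq.trans ?_ (LinearMap.map_smul _ _ _).symm
    refine congrArg (fun z : ((tilde Q).presheaf.stalk x : Type u) => (show A from s) • z) ?_
    refine Eq.trans ?_ (stMap_sg ((pmF (Spec R)).map ((tilde.functor R).map g)) (x := x) (U := ⊤)
      trivial (gsec P m)).symm
    exact congrArg ((tilde Q).presheaf.germ ⊤ x trivial)
      (ConcreteCategory.congr_hom (tilde.toOpen_map_app g ⊤) m).symm

theorem isKFlat_tilde {K : CochainComplex (ModuleCat.{u} R) ℤ} (hK : IsKFlat (Module.TM R) K) :
    IsKFlat (TX (Spec R)) (((tilde.functor R).mapHomologicalComplex (ComplexShape.up ℤ)).obj K) :=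
  isKFlat_of_stalks fun x =>
    (Module.isKFlat_extendScalars (StructureSheaf.toStalk R x).hom hK).of_iso
      ((NatIso.mapHomologicalComplex (tildeStalkNatIso R x) (ComplexShape.up ℤ)).symm.app K)

end Groth.Agent.KFlat.Sch
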