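import Groth.Agent.Lib.KFlat.Scheme
import Groth.Agent.Lib.KFlat.Transfer

/-!
Symmetry of the tensor product: K-flatness on either side agree.
-/

set_option autoImplicit false
set_option linter.unusedSectionVars false

universe u

open CategoryTheory CategoryTheory.Limits AlgebraicGeometry MonoidalCategory

namespace Groth.Agent.KFlat.Sch

variable {X : Scheme.{u}}

theorem natural_flipObjIso :
    Natural₂ (TX X) (TX X).flip (𝟭 _) (𝟭 _) (𝟭 _) (𝟭 _) (𝟭 _)
      (fun M N => (Site.flipObjIso X.sheaf M).app N) where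
  left {M M'} f N := by
    change (ModSite.shPre X.sheaf).map _ ≫ (ModSite.shPre X.sheaf).map _ =
      (ModSite.shPre X.sheaf).map _ ≫ (ModSite.shPre X.sheaf).map _
    rw [← Functor.map_comp, ← Functor.map_comp]
    exact congrArg (ModSite.shPre X.sheaf).map
      (BraidedCategory.braiding_naturality_left ((ModSite.toPre X.sheaf).map f)
        ((ModSite.toPre X.sheaf).obj N))
  right M {N N'} g := (Site.flipObjIso X.sheaf M).hom.naturality g

/-- `L ⊗ E ≅ E ⊗ L`, termwise. -/
noncomputable def symmCxIso (L E : CochainComplex X.Modules ℤ) :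
    ((tcx (TX X)).obj L).obj E ≅ ((tcx (TX X).flip).obj L).obj E :=
  ((Functor.mapHomologicalComplexIdIso X.Modules (ComplexShape.up ℤ)).app _).symm ≪≫
    transferIso (TX X) (TX X).flip (𝟭 _) (𝟭 _) (𝟭 _) (𝟭 _) (𝟭 _) natural_flipObjIso L E

theorem isKFlat_flip_iff' (E : CochainComplex X.Modules ℤ) :
    IsKFlat (TX X).flip E ↔ IsKFlat (TX X) E :=
  ⟨fun h L hL => acyclic_of_iso (h L hL) (symmCxIso L E).symm,
    fun h L hL => acyclic_of_iso (h L hL) (symmCxIso L E)⟩

end Groth.Agent.KFlat.Sch
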