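import Groth.Agent.Lib.KFlat.TorTriangle
import Groth.Agent.Lib.KFlat.Symm
import Groth.Agent.Lib.TensorMod.Invertible
import Groth.Agent.Lib.ModM1.LocFree
import Groth.Agent.Lib.ModM1.Local

/-!
The derived pullback preserves pseudo-coherent and perfect objects.
-/

set_option autoImplicit false
set_option linter.unusedSectionVars false

universe u

open CategoryTheory CategoryTheory.Limits CategoryTheory.Pretriangulated AlgebraicGeometry

attribute [local instance] HasDerivedCategory.standard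

namespace Groth.Agent.KFlat.Sch

variable {X Y : Scheme.{u}} (f : Y ⟶ X)

theorem exactAt_pullback_of_isLE {K : CochainComplex X.Modules ℤ} (hK : IsAdapted K) (b : ℤ)
    [K.IsLE b] (i : ℤ) (hi : b < i) :
    (((Scheme.Modules.pullback f).mapHomologicalComplex (ComplexShape.up ℤ)).obj K).ExactAt i := by
  have := quasiIso_resπ (cover X) (K.truncLE b)
  have := resObj_isStrictlyLE (cover X) (K.truncLE b) b
  have := quasiIso_pullback_map f (resπ (cover X) (K.truncLE b) ≫ K.ιTruncLE b) (isAdapted_resObj _) hK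
  rw [← exactAt_iff_of_quasiIsoAt
    (((Scheme.Modules.pullback f).mapHomologicalComplex (ComplexShape.up ℤ)).map
      (resπ (cover X) (K.truncLE b) ≫ K.ιTruncLE b)) i, HomologicalComplex.exactAt_iff]
  exact ShortComplex.exact_of_isZero_X₂ _
    ((Scheme.Modules.pullback f).map_isZero ((resObj (cover X) (K.truncLE b)).isZero_of_isStrictlyLE b i hi))

theorem isZero_HD_lpull [DCoh.HasLpull f] (E : DCoh.D X) (b : ℤ)
    (hE : ∀ i, b < i → IsZero (DCoh.HD E i)) (i : ℤ) (hi : b < i) :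
    IsZero (DCoh.HD ((DCoh.Lpull f).obj E) i) := by
  obtain ⟨K₀, ⟨e₀⟩⟩ := Functor.EssSurj.mem_essImage (F := (DerivedCategory.Q :
    CochainComplex X.Modules ℤ ⥤ _)) E
  have := quasiIso_resπ (cover X) K₀
  let e : DCoh.toD X (resObj (cover X) K₀) ≅ E := asIso (DerivedCategory.Q.map (resπ (cover X) K₀)) ≪≫ e₀
  have : (resObj (cover X) K₀).IsLE b := (CochainComplex.isLE_iff _ b).2 fun j hj =>
    (isZero_HD_toD_iff _ j).1 ((isZero_HD_iff_of_iso e j).2 (hE j hj))
  exact (isZero_HD_iff_of_iso ((DCoh.Lpull f).mapIso e.symm ≪≫ lpullObjIso f _ (isAdapted_resObj _)) i).2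
    ((isZero_HD_toD_iff _ i).2 (exactAt_pullback_of_isLE f (isAdapted_resObj _) b i hi))

theorem homology_lpull_map [DCoh.HasLpull f] {A B : DCoh.D X} (α : A ⟶ B) (m : ℤ)
    (hiso : ∀ i, m < i → IsIso ((DerivedCategory.homologyFunctor _ i).map α))
    (hepi : Epi ((DerivedCategory.homologyFunctor _ m).map α)) :
    (∀ i, m < i → IsIso ((DerivedCategory.homologyFunctor _ i).map ((DCoh.Lpull f).map α))) ∧
      Epi ((DerivedCategory.homologyFunctor _ m).map ((DCoh.Lpull f).map α)) := by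
  obtain ⟨C, g, h, hT⟩ := distinguished_cocone_triangle α
  have hepi' : ∀ i, m ≤ i → Epi ((DerivedCategory.homologyFunctor X.Modules i).map α) := fun i hi => by
    rcases eq_or_lt_of_le hi with rfl | hi
    · exact hepi
    · have := hiso i hi; infer_instance
  have hC : ∀ i, m - 1 < i → IsZero (DCoh.HD C i) := fun i hi =>
    (DerivedCategory.HomologySequence.exact₃ _ hT i (i + 1) rfl).isZero_of_both_zeros
      ((DerivedCategory.HomologySequence.epi_homologyMap_mor₁_iff _ hT i).1 (hepi' i (by omega)))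
      ((DerivedCategory.HomologySequence.mono_homologyMap_mor₁_iff _ hT i (i + 1) rfl).1
        (have := hiso (i + 1) (by omega); inferInstanceAs (Mono ((DerivedCategory.homologyFunctor X.Modules (i + 1)).map α))))
  obtain ⟨T', hT', e₁, e₂, e₃, hm⟩ := exists_triangle_lpull f (Triangle.mk α g h) hT
  have hz : ∀ i, m - 1 < i → IsZero (DCoh.HD T'.obj₃ i) := fun i hi =>
    (isZero_HD_iff_of_iso e₃ i).2 (isZero_HD_lpull f C (m - 1) hC i hi)
  have hL : ∀ i, (DerivedCategory.homologyFunctor Y.Modules i).map ((DCoh.Lpull f).map α) =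
      (DerivedCategory.homologyFunctor Y.Modules i).map e₁.inv ≫
        (DerivedCategory.homologyFunctor Y.Modules i).map T'.mor₁ ≫
          (DerivedCategory.homologyFunctor Y.Modules i).map e₂.hom := fun i => by
    rw [← Functor.map_comp, ← Functor.map_comp, hm, Iso.inv_hom_id_assoc]
    rfl
  have hE : ∀ i, m ≤ i → Epi ((DerivedCategory.homologyFunctor Y.Modules i).map T'.mor₁) := fun i hi =>
    (DerivedCategory.HomologySequence.epi_homologyMap_mor₁_iff _ hT' i).2
      ((hz i (by omega)).eq_of_tgt _ _)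
  refine ⟨fun i hi => ?_, ?_⟩
  · have := hE i hi.le
    have : Mono ((DerivedCategory.homologyFunctor Y.Modules i).map T'.mor₁) :=
      (DerivedCategory.HomologySequence.mono_homologyMap_mor₁_iff _ hT' (i - 1) i (by omega)).2
        ((hz (i - 1) (by omega)).eq_of_src _ _)
    have := isIso_of_mono_of_epi ((DerivedCategory.homologyFunctor Y.Modules i).map T'.mor₁)
    rw [hL i]
    exact IsIso.comp_isIso' ((Functor.mapIso _ e₁).isIso_inv) (IsIso.comp_isIso' this ((Functor.mapIso _ e₂).isIso_hom))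
  · have h1 := hE m le_rfl
    rw [hL m]
    exact @epi_comp _ _ _ _ _ _ (@IsIso.epi_of_iso _ _ _ _ _ ((Functor.mapIso _ e₁).isIso_inv)) _ (@epi_comp _ _ _ _ _ _ h1 _
      (@IsIso.epi_of_iso _ _ _ _ _ ((Functor.mapIso _ e₂).isIso_hom)))

theorem isFlat_of_isFinLocFree {M : X.Modules} (h : FlatMod.IsFinLocFree M) : FlatMod.IsFlat M := fun x =>
  have : _root_.Module.Free (X.presheaf.stalk x) (M.presheaf.stalk x) := ((M1.isFinLocFree_iff M).1 h).2 x
  _root_.Module.Flat.of_free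

theorem isAdapted_of_isStrictlyPerfect {E : CochainComplex X.Modules ℤ} (hE : DCoh.IsStrictlyPerfect E) :
    IsAdapted E := by
  obtain ⟨⟨a, b, h⟩, hfree⟩ := hE
  exact isAdapted_of_vanishesOutside E h fun n => isFlat_of_isFinLocFree (hfree n)

theorem isStrictlyPerfect_pullback {E : CochainComplex X.Modules ℤ} (hE : DCoh.IsStrictlyPerfect E) :
    DCoh.IsStrictlyPerfect
      (((Scheme.Modules.pullback f).mapHomologicalComplex (ComplexShape.up ℤ)).obj E) := by
  obtain ⟨⟨a, b, h⟩, hfree⟩ := hE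
  exact ⟨⟨a, b, fun i hi => (Scheme.Modules.pullback f).map_isZero (h i hi)⟩,
    fun i => M2.isFinLocFree_pullback f (hfree i)⟩

theorem isAdapted_pullback {K : CochainComplex X.Modules ℤ} (hK : IsAdapted K) :
    IsAdapted (((Scheme.Modules.pullback f).mapHomologicalComplex (ComplexShape.up ℤ)).obj K) :=
  ⟨isKFlat_pullback f hK.1, (isKFlat_flip_iff' _).2 (isKFlat_pullback f hK.1),
    fun n => isFlat_pullback f (hK.2.2 n)⟩

theorem IsAdapted.of_iso {K K' : CochainComplex X.Modules ℤ} (hK : IsAdapted K) (e : K ≅ K') :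
    IsAdapted K' :=
  ⟨hK.1.of_iso e, hK.2.1.of_iso e, fun n =>
    (hK.2.2 n).of_iso ((HomologicalComplex.eval _ _ n).mapIso e.symm)⟩

/-- Restriction of the pullback. -/
noncomputable def pullbackRestrictNatIso (V : X.Opens) :
    Scheme.Modules.pullback f ⋙ Scheme.Modules.restrictFunctor (f ⁻¹ᵁ V).ι ≅
      Scheme.Modules.restrictFunctor V.ι ⋙ Scheme.Modules.pullback (f ∣_ V) :=
  Functor.isoWhiskerLeft (Scheme.Modules.pullback f)
      (Scheme.Modules.restrictFunctorIsoPullback (f ⁻¹ᵁ V).ι) ≪≫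
    Scheme.Modules.pullbackComp (f ⁻¹ᵁ V).ι f ≪≫
    Scheme.Modules.pullbackCongr (morphismRestrict_ι f V).symm ≪≫
    (Scheme.Modules.pullbackComp (f ∣_ V) V.ι).symm ≪≫
    Functor.isoWhiskerRight (Scheme.Modules.restrictFunctorIsoPullback V.ι).symm
      (Scheme.Modules.pullback (f ∣_ V))

theorem isAdapted_restrict {K : CochainComplex X.Modules ℤ} (hK : IsAdapted K) (V : X.Opens) :
    IsAdapted ((DCoh.restrictCx V).obj K) :=
  (isAdapted_pullback V.ι hK).of_iso
    ((NatIso.mapHomologicalComplex (Scheme.Modules.restrictFunctorIsoPullback V.ι).symm _).app K)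

/-- Isomorphic objects of the derived category have isomorphic restrictions. -/
noncomputable def restrictToDIso (V : X.Opens) {K L : CochainComplex X.Modules ℤ}
    (e : DCoh.toD X K ≅ DCoh.toD X L) :
    DCoh.toD V ((DCoh.restrictCx V).obj K) ≅ DCoh.toD V ((DCoh.restrictCx V).obj L) :=
  ((Scheme.Modules.restrictFunctor V.ι).mapDerivedCategoryFactors.app K).symm ≪≫
    (Scheme.Modules.restrictFunctor V.ι).mapDerivedCategory.mapIso e ≪≫
    (Scheme.Modules.restrictFunctor V.ι).mapDerivedCategoryFactors.app L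

/-- A representative of `Lf^* E` restricted to `f⁻¹ V`. -/
noncomputable def restrictLpullIso [DCoh.HasLpull f] (V : X.Opens) {R : CochainComplex X.Modules ℤ}
    (hR : IsAdapted R) [DCoh.HasLpull (f ∣_ V)] {F' : CochainComplex Y.Modules ℤ} {E : DCoh.D X}
    (eR : DCoh.toD X R ≅ E) (e' : DCoh.toD Y F' ≅ (DCoh.Lpull f).obj E) :
    DCoh.toD (f ⁻¹ᵁ V) ((DCoh.restrictCx (f ⁻¹ᵁ V)).obj F') ≅
      (DCoh.Lpull (f ∣_ V)).obj (DCoh.toD V ((DCoh.restrictCx V).obj R)) :=
  restrictToDIso (f ⁻¹ᵁ V) (e' ≪≫ (DCoh.Lpull f).mapIso eR.symm ≪≫ lpullObjIso f R hR) ≪≫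
    DerivedCategory.Q.mapIso ((NatIso.mapHomologicalComplex (pullbackRestrictNatIso f V) _).app R) ≪≫
    (lpullObjIso (f ∣_ V) _ (isAdapted_restrict hR V)).symm

theorem exists_adapted_rep (E : DCoh.D X) :
    ∃ R : CochainComplex X.Modules ℤ, IsAdapted R ∧ Nonempty (DCoh.toD X R ≅ E) := by
  obtain ⟨K₀, ⟨e₀⟩⟩ := Functor.EssSurj.mem_essImage (F := (DerivedCategory.Q :
    CochainComplex X.Modules ℤ ⥤ _)) E
  have := quasiIso_resπ (cover X) K₀
  exact ⟨resObj (cover X) K₀, isAdapted_resObj K₀,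
    ⟨asIso (DerivedCategory.Q.map (resπ (cover X) K₀)) ≪≫ e₀⟩⟩

theorem isPerfect_lpull [DCoh.HasLpull f] {E : DCoh.D X} (hE : DCoh.IsPerfect E) :
    DCoh.IsPerfect ((DCoh.Lpull f).obj E) := by
  intro y
  obtain ⟨R, hR, ⟨eR⟩⟩ := exists_adapted_rep E
  obtain ⟨V, hV, h⟩ := hE (f y)
  obtain ⟨P, hP, ⟨β⟩⟩ := h R ⟨eR⟩
  have := hasLpull (f ∣_ V)
  exact ⟨f ⁻¹ᵁ V, hV, fun F' ⟨e'⟩ => ⟨_, isStrictlyPerfect_pullback (f ∣_ V) hP,
    ⟨restrictLpullIso f V hR eR e' ≪≫ (DCoh.Lpull (f ∣_ V)).mapIso β ≪≫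
      lpullObjIso (f ∣_ V) P (isAdapted_of_isStrictlyPerfect hP)⟩⟩⟩

theorem isPseudoCoherent_lpull [DCoh.HasLpull f] {m : ℤ} {E : DCoh.D X}
    (hE : DCoh.IsPseudoCoherentD m E) : DCoh.IsPseudoCoherentD m ((DCoh.Lpull f).obj E) := by
  intro y
  obtain ⟨R, hR, ⟨eR⟩⟩ := exists_adapted_rep E
  obtain ⟨V, hV, h⟩ := hE (f y)
  obtain ⟨P, α, hP, hiso, hepi⟩ := h R ⟨eR⟩
  have := hasLpull (f ∣_ V)
  obtain ⟨hiso', hepi'⟩ := homology_lpull_map (f ∣_ V) α m hiso hepi
  refine ⟨f ⁻¹ᵁ V, hV, fun F' ⟨e'⟩ => ⟨_, (lpullObjIso (f ∣_ V) P (isAdapted_of_isStrictlyPerfect hP)).inv ≫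
    (DCoh.Lpull (f ∣_ V)).map α ≫ (restrictLpullIso f V hR eR e').inv,
    isStrictlyPerfect_pullback (f ∣_ V) hP, fun i hi => ?_, ?_⟩⟩
  · have := hiso' i hi
    rw [Functor.map_comp, Functor.map_comp]
    infer_instance
  · rw [Functor.map_comp, Functor.map_comp]
    infer_instance

end Groth.Agent.KFlat.Sch
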