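import Groth.Agent.Lib.TensorMod.Summand
import Groth.Agent.Lib.TensorMod.Invertible
import Mathlib.CategoryTheory.Preadditive.Biproducts

/-!
Finite sums of finite locally free modules.
-/

set_option autoImplicit false
set_option linter.unusedSectionVars false

universe u

open CategoryTheory CategoryTheory.Limits AlgebraicGeometry

attribute [local instance] Abelian.hasFiniteBiproducts

namespace Groth.Agent.KFlat.Sch

variable {X : Scheme.{u}}

/-- `O^m ⊞ O^n ≅ O^(m+n)`. -/
noncomputable def freeModAddIso (X : Scheme.{u}) (m n : ℕ) :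
    FlatMod.freeMod X m ⊞ FlatMod.freeMod X n ≅ FlatMod.freeMod X (m + n) where
  hom := biprod.desc
    (Sigma.desc fun i => Sigma.ι (fun _ : Fin (m + n) => Coh.structureModule X) (Fin.castAdd n i))
    (Sigma.desc fun i => Sigma.ι (fun _ : Fin (m + n) => Coh.structureModule X) (Fin.natAdd m i))
  inv := Sigma.desc fun i => Fin.addCases
    (fun a => Sigma.ι (fun _ : Fin m => Coh.structureModule X) a ≫ biprod.inl)
    (fun b => Sigma.ι (fun _ : Fin n => Coh.structureModule X) b ≫ biprod.inr) i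
  hom_inv_id := biprod.hom_ext' _ _ (Sigma.hom_ext _ _ fun i => by simp)
    (Sigma.hom_ext _ _ fun i => by simp)
  inv_hom_id := Sigma.hom_ext _ _ fun i => by
    refine Fin.addCases (fun a => ?_) (fun b => ?_) i <;> simp

theorem isFinLocFree_freeMod (X : Scheme.{u}) (n : ℕ) : FlatMod.IsFinLocFree (FlatMod.freeMod X n) :=
  M2.isFinLocFree_of_ofRank (M2.isFinLocFreeOfRank_freeMod X n)

theorem isFinLocFree_of_isZero {M : X.Modules} (h : IsZero M) : FlatMod.IsFinLocFree M :=
  M2.isFinLocFree_of_retract (isFinLocFree_freeMod X 0) 0 0 (h.eq_of_src _ _)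

theorem isFinLocFree_biprod {M N : X.Modules} (hM : FlatMod.IsFinLocFree M)
    (hN : FlatMod.IsFinLocFree N) : FlatMod.IsFinLocFree (M ⊞ N) := fun y => by
  obtain ⟨U, m, hU, ⟨a⟩⟩ := hM y
  obtain ⟨V, n, hV, ⟨b⟩⟩ := hN y
  obtain ⟨a'⟩ := M2.nonempty_free_mono (inf_le_left : U ⊓ V ≤ U) a
  obtain ⟨b'⟩ := M2.nonempty_free_mono (inf_le_right : U ⊓ V ≤ V) b
  have := preservesBinaryBiproducts_of_preservesBinaryCoproducts
    (Scheme.Modules.restrictFunctor (U ⊓ V).ι)
  exact ⟨U ⊓ V, m + n, ⟨hU, hV⟩, ⟨(Scheme.Modules.restrictFunctor (U ⊓ V).ι).mapBiprod M N ≪≫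
    biprod.mapIso a' b' ≪≫ freeModAddIso _ m n⟩⟩

theorem isFinLocFree_biproduct : ∀ {k : ℕ} (A : Fin k → X.Modules),
    (∀ j, FlatMod.IsFinLocFree (A j)) → FlatMod.IsFinLocFree (⨁ A)
  | 0, A, _ => isFinLocFree_of_isZero (by
      rw [IsZero.iff_id_eq_zero]
      exact biproduct.hom_ext _ _ fun j => j.elim0)
  | k + 1, A, h => by
      refine M2.isFinLocFree_of_retract
        (isFinLocFree_biprod (h 0) (isFinLocFree_biproduct (fun j => A j.succ) fun j => h j.succ))
        (biprod.lift (biproduct.π A 0) (biproduct.lift fun j => biproduct.π A j.succ))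
        (biprod.desc (biproduct.ι A 0) (biproduct.desc fun j => biproduct.ι A j.succ)) ?_
      rw [biprod.lift_desc, biproduct.lift_desc]
      exact (Fin.sum_univ_succ fun j => biproduct.π A j ≫ biproduct.ι A j).symm.trans biproduct.total

/-- A retract of a finite sum. -/
theorem isFinLocFree_of_finite_sum {M : X.Modules} {k : ℕ} (A : Fin k → X.Modules)
    (hA : ∀ j, FlatMod.IsFinLocFree (A j)) (i : M ⟶ ⨁ A) (r : ⨁ A ⟶ M) (h : i ≫ r = 𝟙 M) :
    FlatMod.IsFinLocFree M :=
  M2.isFinLocFree_of_retract (isFinLocFree_biproduct A hA) i r h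

end Groth.Agent.KFlat.Sch
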