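import Groth.Agent.Lib.KFlat.LpullTensor
import Groth.Agent.Lib.KFlat.LpullPC
import Groth.Agent.Lib.KFlat.FinLocFree

/-!
The derived tensor product of perfect objects is perfect.
-/

set_option autoImplicit false
set_option linter.unusedSectionVars false

universe u

open CategoryTheory CategoryTheory.Limits AlgebraicGeometry

attribute [local instance] HasDerivedCategory.standard
attribute [local instance] Abelian.hasFiniteBiproducts

namespace Groth.Agent.KFlat.Sch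

variable {X : Scheme.{u}}

theorem quasiIso_tcx_map₁ (E : CochainComplex X.Modules ℤ) {A B : CochainComplex X.Modules ℤ}
    (φ : A ⟶ B) [QuasiIso φ] (hA : IsKFlat (TX X) A) (hB : IsKFlat (TX X) B) :
    QuasiIso (((tcx (TX X)).map φ).app E) := by
  have h := quasiIso_map₂' (T := (TX X).flip) (cover X) (fun M => (isFlat_cover M).flip) φ
    ((isKFlat_flip_iff' _).2 hA) ((isKFlat_flip_iff' _).2 hB) E
  exact (quasiIso_iff_of_arrow_mk_iso _ _ (Arrow.isoMk (flipIso (TX X) E A) (flipIso (TX X) E B)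
    (HomologicalComplex.mapBifunctorFlipIso_hom_naturality φ (𝟙 E) (TX X) (ComplexShape.up ℤ)).symm)).1 h

theorem hasLTensorCx (E : CochainComplex X.Modules ℤ) : DCoh.HasLTensorCx E :=
  hasLeftDerivedFunctor_comp_Q (cover X) ((tcx (TX X)).flip.obj E) (fun K => IsKFlat (TX X) K)
    (fun G => (isAdapted_resObj G).1) fun φ _ hA hB => quasiIso_tcx_map₁ E φ hA hB

theorem nonempty_tcx_comm (L E : CochainComplex X.Modules ℤ) :
    Nonempty (((tcx (TX X)).obj L).obj E ≅ ((tcx (TX X)).obj E).obj L) :=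
  ⟨symmCxIso L E ≪≫ flipIso (TX X) L E⟩

/-- Tensor products of K-flat complexes only depend on the objects of the derived category. -/
theorem nonempty_toD_tcx_congr {A A' B B' : CochainComplex X.Modules ℤ} (hA : IsKFlat (TX X) A)
    (hA' : IsKFlat (TX X) A') (hB : IsKFlat (TX X) B) (hB' : IsKFlat (TX X) B')
    (a : DCoh.toD X A ≅ DCoh.toD X A') (b : DCoh.toD X B ≅ DCoh.toD X B') :
    Nonempty (DCoh.toD X (((tcx (TX X)).obj A).obj B) ≅ DCoh.toD X (((tcx (TX X)).obj A').obj B')) := by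
  have := hasLTensorCx B
  have := hasLTensorCx A'
  obtain ⟨a₁⟩ := nonempty_lTensorCxObjIso B A hA
  obtain ⟨a₂⟩ := nonempty_lTensorCxObjIso B A' hA'
  obtain ⟨b₁⟩ := nonempty_lTensorCxObjIso A' B hB
  obtain ⟨b₂⟩ := nonempty_lTensorCxObjIso A' B' hB'
  obtain ⟨c₁⟩ := nonempty_tcx_comm A' B
  obtain ⟨c₂⟩ := nonempty_tcx_comm B' A'
  exact ⟨a₁.symm ≪≫ (DCoh.LTensorCx B).mapIso a ≪≫ a₂ ≪≫ DerivedCategory.Q.mapIso c₁ ≪≫ b₁.symm ≪≫
    (DCoh.LTensorCx A').mapIso b ≪≫ b₂ ≪≫ DerivedCategory.Q.mapIso c₂⟩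

theorem eqToHom_ιt (P Q : CochainComplex X.Modules ℤ) (n : ℤ) {p p' q q' : ℤ} (hp : p' = p) (hq : q' = q)
    (h : p + q = n) (h' : p' + q' = n)
    (e : ((TX X).obj (P.X p)).obj (Q.X q) = ((TX X).obj (P.X p')).obj (Q.X q')) :
    eqToHom e ≫ ιt (TX X) P Q p' q' n h' = ιt (TX X) P Q p q n h := by
  subst hp hq
  exact Category.id_comp _

theorem isStrictlyPerfect_tcx {P Q : CochainComplex X.Modules ℤ} (hP : DCoh.IsStrictlyPerfect P)
    (hQ : DCoh.IsStrictlyPerfect Q) : DCoh.IsStrictlyPerfect (((tcx (TX X)).obj P).obj Q) := by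
  classical
  obtain ⟨⟨a, b, hP⟩, hPf⟩ := hP
  obtain ⟨⟨c, d, hQ⟩, hQf⟩ := hQ
  refine ⟨⟨a + c, b + d, fun n hn => ?_⟩, fun n => ?_⟩
  · rw [IsZero.iff_id_eq_zero]
    refine tcx_hom_ext (TX X) fun p q h => IsZero.eq_of_src ?_ _ _
    by_cases hp : p < a ∨ b < p
    · exact ((TX X).map_isZero (hP p hp)).obj _
    · exact ((TX X).obj _).map_isZero (hQ q (by omega))
  · let A : Fin ((b - a).toNat + 1) → X.Modules := fun j =>
      ((TX X).obj (P.X (a + j))).obj (Q.X (n - (a + j)))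
    let i : (((tcx (TX X)).obj P).obj Q).X n ⟶ ⨁ A :=
      HomologicalComplex.mapBifunctorDesc fun p q h =>
        if hp : a ≤ p ∧ p ≤ b then
          eqToHom (by
            have h' : p + q = n := h
            have hq : q = n - p := by omega
            have e : (a + ((⟨(p - a).toNat, by omega⟩ : Fin ((b - a).toNat + 1)) : ℕ) : ℤ) = p := by
              simp; omega
            simp only [A, e, hq]) ≫ biproduct.ι A ⟨(p - a).toNat, by omega⟩
        else 0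
    refine isFinLocFree_of_finite_sum A (fun j => M2.isFinLocFree_tensor (hPf _) (hQf _)) i
      (biproduct.desc fun j => ιt (TX X) P Q (a + j) (n - (a + j)) n (by omega)) ?_
    refine tcx_hom_ext (TX X) fun p q h => ?_
    refine (ι_desc_assoc (TX X) P Q _ p q h _).trans ?_
    refine Eq.trans ?_ (Category.comp_id _).symm
    split_ifs with hp
    · have h' : p + q = n := h
      rw [Category.assoc, biproduct.ι_desc]
      exact eqToHom_ιt P Q n (by simp; omega) (by simp; omega) _ _ _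
    · rw [zero_comp]
      exact (((TX X).map_isZero (hP p (by omega))).obj _).eq_of_src _ _

/-- Restricting twice. -/
noncomputable def restrictTwiceIso {W V : X.Opens} (h : W ≤ V) :
    Scheme.Modules.restrictFunctor V.ι ⋙ Scheme.Modules.restrictFunctor (X.homOfLE h) ≅
      Scheme.Modules.restrictFunctor W.ι :=
  (Scheme.Modules.restrictFunctorComp (X.homOfLE h) V.ι).symm ≪≫
    Scheme.Modules.restrictFunctorCongr (X.homOfLE_ι h)

theorem exists_strictlyPerfect_mono {W V : X.Opens} (h : W ≤ V) (K : CochainComplex X.Modules ℤ)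
    {P : CochainComplex (V : Scheme.{u}).Modules ℤ} (hP : DCoh.IsStrictlyPerfect P)
    (e : DCoh.toD V ((DCoh.restrictCx V).obj K) ≅ DCoh.toD V P) :
    ∃ P' : CochainComplex (W : Scheme.{u}).Modules ℤ, DCoh.IsStrictlyPerfect P' ∧
      Nonempty (DCoh.toD W ((DCoh.restrictCx W).obj K) ≅ DCoh.toD W P') := by
  refine ⟨((Scheme.Modules.restrictFunctor (X.homOfLE h)).mapHomologicalComplex (ComplexShape.up ℤ)).obj P,
    ?_, ⟨?_⟩⟩
  · obtain ⟨⟨a, b, hv⟩, hf⟩ := hP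
    exact ⟨⟨a, b, fun i hi => (Scheme.Modules.restrictFunctor (X.homOfLE h)).map_isZero (hv i hi)⟩,
      fun i => M2.isFinLocFree_restrict (X.homOfLE h) (hf i)⟩
  · exact (DerivedCategory.Q.mapIso
        ((NatIso.mapHomologicalComplex (restrictTwiceIso h) (ComplexShape.up ℤ)).app K)).symm ≪≫
      ((Scheme.Modules.restrictFunctor (X.homOfLE h)).mapDerivedCategoryFactors.app
        ((DCoh.restrictCx V).obj K)).symm ≪≫
      (Scheme.Modules.restrictFunctor (X.homOfLE h)).mapDerivedCategory.mapIso e ≪≫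
      (Scheme.Modules.restrictFunctor (X.homOfLE h)).mapDerivedCategoryFactors.app P

theorem isPerfect_lTensor (L : CochainComplex X.Modules ℤ) (hL : IsKFlat (TX X) L)
    (hLp : DCoh.IsPerfect (DCoh.toD X L)) [DCoh.HasLTensorCx L] (K : DCoh.D X) (hK : DCoh.IsPerfect K) :
    DCoh.IsPerfect ((DCoh.LTensorCx L).obj K) := by
  intro x
  obtain ⟨R, hR, ⟨eR⟩⟩ := exists_adapted_rep K
  obtain ⟨V₁, hV₁, h₁⟩ := hK x
  obtain ⟨V₂, hV₂, h₂⟩ := hLp x
  obtain ⟨P₀, hP₀, ⟨β₁⟩⟩ := h₁ R ⟨eR⟩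
  obtain ⟨Q₀, hQ₀, ⟨β₂⟩⟩ := h₂ L ⟨Iso.refl _⟩
  obtain ⟨P, hP, ⟨a⟩⟩ := exists_strictlyPerfect_mono (inf_le_left : V₁ ⊓ V₂ ≤ V₁) R hP₀ β₁
  obtain ⟨Q, hQ, ⟨b⟩⟩ := exists_strictlyPerfect_mono (inf_le_right : V₁ ⊓ V₂ ≤ V₂) L hQ₀ β₂
  obtain ⟨v⟩ := nonempty_lTensorCxObjIso L R hR.1
  refine ⟨V₁ ⊓ V₂, ⟨hV₁, hV₂⟩, fun F' ⟨e'⟩ => ?_⟩
  let r := NatIso.mapHomologicalComplex (Scheme.Modules.restrictFunctorIsoPullback (V₁ ⊓ V₂).ι)
    (ComplexShape.up ℤ)
  obtain ⟨c⟩ := nonempty_toD_tcx_congr (isKFlat_pullback (V₁ ⊓ V₂).ι hR.1)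
    (isAdapted_of_isStrictlyPerfect hP).1 (isKFlat_pullback (V₁ ⊓ V₂).ι hL)
    (isAdapted_of_isStrictlyPerfect hQ).1
    (DerivedCategory.Q.mapIso (r.app R).symm ≪≫ a) (DerivedCategory.Q.mapIso (r.app L).symm ≪≫ b)
  exact ⟨_, isStrictlyPerfect_tcx hP hQ, ⟨restrictToDIso (V₁ ⊓ V₂)
      (e' ≪≫ (DCoh.LTensorCx L).mapIso eR.symm ≪≫ v) ≪≫
    DerivedCategory.Q.mapIso (r.app _ ≪≫ pullTensorCxIso (V₁ ⊓ V₂).ι R L) ≪≫ c⟩⟩

end Groth.Agent.KFlat.Sch
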