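import Groth.Agent.Lib.KFlat.Site
import Groth.Agent.Lib.TensorMod.Basic
import Groth.Agent.Lib.TensorMod.PullStalk
import Groth.Prelude.Def_DCoh4
import Groth.Prelude.Def_FlatMod2

/-!
The K-flat machinery for modules on a scheme.
-/

set_option autoImplicit false
set_option linter.unusedSectionVars false

universe u

open CategoryTheory CategoryTheory.Limits MonoidalCategory Opposite AlgebraicGeometry

namespace Groth.Agent.KFlat.Sch

open Groth.Agent.M2

variable {X : Scheme.{u}}

/-- The tensor product of `O_X`-modules. -/
noncomputable abbrev TX (X : Scheme.{u}) : X.Modules ⥤ X.Modules ⥤ X.Modules :=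
  Site.TS (C := X.Opens) X.sheaf

theorem lTensor_injective_of_conj {R M N N' P P' : Type u} [CommRing R] [AddCommGroup M] [Module R M]
    [AddCommGroup N] [Module R N] [AddCommGroup N'] [Module R N'] [AddCommGroup P] [Module R P]
    [AddCommGroup P'] [Module R P'] (e : P ≃ₗ[R] N) (e' : P' ≃ₗ[R] N') (g : N →ₗ[R] N')
    (φ : P →ₗ[R] P') (hcomm : g.comp e.toLinearMap = e'.toLinearMap.comp φ)
    (h : Function.Injective (φ.lTensor M)) : Function.Injective (g.lTensor M) := by
  have h2 : Function.Injective ((g.comp e.toLinearMap).lTensor M) := by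
    rw [hcomm, LinearMap.lTensor_comp]
    exact (LinearEquiv.lTensor M e').injective.comp h
  rw [LinearMap.lTensor_comp] at h2
  exact (Function.Injective.of_comp_iff' _ (LinearEquiv.lTensor M e).bijective).1 h2

instance additive_TX : (TX X).Additive := ModSite.additive_tensorBi (C := X.Opens) X.sheaf

instance additive_TX_obj (M : X.Modules) : ((TX X).obj M).Additive :=
  ModSite.additive_tensorBi_obj (C := X.Opens) X.sheaf M

instance preservesColimits_TX_obj (M : X.Modules) :
    PreservesColimitsOfSize.{0, 0} ((TX X).obj M) :=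
  Site.preservesColimits_obj (O := X.sheaf) M

instance preservesColimits_TX_flip_obj (M : X.Modules) :
    PreservesColimitsOfSize.{0, 0} ((TX X).flip.obj M) :=
  Site.preservesColimits_flip_obj (O := X.sheaf) M

instance ab5 : AB5OfSize.{0, 0} X.Modules := Site.ab5 (O := X.sheaf)

theorem injective_stalk_shf_map_iff {P Q : PM X.presheaf} (f : P ⟶ Q) (x : X) :
    Function.Injective ((M1.stalkAb x).map ((shf X).map f)) ↔ Function.Injective (stMap f x) := by
  change Function.Injective (stMap ((pmF X).map ((shf X).map f)) x) ↔ _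
  have key : (stMap ((pmF X).map ((shf X).map f)) x : _ → _) ∘ stMap (unitS P) x =
      stMap (unitS Q) x ∘ stMap f x := by
    funext a
    refine (stMap_comp (unitS P) _ x a).symm.trans ?_
    rw [← unitS_naturality]
    exact stMap_comp f (unitS Q) x a
  have hP := bijective_stMap_unitS P x
  have hQ := bijective_stMap_unitS Q x
  exact (Function.Injective.of_comp_iff' _ hP).symm.trans
    ((Iff.of_eq (congrArg Function.Injective key)).trans (Function.Injective.of_comp_iff hQ.1 _))

theorem mono_iff_stalk {M N : X.Modules} (f : M ⟶ N) :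
    Mono f ↔ ∀ x : X, Function.Injective ((M1.stalkAb x).map f) := by
  let S : ShortComplex X.Modules := ShortComplex.mk (0 : M ⟶ M) f zero_comp
  have h1 : S.Exact ↔ Mono f := S.exact_iff_mono rfl
  rw [← h1, M1.exact_iff_stalk]
  refine forall_congr' fun x => ?_
  rw [ShortComplex.exact_iff_mono _ ((M1.stalkAb x).map_zero _ _), AddCommGrpCat.mono_iff_injective]
  rfl

/-- The stalk of a tensor product of a morphism with a module is injective iff the tensored stalk map is. -/
theorem injective_stalk_tensor_iff (M : X.Modules) {A B : X.Modules} (f : A ⟶ B) (x : X) :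
    Function.Injective ((M1.stalkAb x).map (((TX X).obj M).map f)) ↔
      Function.Injective ((stMap ((pmF X).map f) x).lTensor (st (pm M) x)) := by
  refine (injective_stalk_shf_map_iff (pm M ◁ (pmF X).map f) x).trans ?_
  have key : (stMap (pm M ◁ (pmF X).map f) x : _ → _) =
      (stalkTensorEquiv (X := X.toPresheafedSpace.carrier) (pm M) (pm B) x).symm ∘
        (stMap ((pmF X).map f) x).lTensor (st (pm M) x) ∘
          stalkTensorEquiv (X := X.toPresheafedSpace.carrier) (pm M) (pm A) x := by
    funext z
    refine (LinearEquiv.eq_symm_apply _).2 ?_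
    rw [← MonoidalCategory.id_tensorHom]
    refine (stMap_tensorHom (𝟙 (pm M)) ((pmF X).map f) x z).trans ?_
    rw [show stMap (𝟙 (pm M)) x = LinearMap.id from LinearMap.ext (stMap_id (pm M) x)]
    rfl
  exact (Iff.of_eq (congrArg Function.Injective key)).trans
    ((Function.Injective.of_comp_iff (LinearEquiv.injective _) _).trans
      (Function.Injective.of_comp_iff' _ (LinearEquiv.bijective _)))

theorem bijective_skyEval (y : X) (T : Type u) [AddCommGroup T] [Module (X.presheaf.stalk y) T] :
    Function.Bijective (skyEval y T) := by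
  refine ⟨(injective_iff_map_eq_zero _).2 fun a ha => ?_, fun t => ?_⟩
  · obtain ⟨U, hU, s, rfl⟩ := (sky y T).presheaf.exists_germ_eq a
    rw [skyEval_germ] at ha
    have : s = 0 := sky_ext y T s 0 fun _ => ha
    rw [this]
    exact map_zero _
  · refine ⟨(sky y T).presheaf.germ ⊤ y trivial (fun _ => t), ?_⟩
    exact (skyEval_germ y T (U := ⊤) trivial _).trans rfl

/-- The skyscraper has the expected stalk. -/
noncomputable def skyEquiv (y : X) (T : Type u) [AddCommGroup T] [Module (X.presheaf.stalk y) T] :
    (st (pm (sky y T)) y : Type u) ≃ₗ[X.presheaf.stalk y] T :=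
  { AddEquiv.ofBijective (skyEval y T) (bijective_skyEval y T) with
    map_smul' := fun r a => by
      obtain ⟨U, hU, s, rfl⟩ := exists_sg (pm (sky y T)) a
      obtain ⟨V, hV, c, rfl⟩ := X.presheaf.exists_germ_eq r
      have hW : y ∈ U ⊓ V := ⟨hU, hV⟩
      rw [← sg_rs (pm (sky y T)) inf_le_left hW s,
        ← TopCat.Presheaf.germ_res_apply X.presheaf (homOfLE (inf_le_right : U ⊓ V ≤ V)) y hW c,
        ← sg_smul]
      change skyEval y T ((sky y T).presheaf.germ (U ⊓ V) y hW _) =
        _ • skyEval y T ((sky y T).presheaf.germ (U ⊓ V) y hW _)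
      refine Eq.trans (skyEval_germ y T hW _) (Eq.trans ?_ (congrArg (HSMul.hSMul _) (skyEval_germ y T hW _)).symm)
      rfl }

theorem mono_skyMap (y : X) {T T' : Type u} [AddCommGroup T] [Module (X.presheaf.stalk y) T]
    [AddCommGroup T'] [Module (X.presheaf.stalk y) T'] (g : T →ₗ[X.presheaf.stalk y] T')
    (hg : Function.Injective g) : Mono (skyMap (y := y) g) := by
  have : Mono ((pmF X).map (skyMap (y := y) g)) := PresheafOfModules.mono_of_injective fun {U} a b h =>
    sky_ext y T a b fun hy => hg (by
      refine ((skyMap_app g a hy).symm.trans ?_).trans (skyMap_app g b hy)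
      exact congrArg (skyEvalAt y T' hy) h)
  have : (pmF X).Faithful := inferInstanceAs (SheafOfModules.forget X.ringCatSheaf).Faithful
  exact (pmF X).mono_of_mono_map ‹_›

theorem isFlat_iff (M : X.Modules) : IsFlat (TX X) M ↔ FlatMod.IsFlat M := by
  constructor
  · intro h y
    refine _root_.Module.Flat.iff_lTensor_preserves_injective_linearMap.2 fun N N' _ _ _ _ g hg => ?_
    have := h.left
    have := mono_skyMap y g hg
    have hinj := (injective_stalk_tensor_iff M (skyMap (y := y) g) y).1
      ((mono_iff_stalk _).1 (inferInstanceAs (Mono (((TX X).obj M).map (skyMap (y := y) g)))) y)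
    have hcomm : g.comp (skyEquiv y N).toLinearMap =
        (skyEquiv y N').toLinearMap.comp (stMap ((pmF X).map (skyMap (y := y) g)) y) := by
      refine LinearMap.ext fun a => ?_
      obtain ⟨U, hU, s, rfl⟩ := exists_sg (pm (sky y N)) a
      refine Eq.trans ?_ (congrArg (skyEquiv y N') (stMap_sg ((pmF X).map (skyMap (y := y) g)) hU s)).symm
      change g (skyEval y N ((sky y N).presheaf.germ U y hU s)) =
        skyEval y N' ((sky y N').presheaf.germ U y hU _)
      refine Eq.trans (congrArg g (skyEval_germ y N hU s)) (Eq.trans ?_ (skyEval_germ y N' hU _).symm)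
      rfl
    exact lTensor_injective_of_conj (skyEquiv y N) (skyEquiv y N') g _ hcomm hinj
  · intro h
    refine Site.isFlat_of_left (O := X.sheaf) ⟨fun {A B} f _ => ?_⟩
    refine (mono_iff_stalk _).2 fun x => (injective_stalk_tensor_iff M f x).2 ?_
    have : _root_.Module.Flat (X.presheaf.stalk x) (st (pm M) x) := h x
    refine _root_.Module.Flat.lTensor_preserves_injective_linearMap _ ?_
    exact (mono_iff_stalk f).1 ‹Mono f› x

variable (X) in
/-- The flat cover of `O_X`-modules. -/
noncomputable def cover : Cover X.Modules := Site.cover (C := X.Opens) X.sheaf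

theorem isFlat_cover (M : X.Modules) : IsFlat (TX X) ((cover X).F.obj M) :=
  Site.isFlat_cover (C := X.Opens) X.sheaf M

variable (X) in
theorem enough : EnoughFlat (TX X) := Site.enough (C := X.Opens) X.sheaf

theorem isKFlat_iff (E : CochainComplex X.Modules ℤ) : IsKFlat (TX X) E ↔ DCoh.IsKFlat E :=
  Site.isKFlat_iff (O := X.sheaf) E

end Groth.Agent.KFlat.Sch
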