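import Groth.Agent.Lib.KFlat.Homotopy
import Groth.Agent.Lib.KFlat.Scheme
import Groth.Prelude.Def_DDual2
import Mathlib.RingTheory.Flat.Equalizer

/-!
The derived pullback along a morphism of schemes exists.
-/

set_option autoImplicit false
set_option linter.unusedSectionVars false

universe u

open CategoryTheory CategoryTheory.Limits AlgebraicGeometry
open scoped TensorProduct

attribute [local instance] HasDerivedCategory.standard

namespace Groth.Agent.KFlat.Sch

open Groth.Agent.M2

variable {X Y : Scheme.{u}} (f : Y ⟶ X)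

/-- The stalk of a morphism, as a linear map. -/
noncomputable def stk {A B : X.Modules} (g : A ⟶ B) (x : X) :
    (A.presheaf.stalk x : Type u) →ₗ[X.presheaf.stalk x] (B.presheaf.stalk x : Type u) :=
  stMap ((pmF X).map g) x

theorem pullStalkEquiv_naturality {A B : X.Modules} (g : A ⟶ B) (y : Y) (t : BC f y A) :
    (M1.stalkAb y).map ((Scheme.Modules.pullback f).map g) (pullStalkEquiv f y A t) =
      pullStalkEquiv f y B ((stk g (f y)).lTensor (Y.presheaf.stalk y) t) := by
  let L : (((Scheme.Modules.pullback f).obj A).presheaf.stalk y : Type u) →ₗ[Y.presheaf.stalk y]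
      (((Scheme.Modules.pullback f).obj B).presheaf.stalk y : Type u) :=
    stMap ((pmF Y).map ((Scheme.Modules.pullback f).map g)) y
  change L (pullStalkEquiv f y A t) = _
  induction t using TensorProduct.induction_on with
  | zero => rw [map_zero, map_zero, map_zero, map_zero]
  | tmul c a =>
    obtain ⟨U, hU, s, rfl⟩ := A.presheaf.exists_germ_eq a
    have e : ∀ (M : X.Modules) (m : (M.presheaf.stalk (f y) : Type u)),
        c ⊗ₜ[X.presheaf.stalk (f y)] m = c • ((1 : Y.presheaf.stalk y) ⊗ₜ[X.presheaf.stalk (f y)] m) :=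
      fun M m => by rw [TensorProduct.smul_tmul', smul_eq_mul, mul_one]
    rw [LinearMap.lTensor_tmul, e A, map_smul, map_smul, pullStalkEquiv_tmul]
    refine Eq.trans ?_ (congrArg (pullStalkEquiv f y B) (e B _)).symm
    rw [map_smul]
    refine congrArg (c • ·) ?_
    refine (TopCat.Presheaf.stalkFunctor_map_germ_apply (f ⁻¹ᵁ U) y hU
      ((Scheme.Modules.toPresheaf Y).map ((Scheme.Modules.pullback f).map g)) _).trans ?_
    refine Eq.trans ?_ (congrArg (fun b => pullStalkEquiv f y B (1 ⊗ₜ[X.presheaf.stalk (f y)] b))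
      (TopCat.Presheaf.stalkFunctor_map_germ_apply U (f y) hU ((Scheme.Modules.toPresheaf X).map g) s)).symm
    refine Eq.trans ?_ (pullStalkEquiv_tmul f y B hU _).symm
    refine congrArg (((Scheme.Modules.pullback f).obj B).presheaf.germ (f ⁻¹ᵁ U) y hU) ?_
    exact (congrArg (fun φ => φ.app U s)
      ((Scheme.Modules.pullbackPushforwardAdjunction f).unit.naturality g)).symm
  | add a b ha hb => rw [map_add, map_add, ha, hb, map_add, map_add]

theorem mono_pullback_map (S : ShortComplex X.Modules) (hS : S.ShortExact) (h₃ : IsFlat (TX X) S.X₃) :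
    Mono ((Scheme.Modules.pullback f).map S.f) := by
  refine (mono_iff_stalk _).2 fun y => ?_
  have hinj : Function.Injective (stk S.f (f y)) := (mono_iff_stalk S.f).1 hS.mono_f (f y)
  have hex := (hS.map_of_exact (M1.stalkAb (f y)))
  have hsurj : Function.Surjective (stk S.g (f y)) :=
    (AddCommGrpCat.epi_iff_surjective _).1 hex.epi_g
  have hexact : Function.Exact (stk S.f (f y)) (stk S.g (f y)) :=
    (ShortComplex.ab_exact_iff_function_exact _).1 hex.exact
  have : _root_.Module.Flat (X.presheaf.stalk (f y)) ((S.X₃.presheaf.stalk (f y) : Type u)) := (isFlat_iff S.X₃).1 h₃ (f y)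
  have key : Function.Injective ((stk S.f (f y)).lTensor (Y.presheaf.stalk y)) :=
    LinearMap.lTensor_injective_of_exact_of_flat _ hsurj _ hinj hexact _
  intro a b hab
  obtain ⟨a, rfl⟩ := (pullStalkEquiv f y S.X₁).surjective a
  obtain ⟨b, rfl⟩ := (pullStalkEquiv f y S.X₁).surjective b
  rw [pullStalkEquiv_naturality, pullStalkEquiv_naturality] at hab
  exact congrArg _ (key ((pullStalkEquiv f y S.X₂).injective hab))

instance isLeftAdjoint_pullback : (Scheme.Modules.pullback f).IsLeftAdjoint :=
  (Scheme.Modules.pullbackPushforwardAdjunction f).isLeftAdjoint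

instance preservesFiniteColimits_pullback : PreservesFiniteColimits (Scheme.Modules.pullback f) :=
  haveI : PreservesColimitsOfSize.{0, 0} (Scheme.Modules.pullback f) :=
    (Scheme.Modules.pullbackPushforwardAdjunction f).leftAdjoint_preservesColimits
  PreservesColimitsOfSize.preservesFiniteColimits _

/-- Complexes adapted to pullback. -/
def IsAdapted (K : CochainComplex X.Modules ℤ) : Prop :=
  IsKFlat (TX X) K ∧ IsKFlat (TX X).flip K ∧ ∀ n, IsFlat (TX X) (K.X n)

theorem isAdapted_resObj (G : CochainComplex X.Modules ℤ) : IsAdapted (resObj (cover X) G) :=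
  ⟨isKFlat_resObj _ G isFlat_cover, isKFlat_flip_resObj _ G isFlat_cover,
    isFlat_resObj_X _ G isFlat_cover⟩

theorem quasiIso_pullback_map {K K' : CochainComplex X.Modules ℤ} (φ : K ⟶ K') [QuasiIso φ]
    (hK : IsAdapted K) (hK' : IsAdapted K') :
    QuasiIso (((Scheme.Modules.pullback f).mapHomologicalComplex (ComplexShape.up ℤ)).map φ) :=
  quasiIso_map (cover X) isFlat_cover (Scheme.Modules.pullback f) (mono_pullback_map f) φ hK hK'
    (splitPres_map _)

/-- The total left derived functor of pullback exists. -/
theorem hasLpull : DCoh.HasLpull f :=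
  hasLeftDerivedFunctor_mapHomotopyCategory (cover X) (Scheme.Modules.pullback f) IsAdapted
    isAdapted_resObj fun φ _ hK hK' => quasiIso_pullback_map f φ hK hK'

end Groth.Agent.KFlat.Sch
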