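import Groth.Agent.Lib.KFlat.Scheme
import Groth.Agent.Lib.KFlat.Module
import Groth.Agent.Lib.KFlat.Transfer
import Mathlib.Topology.Sheaves.Skyscraper

/-!
Stalks of total tensor products; K-flatness is stalkwise.
-/

set_option autoImplicit false
set_option linter.unusedSectionVars false

universe u

open CategoryTheory CategoryTheory.Limits AlgebraicGeometry MonoidalCategory
open scoped TensorProduct

namespace Groth.Agent.KFlat.Sch

open Groth.Agent.M2

variable {X : Scheme.{u}}

/-- The stalk of an `O_X`-module, as a module over the stalk of `O_X`. -/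
noncomputable def stF (x : X) : X.Modules ⥤ ModuleCat.{u} (X.presheaf.stalk x) where
  obj M := ModuleCat.of _ (M.presheaf.stalk x : Type u)
  map g := ModuleCat.ofHom (stMap ((pmF X).map g) x)
  map_id M := ModuleCat.hom_ext (LinearMap.ext fun a => stMap_id (pm M) x a)
  map_comp {L M N} f g := ModuleCat.hom_ext (LinearMap.ext fun a =>
    stMap_comp ((pmF X).map f) ((pmF X).map g) x a)

/-- Forgetting the module structure. -/
noncomputable def stFCompForget (x : X) :
    stF x ⋙ forget₂ (ModuleCat.{u} (X.presheaf.stalk x)) AddCommGrpCat.{u} ≅ M1.stalkAb x :=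
  NatIso.ofComponents (fun _ => Iso.refl _) fun _ => rfl

instance additive_stF (x : X) : (stF x).Additive where
  map_add {M N f g} := ModuleCat.hom_ext (LinearMap.ext fun a =>
    DFunLike.congr_fun (congrArg (fun φ => φ.hom) ((M1.stalkAb x).map_add (f := f) (g := g))) a)

instance preservesColimits_stalkAb (x : X) : PreservesColimitsOfSize.{0, 0} (M1.stalkAb x) := by
  classical
  have : (TopCat.Sheaf.forget AddCommGrpCat.{u} X.toPresheafedSpace.carrier ⋙
      TopCat.Presheaf.stalkFunctor AddCommGrpCat.{u} x).IsLeftAdjoint :=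
    (stalkSkyscraperSheafAdjunction (X := X.toPresheafedSpace.carrier) x).isLeftAdjoint
  have : PreservesColimitsOfSize.{u, u} (M1.toShAb X ⋙
      TopCat.Sheaf.forget AddCommGrpCat.{u} X.toPresheafedSpace.carrier ⋙
        TopCat.Presheaf.stalkFunctor AddCommGrpCat.{u} x) :=
    have : PreservesColimitsOfSize.{u, u} (TopCat.Sheaf.forget AddCommGrpCat.{u}
        X.toPresheafedSpace.carrier ⋙ TopCat.Presheaf.stalkFunctor AddCommGrpCat.{u} x) := inferInstance
    ⟨fun {_ _} => comp_preservesColimitsOfShape _ _⟩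
  have : PreservesColimitsOfSize.{u, u} (M1.stalkAb x) := this
  exact preservesColimitsOfSize_shrink.{0, u, 0, u} _

instance preservesColimits_stF (x : X) : PreservesColimitsOfSize.{0, 0} (stF x) where
  preservesColimitsOfShape {J} _ :=
    have : PreservesColimitsOfShape J
        (stF x ⋙ forget₂ (ModuleCat.{u} (X.presheaf.stalk x)) AddCommGrpCat.{u}) :=
      preservesColimitsOfShape_of_natIso (stFCompForget x).symm
    have : ReflectsColimitsOfShape J
        (forget₂ (ModuleCat.{u} (X.presheaf.stalk x)) AddCommGrpCat.{u}) :=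
      reflectsColimitsOfShape_of_reflectsIsomorphisms
    preservesColimitsOfShape_of_reflects_of_preserves (stF x)
      (forget₂ (ModuleCat.{u} (X.presheaf.stalk x)) AddCommGrpCat.{u})

theorem exact_iff_stF (S : ShortComplex X.Modules) : S.Exact ↔ ∀ x : X, (S.map (stF x)).Exact := by
  rw [M1.exact_iff_stalk]
  exact forall_congr' fun x =>
    ShortComplex.exact_map_iff_of_faithful (S.map (stF x))
      (forget₂ (ModuleCat.{u} (X.presheaf.stalk x)) AddCommGrpCat.{u})

theorem acyclic_iff_stF (L : CochainComplex X.Modules ℤ) :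
    L.Acyclic ↔ ∀ x : X, (((stF x).mapHomologicalComplex (ComplexShape.up ℤ)).obj L).Acyclic :=
  ⟨fun h x n => (exact_iff_stF _).1 (h n) x, fun h n => (exact_iff_stF _).2 fun x => h x n⟩

/-- The stalk of a tensor product. -/
noncomputable def stTensorEquiv (x : X) (M N : X.Modules) :
    ((((TX X).obj M).obj N).presheaf.stalk x : Type u) ≃ₗ[X.presheaf.stalk x]
      (M.presheaf.stalk x : Type u) ⊗[X.presheaf.stalk x] (N.presheaf.stalk x : Type u) :=
  (LinearEquiv.ofBijective (stMap (unitS (pm M ⊗ pm N)) x) (bijective_stMap_unitS _ x)).symm.trans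
    (stalkTensorEquiv (X := X.toPresheafedSpace.carrier) (pm M) (pm N) x)

theorem stTensorEquiv_unit (x : X) (M N : X.Modules) (z : st (pm M ⊗ pm N) x) :
    stTensorEquiv x M N (stMap (unitS (pm M ⊗ pm N)) x z) =
      stalkTensorEquiv (X := X.toPresheafedSpace.carrier) (pm M) (pm N) x z :=
  congrArg (stalkTensorEquiv (X := X.toPresheafedSpace.carrier) (pm M) (pm N) x)
    ((LinearEquiv.ofBijective (stMap (unitS (pm M ⊗ pm N)) x)
      (bijective_stMap_unitS _ x)).symm_apply_apply z)

theorem stTensorEquiv_naturality (x : X) {M M' N N' : X.Modules} (f : M ⟶ M') (g : N ⟶ N')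
    (a : (((TX X).obj M).obj N).presheaf.stalk x) :
    stTensorEquiv x M' N' (stMap ((pmF X).map ((shf X).map ((pmF X).map f ⊗ₘ (pmF X).map g))) x a) =
      TensorProduct.map (stMap ((pmF X).map f) x) (stMap ((pmF X).map g) x)
        (stTensorEquiv x M N a) := by
  obtain ⟨z, rfl⟩ := (bijective_stMap_unitS (pm M ⊗ pm N) x).2 a
  refine Eq.trans ?_ (congrArg _ (stTensorEquiv_unit x M N z)).symm
  refine Eq.trans ?_ (stMap_tensorHom ((pmF X).map f) ((pmF X).map g) x z)
  refine (congrArg (stTensorEquiv x M' N') ?_).trans (stTensorEquiv_unit x M' N' _)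
  refine (stMap_comp (unitS (pm M ⊗ pm N)) _ x z).symm.trans ?_
  refine (congrArg (fun t => stMap t x z) (unitS_naturality _).symm).trans ?_
  exact stMap_comp _ (unitS (pm M' ⊗ pm N')) x z

/-- The comparison on objects. -/
noncomputable def stTensorIso (x : X) (M N : X.Modules) :
    (stF x).obj (((TX X).obj M).obj N) ≅
      ((Module.TM (X.presheaf.stalk x)).obj ((stF x).obj M)).obj ((stF x).obj N) :=
  (stTensorEquiv x M N).toModuleIso

theorem natural_stTensorIso (x : X) :
    Natural₂ (TX X) (Module.TM (X.presheaf.stalk x)) (𝟭 _) (𝟭 _) (stF x) (stF x) (stF x)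
      (stTensorIso x) where
  left {M M'} f N := ModuleCat.hom_ext (LinearMap.ext fun a => by
    have h := stTensorEquiv_naturality x f (𝟙 N) a
    rw [CategoryTheory.Functor.map_id, MonoidalCategory.tensorHom_id] at h
    refine h.trans ?_
    refine (congrArg (fun L => TensorProduct.map (stMap ((pmF X).map f) x) L (stTensorEquiv x M N a))
      (show stMap (𝟙 (pm N)) x = LinearMap.id from LinearMap.ext (stMap_id (pm N) x))).trans ?_
    rfl)
  right M {N N'} g := ModuleCat.hom_ext (LinearMap.ext fun a => by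
    have h := stTensorEquiv_naturality x (𝟙 M) g a
    rw [CategoryTheory.Functor.map_id, MonoidalCategory.id_tensorHom] at h
    refine h.trans ?_
    refine (congrArg (fun L => TensorProduct.map L (stMap ((pmF X).map g) x) (stTensorEquiv x M N a))
      (show stMap (𝟙 (pm M)) x = LinearMap.id from LinearMap.ext (stMap_id (pm M) x))).trans ?_
    rfl)

/-- The stalk of a total tensor product. -/
noncomputable def stTensorCxIso (x : X) (L E : CochainComplex X.Modules ℤ) :
    ((stF x).mapHomologicalComplex (ComplexShape.up ℤ)).obj (((tcx (TX X)).obj L).obj E) ≅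
      ((tcx (Module.TM (X.presheaf.stalk x))).obj
        (((stF x).mapHomologicalComplex (ComplexShape.up ℤ)).obj L)).obj
          (((stF x).mapHomologicalComplex (ComplexShape.up ℤ)).obj E) :=
  transferIso (TX X) (Module.TM (X.presheaf.stalk x)) (𝟭 _) (𝟭 _) (stF x) (stF x) (stF x)
    (natural_stTensorIso x) L E

theorem isKFlat_of_stalks {E : CochainComplex X.Modules ℤ}
    (h : ∀ x : X, IsKFlat (Module.TM (X.presheaf.stalk x))
      (((stF x).mapHomologicalComplex (ComplexShape.up ℤ)).obj E)) : IsKFlat (TX X) E := fun L hL =>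
  (acyclic_iff_stF _).2 fun x =>
    acyclic_of_iso (h x _ ((acyclic_iff_stF L).1 hL x)) (stTensorCxIso x L E).symm

/-- The skyscraper functor. -/
noncomputable def skyF (x : X) : ModuleCat.{u} (X.presheaf.stalk x) ⥤ X.Modules where
  obj T := sky x T
  map g := skyMap (y := x) g.hom
  map_id T := Scheme.Modules.hom_ext _ _ fun U => by
    ext t
    exact sky_ext x T _ _ fun h => skyMap_app _ t h
  map_comp {S T R} f g := Scheme.Modules.hom_ext _ _ fun U => by
    ext t
    refine sky_ext x R _ _ fun h => ?_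
    refine (skyMap_app _ t h).trans ?_
    refine Eq.trans ?_ (skyMap_app g.hom ((skyMap (y := x) f.hom).app U t) h).symm
    rw [skyMap_app]
    rfl

instance additive_skyF (x : X) : (skyF x).Additive where
  map_add {S T f g} := Scheme.Modules.hom_ext _ _ fun U => by
    ext t
    exact sky_ext x T _ _ fun h => skyMap_app _ t h

theorem exact_skyF (x : X) (S : ShortComplex (ModuleCat.{u} (X.presheaf.stalk x))) (hS : S.Exact) :
    (S.map (skyF x)).Exact := by
  classical
  rw [M1.exact_iff_stalk_eq_zero]
  intro z b hb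
  obtain ⟨U, hU, s, rfl⟩ := (S.map (skyF x)).X₂.presheaf.exists_germ_eq b
  have hb' : (S.map (skyF x)).X₃.presheaf.germ U z hU ((S.map (skyF x)).g.app U s) =
      (S.map (skyF x)).X₃.presheaf.germ U z hU 0 :=
    ((M1.germ_naturality _ U z hU s).symm.trans hb).trans (map_zero _).symm
  obtain ⟨W, hW, iU, iV, e⟩ := TopCat.Presheaf.germ_eq _ z hU hU _ _ hb'
  let s' : Γ((S.map (skyF x)).X₂, W) := (S.map (skyF x)).X₂.presheaf.map iU.op s
  have hs' : (S.map (skyF x)).g.app W s' = 0 := by
    refine (ConcreteCategory.congr_hom ((S.map (skyF x)).g.mapPresheaf.naturality iU.op) s).trans ?_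
    exact e.trans (map_zero _)
  have hpre : ∀ h : x ∈ W, ∃ a, S.f a = skyEvalAt x S.X₂ h s' := fun h =>
    (ShortComplex.moduleCat_exact_iff S).1 hS _
      ((skyMap_app S.g.hom s' h).symm.trans ((congrArg (skyEvalAt x S.X₃ h) hs').trans rfl))
  let a : Γ((S.map (skyF x)).X₁, W) := fun h => (hpre h.down).choose
  refine ⟨(S.map (skyF x)).X₁.presheaf.germ W z hW a, ?_⟩
  refine (M1.germ_naturality _ W z hW a).trans ?_
  refine Eq.trans ?_ (TopCat.Presheaf.germ_res_apply _ iU z hW s)
  refine congrArg ((S.map (skyF x)).X₂.presheaf.germ W z hW) ?_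
  exact sky_ext x S.X₂ _ _ fun h => (skyMap_app S.f.hom a h).trans (hpre h).choose_spec

theorem acyclic_skyF (x : X) {L : CochainComplex (ModuleCat.{u} (X.presheaf.stalk x)) ℤ}
    (h : L.Acyclic) : (((skyF x).mapHomologicalComplex (ComplexShape.up ℤ)).obj L).Acyclic :=
  fun n => exact_skyF x _ (h n)

/-- The stalk of a skyscraper at its point. -/
noncomputable def skyStalkIso (x : X) : skyF x ⋙ stF x ≅ 𝟭 _ :=
  NatIso.ofComponents (fun T => (skyEquiv x T).toModuleIso) fun {T T'} g =>
    ModuleCat.hom_ext (LinearMap.ext fun a => by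
      obtain ⟨U, hU, s, rfl⟩ := exists_sg (pm (sky x T)) a
      refine (congrArg (skyEquiv x T') (stMap_sg ((pmF X).map (skyMap (y := x) g.hom)) hU s)).trans ?_
      change skyEval x T' ((sky x T').presheaf.germ U x hU _) =
        g.hom (skyEval x T ((sky x T).presheaf.germ U x hU s))
      refine (skyEval_germ x T' hU _).trans (Eq.trans ?_ (congrArg g.hom (skyEval_germ x T hU s)).symm)
      rfl)

theorem isKFlat_stF {E : CochainComplex X.Modules ℤ} (h : IsKFlat (TX X) E) (x : X) :
    IsKFlat (Module.TM (X.presheaf.stalk x))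
      (((stF x).mapHomologicalComplex (ComplexShape.up ℤ)).obj E) := fun L hL => by
  refine acyclic_of_iso ((acyclic_iff_stF _).1 (h _ (acyclic_skyF x hL)) x) (stTensorCxIso x _ E ≪≫ ?_)
  exact ((tcx (Module.TM (X.presheaf.stalk x))).mapIso
    ((NatIso.mapHomologicalComplex (skyStalkIso x) (ComplexShape.up ℤ)).app L ≪≫
      (Functor.mapHomologicalComplexIdIso _ (ComplexShape.up ℤ)).app L)).app _

theorem isKFlat_iff_stalk (E : CochainComplex X.Modules ℤ) :
    IsKFlat (TX X) E ↔ ∀ x : X, IsKFlat (Module.TM (X.presheaf.stalk x))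
      (((stF x).mapHomologicalComplex (ComplexShape.up ℤ)).obj E) :=
  ⟨fun h x => isKFlat_stF h x, isKFlat_of_stalks⟩

end Groth.Agent.KFlat.Sch
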