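import Groth.Agent.Lib.KFlat.Flat
import Mathlib.CategoryTheory.Abelian.Refinements

/-!
Short exact sequences with flat quotient.
-/

set_option autoImplicit false
set_option linter.unusedSectionVars false

universe v u

open CategoryTheory CategoryTheory.Limits

namespace Groth.Agent.KFlat

variable {C : Type u} [Category.{v} C] [Abelian C] [HasColimitsOfSize.{0, 0} C]

/-- A right exact functor keeps exactness before an epimorphism. -/
theorem exact_map_of_epi {D : Type*} [Category* D] [Abelian D] (G : C ⥤ D) [G.Additive]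
    [PreservesFiniteColimits G] {S : ShortComplex C} (hS : S.Exact) [Epi S.g] :
    (S.map G).Exact :=
  ShortComplex.exact_of_g_is_cokernel _ (CokernelCofork.mapIsColimit _ hS.gIsCokernel G)

/-- Every object is a quotient of a flat one. -/
def EnoughFlat (T : C ⥤ C ⥤ C) : Prop := ∀ X : C, ∃ (F : C) (π : F ⟶ X), Epi π ∧ IsFlat T F

theorem EnoughFlat.flip {T : C ⥤ C ⥤ C} (h : EnoughFlat T) : EnoughFlat T.flip := fun X => by
  obtain ⟨F, π, hπ, hF⟩ := h X
  exact ⟨F, π, hπ, hF.flip⟩

variable {T : C ⥤ C ⥤ C} [T.Additive] [∀ X, (T.obj X).Additive]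
  [∀ X, PreservesColimitsOfSize.{0, 0} (T.obj X)]
  [∀ X, PreservesColimitsOfSize.{0, 0} (T.flip.obj X)]

omit [T.Additive] [∀ X, (T.obj X).Additive] [∀ X, PreservesColimitsOfSize.{0, 0} (T.flip.obj X)] in
instance preservesFiniteColimits_obj (X : C) : PreservesFiniteColimits (T.obj X) :=
  PreservesColimitsOfSize.preservesFiniteColimits _

instance preservesFiniteColimits_flip_obj (X : C) : PreservesFiniteColimits (T.flip.obj X) :=
  PreservesColimitsOfSize.preservesFiniteColimits _

theorem comm_app (T : C ⥤ C ⥤ C) {X X' Y Y' : C} (a : X ⟶ X') (b : Y ⟶ Y') :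
    (T.obj X).map b ≫ (T.map a).app Y' = (T.map a).app Y ≫ (T.obj X').map b :=
  (T.map a).naturality b

/-- A short exact sequence with flat quotient stays exact on the left after tensoring. -/
theorem mono_map_of_flat (hT : EnoughFlat T) {S : ShortComplex C} (hS : S.ShortExact)
    (h₃ : IsFlat T S.X₃) (M : C) : Mono ((T.obj M).map S.f) := by
  obtain ⟨F, π, hπ, hF⟩ := hT M
  have hKS : (ShortComplex.mk (kernel.ι π) π (kernel.condition π)).Exact := ShortComplex.exact_kernel π
  have := hS.mono_f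
  have := hS.epi_g
  have := hF.left
  refine Preadditive.mono_of_cancel_zero _ fun {W} z hz => ?_
  have : Epi ((T.map π).app S.X₁) := inferInstanceAs (Epi ((T.flip.obj S.X₁).map π))
  obtain ⟨W₁, e₁, _, y, hy⟩ := surjective_up_to_refinements_of_epi ((T.map π).app S.X₁) z
  have h2 : (y ≫ (T.obj F).map S.f) ≫ (T.map π).app S.X₂ = 0 := by
    rw [Category.assoc, comm_app, ← reassoc_of% hy, hz, comp_zero]
  obtain ⟨W₂, e₂, _, w, hw⟩ :=
    (exact_map_of_epi (T.flip.obj S.X₂) hKS).exact_up_to_refinements (y ≫ (T.obj F).map S.f) h2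
  change W₂ ⟶ (T.obj (kernel π)).obj S.X₂ at w
  change e₂ ≫ y ≫ (T.obj F).map S.f = w ≫ (T.map (kernel.ι π)).app S.X₂ at hw
  have h3 : w ≫ (T.obj (kernel π)).map S.g = 0 := by
    have := h₃.right
    have : Mono ((T.map (kernel.ι π)).app S.X₃) :=
      inferInstanceAs (Mono ((T.flip.obj S.X₃).map (kernel.ι π)))
    rw [← cancel_mono ((T.map (kernel.ι π)).app S.X₃), zero_comp, Category.assoc, comm_app,
      ← reassoc_of% hw, ← Functor.map_comp, S.zero, CategoryTheory.Functor.map_zero, comp_zero,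
      comp_zero]
  obtain ⟨W₃, e₃, _, v, hv⟩ :=
    (exact_map_of_epi (T.obj (kernel π)) hS.exact).exact_up_to_refinements w h3
  change W₃ ⟶ (T.obj (kernel π)).obj S.X₁ at v
  change e₃ ≫ w = v ≫ (T.obj (kernel π)).map S.f at hv
  have h4 : e₃ ≫ e₂ ≫ y = v ≫ (T.map (kernel.ι π)).app S.X₁ := by
    rw [← cancel_mono ((T.obj F).map S.f)]
    simp only [Category.assoc]
    rw [hw, reassoc_of% hv, comm_app]
  rw [← cancel_epi e₁, comp_zero, hy, ← cancel_epi e₂, comp_zero, ← cancel_epi e₃, comp_zero,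
    ← Category.assoc e₂, ← Category.assoc e₃, h4, Category.assoc, ← NatTrans.comp_app, ← T.map_comp,
    kernel.condition, CategoryTheory.Functor.map_zero, zero_app, comp_zero]

theorem mono_map_of_flat' (hT : EnoughFlat T) {S : ShortComplex C} (hS : S.ShortExact)
    (h₃ : IsFlat T S.X₃) (M : C) : Mono ((T.map S.f).app M) :=
  mono_map_of_flat (T := T.flip) hT.flip hS h₃.flip M

theorem preservesMonomorphisms_of_quotient {S : ShortComplex C} (hS : S.ShortExact)
    (h₂ : IsFlat T S.X₂) (h : ∀ M, Mono ((T.map S.f).app M)) :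
    (T.obj S.X₃).PreservesMonomorphisms := ⟨fun {A' A} f _ => by
  have := hS.epi_g
  have := h₂.left
  refine Preadditive.mono_of_cancel_zero _ fun {W} z hz => ?_
  have : Epi ((T.map S.g).app A') := inferInstanceAs (Epi ((T.flip.obj A').map S.g))
  obtain ⟨W₁, e₁, _, y, hy⟩ := surjective_up_to_refinements_of_epi ((T.map S.g).app A') z
  have h2 : (y ≫ (T.obj S.X₂).map f) ≫ (T.map S.g).app A = 0 := by
    rw [Category.assoc, comm_app, ← reassoc_of% hy, hz, comp_zero]
  obtain ⟨W₂, e₂, _, w, hw⟩ :=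
    (exact_map_of_epi (T.flip.obj A) hS.exact).exact_up_to_refinements (y ≫ (T.obj S.X₂).map f) h2
  change W₂ ⟶ (T.obj S.X₁).obj A at w
  change e₂ ≫ y ≫ (T.obj S.X₂).map f = w ≫ (T.map S.f).app A at hw
  have h3 : w ≫ (T.obj S.X₁).map (cokernel.π f) = 0 := by
    have := h (cokernel f)
    rw [← cancel_mono ((T.map S.f).app (cokernel f)), zero_comp, Category.assoc, comm_app,
      ← reassoc_of% hw, ← Functor.map_comp, cokernel.condition, CategoryTheory.Functor.map_zero,
      comp_zero, comp_zero]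
  obtain ⟨W₃, e₃, _, v, hv⟩ :=
    (exact_map_of_epi (T.obj S.X₁) (ShortComplex.exact_cokernel f)).exact_up_to_refinements w h3
  change W₃ ⟶ (T.obj S.X₁).obj A' at v
  change e₃ ≫ w = v ≫ (T.obj S.X₁).map f at hv
  have h4 : e₃ ≫ e₂ ≫ y = v ≫ (T.map S.f).app A' := by
    rw [← cancel_mono ((T.obj S.X₂).map f)]
    simp only [Category.assoc]
    rw [hw, reassoc_of% hv, comm_app]
  rw [← cancel_epi e₁, comp_zero, hy, ← cancel_epi e₂, comp_zero, ← cancel_epi e₃, comp_zero,
    ← Category.assoc e₂, ← Category.assoc e₃, h4, Category.assoc, ← NatTrans.comp_app, ← T.map_comp,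
    S.zero, CategoryTheory.Functor.map_zero, zero_app, comp_zero]⟩

theorem isFlat_X₃ {S : ShortComplex C} (hS : S.ShortExact) (h₂ : IsFlat T S.X₂)
    (h : ∀ M, Mono ((T.map S.f).app M)) (h' : ∀ M, Mono ((T.obj M).map S.f)) : IsFlat T S.X₃ :=
  ⟨preservesMonomorphisms_of_quotient hS h₂ h,
    preservesMonomorphisms_of_quotient (T := T.flip) hS h₂.flip h'⟩

theorem isFlat_X₁ (hT : EnoughFlat T) {S : ShortComplex C} (hS : S.ShortExact)
    (h₂ : IsFlat T S.X₂) (h₃ : IsFlat T S.X₃) : IsFlat T S.X₁ where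
  left := ⟨fun {A' A} f _ => by
    have := h₂.left
    have := mono_map_of_flat' hT hS h₃ A'
    have : Mono ((T.obj S.X₁).map f ≫ (T.map S.f).app A) := by
      rw [comm_app]; infer_instance
    exact mono_of_mono _ ((T.map S.f).app A)⟩
  right := ⟨fun {A' A} f _ => by
    have := h₂.right
    have := mono_map_of_flat hT hS h₃ A'
    have : Mono ((T.map f).app S.X₁ ≫ (T.obj A).map S.f) := by
      rw [← comm_app]
      have : Mono ((T.map f).app S.X₂) := inferInstanceAs (Mono ((T.flip.obj S.X₂).map f))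
      infer_instance
    exact mono_of_mono ((T.map f).app S.X₁) ((T.obj A).map S.f)⟩

end Groth.Agent.KFlat
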