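import Mathlib.Algebra.Category.ModuleCat.Presheaf.Monoidal
import Mathlib.Algebra.Category.ModuleCat.Sheaf.Localization
import Mathlib.CategoryTheory.Sites.LocallyBijective
import Mathlib.RingTheory.TensorProduct.DirectLimitFG
import Mathlib.LinearAlgebra.TensorProduct.RightExactness
import Mathlib.RingTheory.Finiteness.Basic

/-!
Local bijections of presheaves of modules are stable under tensor products.
-/

set_option autoImplicit false
set_option linter.unusedSectionVars false

universe u v' u'

open CategoryTheory MonoidalCategory Opposite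
open scoped TensorProduct

namespace Groth.Agent.KFlat.SiteW

variable {C : Type u'} [Category.{v'} C] (J : GrothendieckTopology C) {R : Cᵒᵖ ⥤ CommRingCat.{u}}

/-- Presheaves of modules over a presheaf of commutative rings. -/
abbrev PM (R : Cᵒᵖ ⥤ CommRingCat.{u}) := PresheafOfModules.{u} (R ⋙ forget₂ CommRingCat.{u} RingCat.{u})

variable {P Q : PM R} (f : P ⟶ Q) (M : PM R)

/-- Restriction, additively. -/
noncomputable abbrev res (N : PM R) {U V : Cᵒᵖ} (i : U ⟶ V) : N.obj U →+ N.obj V :=
  (N.presheaf.map i).hom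

theorem res_smul (N : PM R) {U V : Cᵒᵖ} (i : U ⟶ V) (r : R.obj U) (n : N.obj U) :
    res N i (r • n) = (R.map i).hom r • res N i n :=
  N.map_smul i r n

theorem res_res (N : PM R) {U V W : Cᵒᵖ} (i : U ⟶ V) (j : V ⟶ W) (n : N.obj U) :
    res N j (res N i n) = res N (i ≫ j) n := by
  simp [res]
  rfl

/-- The pure tensor. -/
noncomputable abbrev tm (P M : PM R) {U : Cᵒᵖ} (p : P.obj U) (m : M.obj U) : (P ⊗ M).obj U :=
  p ⊗ₜ[R.obj U] m

theorem res_tm (P M : PM R) {U V : Cᵒᵖ} (i : U ⟶ V) (p : P.obj U) (m : M.obj U) :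
    res (P ⊗ M) i (tm P M p m) = tm P M (res P i p) (res M i m) :=
  PresheafOfModules.Monoidal.tensorObj_map_tmul i p m

theorem app_res {N N' : PM R} (g : N ⟶ N') {U V : Cᵒᵖ} (i : U ⟶ V) (n : N.obj U) :
    g.app V (res N i n) = res N' i (g.app U n) :=
  PresheafOfModules.naturality_apply g i n

/-- A component, linear over the commutative ring of sections. -/
noncomputable abbrev lin {P Q : PM R} (f : P ⟶ Q) (U : Cᵒᵖ) : P.obj U →ₗ[R.obj U] Q.obj U :=
  (f.app U).hom

/-- The elements vanishing on a covering. -/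
def locZero (N : PM R) (U : Cᵒᵖ) (z : N.obj U) : Prop :=
  Presheaf.equalizerSieve (F := N.presheaf) z 0 ∈ J U.unop

theorem locZero_iff (N : PM R) (U : Cᵒᵖ) (z : N.obj U) :
    locZero J N U z ↔ ∃ S ∈ J U.unop, ∀ ⦃V : C⦄ (i : V ⟶ U.unop), S i → res N i.op z = 0 := by
  constructor
  · intro h
    exact ⟨_, h, fun V i hi => (show res N i.op z = res N i.op 0 from hi).trans (map_zero _)⟩
  · rintro ⟨S, hS, hz⟩
    refine J.superset_covering (fun V i hi => ?_) hS
    exact (hz i hi).trans (map_zero (res N i.op)).symm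

theorem locZero.add {N : PM R} {U : Cᵒᵖ} {z w : N.obj U} (hz : locZero J N U z)
    (hw : locZero J N U w) : locZero J N U (z + w) := by
  rw [locZero_iff] at *
  obtain ⟨S, hS, hz⟩ := hz
  obtain ⟨S', hS', hw⟩ := hw
  exact ⟨S ⊓ S', J.intersection_covering hS hS', fun V i hi => by
    rw [map_add, hz i hi.1, hw i hi.2, add_zero]⟩

theorem locZero_zero (N : PM R) (U : Cᵒᵖ) : locZero J N U 0 :=
  (locZero_iff J N U 0).2 ⟨⊤, J.top_mem _, fun _ i _ => map_zero (res N i.op)⟩

theorem locZero_local {N : PM R} {U : Cᵒᵖ} {z : N.obj U} (S : Sieve U.unop) (hS : S ∈ J U.unop)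
    (h : ∀ ⦃V : C⦄ (i : V ⟶ U.unop), S i → locZero J N (op V) (res N i.op z)) :
    locZero J N U z := by
  refine J.transitive hS _ fun V i hi => J.superset_covering (fun W j hj => ?_) (h i hi)
  change res N j.op (res N i.op z) = res N j.op 0 at hj
  change res N (j ≫ i).op z = res N (j ≫ i).op 0
  rw [map_zero] at hj ⊢
  rwa [op_comp, ← res_res]

section

variable {J f}

theorem locZero_of_app_eq_zero (hf : Presheaf.IsLocallyInjective J
    ((PresheafOfModules.toPresheaf _).map f)) {U : Cᵒᵖ} {p : P.obj U} (h : f.app U p = 0) :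
    locZero J P U p :=
  hf.equalizerSieve_mem (X := U)
    (show ToType (((PresheafOfModules.toPresheaf _).obj P).obj U) from p)
    (show ToType (((PresheafOfModules.toPresheaf _).obj P).obj U) from (0 : P.obj U))
    (show f.app U p = f.app U 0 from h.trans (map_zero (f.app U).hom).symm)

theorem locZero_tm {U : Cᵒᵖ} {p : P.obj U} (hp : locZero J P U p) (m : M.obj U) :
    locZero J (P ⊗ M) U (tm P M p m) := by
  rw [locZero_iff] at *
  obtain ⟨S, hS, hp⟩ := hp
  refine ⟨S, hS, fun V i hi => ?_⟩
  rw [res_tm, hp i hi]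
  exact TensorProduct.zero_tmul _ _

theorem locZero_of_ker (hf : Presheaf.IsLocallyInjective J ((PresheafOfModules.toPresheaf _).map f))
    {U : Cᵒᵖ} {z : (P ⊗ M).obj U}
    (hz : LinearMap.rTensor (M.obj U) (lin f U).rangeRestrict
      (show (P.obj U : Type u) ⊗[R.obj U] (M.obj U : Type u) from z) = 0) :
    locZero J (P ⊗ M) U z := by
  have hex : Function.Exact (LinearMap.ker (lin f U)).subtype (lin f U).rangeRestrict := by
    intro x
    simp [Subtype.ext_iff]
  obtain ⟨w, rfl⟩ := (rTensor_exact (M.obj U) hex (lin f U).surjective_rangeRestrict _).1 hz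
  induction w using TensorProduct.induction_on with
  | zero => rw [map_zero]; exact locZero_zero J (P ⊗ M) U
  | tmul k m => exact locZero_tm M (locZero_of_app_eq_zero hf k.2) m
  | add a b ha hb =>
    rw [map_add]
    refine locZero.add J (ha ?_) (hb ?_) <;>
      rw [← LinearMap.rTensor_comp_apply, (hex).linearMap_comp_eq_zero, LinearMap.rTensor_zero,
        LinearMap.zero_apply]

theorem locInjective_whiskerRight
    (hi : Presheaf.IsLocallyInjective J ((PresheafOfModules.toPresheaf _).map f))
    (hs : Presheaf.IsLocallySurjective J ((PresheafOfModules.toPresheaf _).map f)) :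
    Presheaf.IsLocallyInjective J ((PresheafOfModules.toPresheaf _).map (f ▷ M)) := by
  refine ⟨fun {U} x y hxy => ?_⟩
  change (P ⊗ M).obj U at x y
  obtain ⟨z, rfl⟩ : ∃ z : (P ⊗ M).obj U, x = z + y := ⟨x - y, (sub_add_cancel _ _).symm⟩
  suffices h : locZero J (P ⊗ M) U z by
    rw [locZero_iff] at h
    obtain ⟨S, hS, h⟩ := h
    refine J.superset_covering (fun V i hiS => ?_) hS
    change res (P ⊗ M) i.op (z + y) = res (P ⊗ M) i.op y
    rw [map_add, h i hiS, zero_add]
  have hz : LinearMap.rTensor (M.obj U) (lin f U)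
      (show (P.obj U : Type u) ⊗[R.obj U] (M.obj U : Type u) from z) = 0 := by
    change ((f ▷ M).app U).hom (z + y) = ((f ▷ M).app U).hom y at hxy
    rw [map_add, add_eq_right] at hxy
    exact hxy
  obtain ⟨P₀, hP₀, t, ht⟩ := TensorProduct.exists_of_fg (R := R.obj U)
    (show (P.obj U : Type u) ⊗[R.obj U] (M.obj U : Type u) from z)
  let P₁ := P₀.map (lin f U)
  let f₀ : P₀ →ₗ[R.obj U] P₁ :=
    LinearMap.restrict (lin f U) fun x hx => Submodule.mem_map_of_mem hx
  have ht₁ : LinearMap.rTensor (M.obj U) P₁.subtype (LinearMap.rTensor (M.obj U) f₀ t) = 0 := by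
    rw [← LinearMap.rTensor_comp_apply,
      show P₁.subtype.comp f₀ = (lin f U).comp P₀.subtype from rfl, LinearMap.rTensor_comp_apply,
      ht]
    exact hz
  obtain ⟨Q₀, hQ₀, hQfg, hQ⟩ := TensorProduct.eq_zero_of_fg_of_subtype_eq_zero (hP₀.map _) ht₁
  obtain ⟨s, hs'⟩ := hQfg
  let S : Sieve U.unop := s.inf fun q =>
    Presheaf.imageSieve ((PresheafOfModules.toPresheaf _).map f) (U := U.unop) q
  have hS : S ∈ J U.unop := by
    have : ∀ s' : Finset (Q.obj U), (s'.inf fun q =>
        Presheaf.imageSieve ((PresheafOfModules.toPresheaf _).map f) (U := U.unop) q) ∈ J U.unop := by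
      intro s'
      induction s' using Finset.cons_induction with
      | empty => exact J.top_mem _
      | cons a s' ha ih =>
        rw [Finset.inf_cons]
        exact J.intersection_covering (hs.imageSieve_mem a) ih
    exact this s
  refine locZero_local J S hS fun V i hiS => locZero_of_ker M hi ?_
  have hmem : ∀ q ∈ Q₀, res Q i.op q ∈ LinearMap.range (lin f (op V)) := by
    intro q hq
    rw [← hs'] at hq
    induction hq using Submodule.span_induction with
    | mem x hx =>
      have h1 : Presheaf.imageSieve ((PresheafOfModules.toPresheaf _).map f) (U := U.unop) x i :=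
        Finset.inf_le (f := fun q =>
          Presheaf.imageSieve ((PresheafOfModules.toPresheaf _).map f) (U := U.unop) q) hx _ hiS
      exact h1
    | zero => rw [map_zero]; exact zero_mem _
    | add a b _ _ ha hb => rw [map_add]; exact add_mem ha hb
    | smul r a _ ha => rw [res_smul]; exact Submodule.smul_mem _ _ ha
  let ψ : (Q₀ ⊗[R.obj U] (M.obj U : Type u)) →+
      (LinearMap.range (lin f (op V)) ⊗[R.obj (op V)] (M.obj (op V) : Type u)) :=
    TensorProduct.liftAddHom
      { toFun := fun q =>
          { toFun := fun m => (⟨res Q i.op q, hmem q q.2⟩ : LinearMap.range (lin f (op V))) ⊗ₜ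
              res M i.op m
            map_zero' := by rw [map_zero, TensorProduct.tmul_zero]
            map_add' := fun a b => by rw [map_add, TensorProduct.tmul_add] }
        map_zero' := AddMonoidHom.ext fun m => by
          simp only [ZeroMemClass.coe_zero, map_zero]
          exact TensorProduct.zero_tmul _ _
        map_add' := fun a b => AddMonoidHom.ext fun m => by
          simp only [Submodule.coe_add, map_add, AddMonoidHom.add_apply, AddMonoidHom.coe_mk,
            ZeroHom.coe_mk]
          exact TensorProduct.add_tmul (R := R.obj (op V))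
            (⟨res Q i.op a, hmem a a.2⟩ : LinearMap.range (lin f (op V)))
            ⟨res Q i.op b, hmem b b.2⟩ (res M i.op m) }
      fun r q m => by
        simp only [AddMonoidHom.coe_mk, ZeroHom.coe_mk, Submodule.coe_smul]
        rw [res_smul M]
        refine Eq.trans ?_ (TensorProduct.smul_tmul _ _ _)
        congr 1
        exact Subtype.ext (res_smul Q i.op r q)
  have key : ∀ t : P₀ ⊗[R.obj U] (M.obj U : Type u),
      LinearMap.rTensor (M.obj (op V)) (lin f (op V)).rangeRestrict
        (show (P.obj (op V) : Type u) ⊗[R.obj (op V)] (M.obj (op V) : Type u) from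
          res (P ⊗ M) i.op (LinearMap.rTensor (M.obj U) P₀.subtype t)) =
        ψ (LinearMap.rTensor (M.obj U) (Submodule.inclusion hQ₀) (LinearMap.rTensor (M.obj U) f₀ t)) := by
    intro t
    induction t using TensorProduct.induction_on with
    | zero => simp only [map_zero]; exact map_zero _
    | tmul p m =>
      simp only [LinearMap.rTensor_tmul, Submodule.subtype_apply]
      refine (congrArg _ (res_tm P M i.op (p : P.obj U) m)).trans ?_
      refine (LinearMap.rTensor_tmul _ _ _ _).trans ?_
      refine congrArg (fun w : LinearMap.range (lin f (op V)) => w ⊗ₜ[R.obj (op V)] res M i.op m) ?_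
      exact Subtype.ext (app_res f i.op (p : P.obj U))
    | add a b ha hb =>
      simp only [map_add]
      refine Eq.trans ?_ (congrArg₂ (· + ·) ha hb)
      exact (congrArg _ (map_add (res (P ⊗ M) i.op) _ _)).trans (map_add _ _ _)
  have := key t
  rw [ht, hQ, map_zero] at this
  exact this

theorem locSurjective_whiskerRight
    (hs : Presheaf.IsLocallySurjective J ((PresheafOfModules.toPresheaf _).map f)) :
    Presheaf.IsLocallySurjective J ((PresheafOfModules.toPresheaf _).map (f ▷ M)) := by
  refine ⟨fun {U} z => ?_⟩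
  change (Q ⊗ M).obj (op U) at z
  induction z using TensorProduct.induction_on with
  | zero =>
    refine J.superset_covering (fun V i _ => ?_) (J.top_mem U)
    exact ⟨(0 : (P ⊗ M).obj (op V)),
      (map_zero ((f ▷ M).app (op V)).hom).trans (map_zero (res (Q ⊗ M) i.op)).symm⟩
  | tmul q m =>
    refine J.superset_covering (fun V i hi => ?_) (hs.imageSieve_mem (U := U) q)
    obtain ⟨p, hp⟩ := hi
    refine ⟨tm P M p (res M i.op m), ?_⟩
    refine Eq.trans ?_ (res_tm Q M i.op q m).symm
    exact congrArg (fun w => tm Q M w (res M i.op m)) hp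
  | add a b ha hb =>
    refine J.superset_covering (fun V i hi => ?_) (J.intersection_covering ha hb)
    obtain ⟨⟨x, hx⟩, ⟨y, hy⟩⟩ := hi
    change (P ⊗ M).obj (op V) at x
    change (P ⊗ M).obj (op V) at y
    refine ⟨x + y, (map_add ((f ▷ M).app (op V)).hom x y).trans ?_⟩
    exact (congrArg₂ (· + ·) hx hy).trans (map_add (res (Q ⊗ M) i.op) a b).symm

end

variable [J.WEqualsLocallyBijective AddCommGrpCat.{u}]

/-- Local bijections. -/
abbrev W (R : Cᵒᵖ ⥤ CommRingCat.{u}) : MorphismProperty (PM R) :=
  (J.W (A := AddCommGrpCat.{u})).inverseImage (PresheafOfModules.toPresheaf _)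

variable {J f}

theorem W.whiskerRight (hf : W J R f) : W J R (f ▷ M) :=
  (J.W_iff_isLocallyBijective _).2
    ⟨locInjective_whiskerRight M ((J.W_iff_isLocallyBijective _).1 hf).1 ((J.W_iff_isLocallyBijective _).1 hf).2,
      locSurjective_whiskerRight M ((J.W_iff_isLocallyBijective _).1 hf).2⟩

theorem W.whiskerLeft (hf : W J R f) : W J R (M ◁ f) := by
  refine ((W J R).arrow_mk_iso_iff ?_).1 (W.whiskerRight M hf)
  exact Arrow.isoMk (β_ P M) (β_ Q M) (BraidedCategory.braiding_naturality_left f M).symm

end Groth.Agent.KFlat.SiteW
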