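import Groth.Agent.Lib.KFlat.Cover
import Groth.Agent.Lib.KFlat.SiteW
import Groth.Agent.Lib.KFlat.Module
import Groth.Agent.Lib.CohFound.ModulesInst
import Groth.Prelude.Def_KFlatSite
import Mathlib.Algebra.Category.ModuleCat.Presheaf.EpiMono
import Mathlib.Algebra.Category.ModuleCat.Presheaf.Free

/-!
The K-flat machinery for modules on a small ringed site.
-/

set_option autoImplicit false
set_option linter.unusedSectionVars false

universe u

open CategoryTheory CategoryTheory.Limits MonoidalCategory Opposite

namespace Groth.Agent.KFlat.Site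

variable {C : Type u} [SmallCategory C] {J : GrothendieckTopology C} (O : Sheaf J CommRingCat.{u})

/-- The tensor product. -/
noncomputable abbrev TS : ModSite.Mod O ⥤ ModSite.Mod O ⥤ ModSite.Mod O := ModSite.tensorBi O

/-- The sheafification adjunction. -/
noncomputable abbrev adj : ModSite.shPre O ⊣ ModSite.toPre O :=
  PresheafOfModules.sheafificationAdjunction.{u} (𝟙 (ModSite.ringSh O).obj)

instance isLeftAdjoint_shPre : (ModSite.shPre O).IsLeftAdjoint := (adj O).isLeftAdjoint

instance isRightAdjoint_toPre : (ModSite.toPre O).IsRightAdjoint := (adj O).isRightAdjoint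

instance preservesFiniteLimits_shPre : PreservesFiniteLimits (ModSite.shPre O) :=
  inferInstanceAs (PreservesFiniteLimits (PresheafOfModules.sheafification.{u} (𝟙 (ModSite.ringSh O).obj)))

instance isIso_counit : IsIso (adj O).counit :=
  inferInstanceAs (IsIso (PresheafOfModules.sheafificationAdjunction.{u} (𝟙 (ModSite.ringSh O).obj)).counit)

theorem isIso_shPre_map {P Q : ModSite.preMod O} (f : P ⟶ Q) (hf : SiteW.W J O.obj f) :
    IsIso ((ModSite.shPre O).map f) := by
  have h := congrArg (fun W => W f)
    (PresheafOfModules.inverseImage_W_toPresheaf_eq_inverseImage_isomorphisms.{u}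
      (𝟙 (ModSite.ringSh O).obj))
  exact h.mp hf

theorem W_unit (P : ModSite.preMod O) : SiteW.W J O.obj ((adj O).unit.app P) := by
  have h := congrArg (fun W => W ((adj O).unit.app P))
    (PresheafOfModules.inverseImage_W_toPresheaf_eq_inverseImage_isomorphisms.{u}
      (𝟙 (ModSite.ringSh O).obj))
  refine h.mpr ?_
  change IsIso ((ModSite.shPre O).map ((adj O).unit.app P))
  have h1 := (adj O).left_triangle_components P
  have : IsIso ((ModSite.shPre O).map ((adj O).unit.app P) ≫
      (adj O).counit.app ((ModSite.shPre O).obj P)) := by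
    rw [h1]; infer_instance
  exact IsIso.of_isIso_comp_right _ ((adj O).counit.app ((ModSite.shPre O).obj P))

/-- Sheafifying commutes with tensoring. -/
noncomputable def shTensorIso (M : ModSite.Mod O) :
    ModSite.shPre O ⋙ (TS O).obj M ≅
      tensorLeft ((ModSite.toPre O).obj M) ⋙ ModSite.shPre O :=
  (NatIso.ofComponents (F := tensorLeft ((ModSite.toPre O).obj M) ⋙ ModSite.shPre O)
    (G := ModSite.shPre O ⋙ (TS O).obj M) (fun P =>
    @asIso _ _ _ _ ((ModSite.shPre O).map ((ModSite.toPre O).obj M ◁ (adj O).unit.app P))
      (isIso_shPre_map O _ (SiteW.W.whiskerLeft ((ModSite.toPre O).obj M) (W_unit O P))))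
    fun {P Q} f => by
      change (ModSite.shPre O).map _ ≫ (ModSite.shPre O).map _ =
        (ModSite.shPre O).map _ ≫ (ModSite.shPre O).map _
      refine ((ModSite.shPre O).map_comp _ _).symm.trans
        (Eq.trans (congrArg (ModSite.shPre O).map ?_) ((ModSite.shPre O).map_comp _ _))
      exact ((MonoidalCategory.whiskerLeft_comp _ _ _).symm.trans
        (congrArg _ ((adj O).unit.naturality f))).trans (MonoidalCategory.whiskerLeft_comp _ _ _)).symm

/-- Symmetry. -/
noncomputable def flipObjIso (M : ModSite.Mod O) : (TS O).obj M ≅ (TS O).flip.obj M :=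
  NatIso.ofComponents (fun N => (ModSite.shPre O).mapIso
      (β_ ((ModSite.toPre O).obj M) ((ModSite.toPre O).obj N)))
    fun {N N'} f => by
      change (ModSite.shPre O).map _ ≫ (ModSite.shPre O).map _ =
        (ModSite.shPre O).map _ ≫ (ModSite.shPre O).map _
      rw [← Functor.map_comp, ← Functor.map_comp]
      exact congrArg (ModSite.shPre O).map
        (BraidedCategory.braiding_naturality_right ((ModSite.toPre O).obj M) ((ModSite.toPre O).map f))

section Colimits

variable {O} {K : Type u} [SmallCategory K]

instance preservesColimitsOfShape_tensorLeft (P : ModSite.preMod O) :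
    PreservesColimitsOfShape K (tensorLeft P) where
  preservesColimit {F} := ⟨fun {c} hc => ⟨PresheafOfModules.evaluationJointlyReflectsColimits _ _ fun X => by
    have : PreservesColimitsOfShape K (tensorLeft (P.obj X) :
        ModuleCat.{u} (O.obj.obj X) ⥤ ModuleCat.{u} (O.obj.obj X)) :=
      (ihom.adjunction (P.obj X : ModuleCat.{u} (O.obj.obj X))).leftAdjoint_preservesColimits.preservesColimitsOfShape
    exact isColimitOfPreserves (tensorLeft (P.obj X) :
        ModuleCat.{u} (O.obj.obj X) ⥤ ModuleCat.{u} (O.obj.obj X))
      (isColimitOfPreserves (PresheafOfModules.evaluation _ X) hc)⟩⟩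

instance preservesColimitsOfShape_obj (M : ModSite.Mod O) :
    PreservesColimitsOfShape K ((TS O).obj M) where
  preservesColimit {F} := by
    have : PreservesColimitsOfShape K (ModSite.shPre O) :=
      (adj O).leftAdjoint_preservesColimits.preservesColimitsOfShape
    have : PreservesColimitsOfShape K (ModSite.shPre O ⋙ (TS O).obj M) :=
      preservesColimitsOfShape_of_natIso (shTensorIso O M).symm
    let F' := F ⋙ ModSite.toPre O
    let e : F ≅ F' ⋙ ModSite.shPre O :=
      Functor.isoWhiskerLeft F (asIso (adj O).counit).symm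
    have h := isColimitOfPreserves (ModSite.shPre O) (colimit.isColimit F')
    have h' : IsColimit (((TS O).obj M).mapCocone
        ((ModSite.shPre O).mapCocone (colimit.cocone F'))) :=
      isColimitOfPreserves (ModSite.shPre O ⋙ (TS O).obj M) (colimit.isColimit F')
    exact preservesColimit_of_preserves_colimit_cocone
      ((IsColimit.precomposeHomEquiv e _).symm h)
      (((IsColimit.precomposeHomEquiv (Functor.isoWhiskerRight e ((TS O).obj M)) _).symm h').ofIsoColimit
        (Cocone.ext (Iso.refl _) fun j => by simp))

instance preservesColimitsOfShape_flip_obj (M : ModSite.Mod O) :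
    PreservesColimitsOfShape K ((TS O).flip.obj M) :=
  preservesColimitsOfShape_of_natIso (flipObjIso O M)

instance preservesColimits_obj (M : ModSite.Mod O) :
    PreservesColimitsOfSize.{0, 0} ((TS O).obj M) :=
  have : PreservesColimitsOfSize.{u, u} ((TS O).obj M) := ⟨inferInstance⟩
  preservesColimitsOfSize_shrink.{0, u, 0, u} _

instance preservesColimits_flip_obj (M : ModSite.Mod O) :
    PreservesColimitsOfSize.{0, 0} ((TS O).flip.obj M) :=
  have : PreservesColimitsOfSize.{u, u} ((TS O).flip.obj M) := ⟨inferInstance⟩
  preservesColimitsOfSize_shrink.{0, u, 0, u} _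

instance ab5 : AB5OfSize.{0, 0} (ModSite.Mod O) := AB5OfSize_shrink.{0, 0, u, u} _

end Colimits

variable {O}

theorem isFlat_of_left {X : ModSite.Mod O} (h : ((TS O).obj X).PreservesMonomorphisms) :
    IsFlat (TS O) X where
  left := h
  right := ⟨fun {A B} f _ => by
    have := h
    exact ((MorphismProperty.monomorphisms _).arrow_mk_iso_iff
      (Arrow.isoMk ((flipObjIso O X).app A) ((flipObjIso O X).app B)
        ((flipObjIso O X).hom.naturality f).symm)).1
      (MorphismProperty.monomorphisms.infer_property (((TS O).obj X).map f))⟩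

theorem isFlat_iff (X : ModSite.Mod O) : IsFlat (TS O) X ↔ ModSite.IsFlat X := by
  constructor
  · intro h
    have := h.right
    have := h.preservesHomology_right
    have : PreservesFiniteLimits ((TS O).flip.obj X) := Functor.preservesFiniteLimits_of_preservesHomology _
    exact ⟨this, PreservesColimitsOfSize.preservesFiniteColimits _⟩
  · rintro ⟨h, -⟩
    have : ((TS O).flip.obj X).PreservesMonomorphisms := inferInstance
    refine isFlat_of_left ⟨fun {A B} f _ => ?_⟩
    exact ((MorphismProperty.monomorphisms _).arrow_mk_iso_iff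
      (Arrow.isoMk ((flipObjIso O X).app A) ((flipObjIso O X).app B)
        ((flipObjIso O X).hom.naturality f).symm)).2
      (MorphismProperty.monomorphisms.infer_property (((TS O).flip.obj X).map f))

variable (O)

/-- The sectionwise free cover of presheaves. -/
noncomputable abbrev preF : ModSite.preMod O ⥤ ModSite.preMod O :=
  PresheafOfModules.toPresheaf _ ⋙ (Functor.whiskeringRight _ _ _).obj (forget AddCommGrpCat.{u}) ⋙
    PresheafOfModules.free _

/-- Its projection. -/
noncomputable abbrev preπ : preF O ⟶ 𝟭 _ :=
  (PresheafOfModules.freeAdjunction.{u} (O.obj ⋙ forget₂ CommRingCat.{u} RingCat.{u})).counit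

/-- The free cover of sheaves. -/
noncomputable abbrev coverF : ModSite.Mod O ⥤ ModSite.Mod O :=
  ModSite.toPre O ⋙ preF O ⋙ ModSite.shPre O

/-- Its projection. -/
noncomputable def coverπ : coverF O ⟶ 𝟭 _ :=
  Functor.whiskerLeft (ModSite.toPre O) (Functor.whiskerRight (preπ O) (ModSite.shPre O)) ≫
    (adj O).counit

theorem epi_preπ (P : ModSite.preMod O) : Epi ((preπ O).app P) := by
  refine PresheafOfModules.epi_of_surjective fun U => ?_
  intro x
  exact ⟨ModuleCat.freeMk x, ModuleCat.freeDesc_apply _ _⟩

theorem epi_coverπ (X : ModSite.Mod O) : Epi ((coverπ O).app X) := by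
  have := epi_preπ O ((ModSite.toPre O).obj X)
  have h1 : Epi ((ModSite.shPre O).map ((preπ O).app ((ModSite.toPre O).obj X))) :=
    Functor.map_epi _ _
  have h2 : Epi ((adj O).counit.app X) := inferInstance
  exact @epi_comp _ _ _ _ _ _ h1 _ h2

theorem mono_free_whiskerLeft (G : Cᵒᵖ ⥤ Type u) {P Q : ModSite.preMod O} (f : P ⟶ Q) [Mono f] :
    Mono ((PresheafOfModules.free (O.obj ⋙ forget₂ CommRingCat.{u} RingCat.{u})).obj G ◁ f) :=
  PresheafOfModules.mono_of_injective fun {U} => by
    have h : Function.Injective (f.app U) := PresheafOfModules.injective_of_mono f U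
    exact _root_.Module.Flat.lTensor_preserves_injective_linearMap (R := O.obj.obj U)
      (M := (G.obj U) →₀ (O.obj.obj U)) (SiteW.lin f U) h

theorem isFlat_coverF (X : ModSite.Mod O) : IsFlat (TS O) ((coverF O).obj X) := by
  have h : ∀ {A B : ModSite.Mod O} (f : A ⟶ B) [Mono f],
      Mono (((TS O).map (𝟙 ((coverF O).obj X))).app A ≫ ((TS O).obj ((coverF O).obj X)).map f) := by
    intro A B f _
    rw [CategoryTheory.Functor.map_id, NatTrans.id_app, Category.id_comp]
    refine ((MorphismProperty.monomorphisms _).arrow_mk_iso_iff ?_).1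
      (MorphismProperty.monomorphisms.infer_property
        (((TS O).flip.obj ((coverF O).obj X)).map f) (hf := ?_))
    · exact Arrow.isoMk ((flipObjIso O _).app A).symm ((flipObjIso O _).app B).symm
        ((flipObjIso O ((coverF O).obj X)).inv.naturality f).symm
    · let P := (preF O).obj ((ModSite.toPre O).obj X)
      have : Mono ((ModSite.toPre O).map f) := inferInstance
      have h1 := mono_free_whiskerLeft O (f := (ModSite.toPre O).map f)
        (G := ((PresheafOfModules.toPresheaf _).obj ((ModSite.toPre O).obj X)) ⋙ forget _)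
      have h2 : Mono ((ModSite.toPre O).map f ▷ P) :=
        ((MorphismProperty.monomorphisms _).arrow_mk_iso_iff
          (Arrow.isoMk (β_ P ((ModSite.toPre O).obj A)) (β_ P ((ModSite.toPre O).obj B))
            (BraidedCategory.braiding_naturality_right P ((ModSite.toPre O).map f)).symm)).1 h1
      have h3 : Mono ((ModSite.shPre O).map ((ModSite.toPre O).map f ▷ P)) := inferInstance
      refine ((MorphismProperty.monomorphisms _).arrow_mk_iso_iff
        (Arrow.isoMk (((shTensorIso O A).app P).symm) (((shTensorIso O B).app P).symm) ?_)).1 h3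
      change _ ≫ (ModSite.shPre O).map _ = (ModSite.shPre O).map _ ≫ _
      simp only [shTensorIso, Iso.symm_inv, Iso.app_inv, Iso.symm_hom, NatIso.ofComponents_hom_app,
        asIso_hom]
      refine ((ModSite.shPre O).map_comp _ _).symm.trans (Eq.trans ?_ ((ModSite.shPre O).map_comp _ _))
      exact congrArg (ModSite.shPre O).map (whisker_exchange _ _)
  refine isFlat_of_left ⟨fun {A B} f _ => ?_⟩
  simpa using h f

/-- The flat cover of sheaves of modules. -/
noncomputable def cover : Cover (ModSite.Mod O) := Cover.mk' _ (coverπ O) (epi_coverπ O)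

theorem isFlat_cover (X : ModSite.Mod O) : IsFlat (TS O) ((cover O).F.obj X) :=
  Cover.isFlat_mk' _ (coverπ O) (epi_coverπ O) (isFlat_coverF O) X

theorem enough : EnoughFlat (TS O) := enoughFlat (T := TS O) (cover O) (isFlat_cover O)

variable {O}

theorem isKFlat_iff (E : CochainComplex (ModSite.Mod O) ℤ) :
    IsKFlat (TS O) E ↔ ModSite.IsKFlat E :=
  ⟨fun h L hL i => (HomologicalComplex.exactAt_iff_isZero_homology _ _).1
      (h L (fun j => (HomologicalComplex.exactAt_iff_isZero_homology _ _).2 (hL j)) i),
    fun h L hL i => (HomologicalComplex.exactAt_iff_isZero_homology _ _).2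
      (h L (fun j => (HomologicalComplex.exactAt_iff_isZero_homology _ _).1 (hL j)) i)⟩

end Groth.Agent.KFlat.Site
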