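import Groth.Agent.Lib.KFlat.DerivedNat
import Groth.Agent.Lib.KFlat.LpullPC

/-!
Derived pullback of a composite.
-/

set_option autoImplicit false
set_option linter.unusedSectionVars false

universe u

open CategoryTheory CategoryTheory.Limits AlgebraicGeometry

attribute [local instance] HasDerivedCategory.standard

namespace Groth.Agent.KFlat.Sch

variable {X Y Z : Scheme.{u}}

/-- `Lf^* Lg^* ≅ L(f ≫ g)^*`. -/
noncomputable def lpullCompIso (f : X ⟶ Y) (g : Y ⟶ Z) [DCoh.HasLpull f] [DCoh.HasLpull g]
    [DCoh.HasLpull (f ≫ g)] : DCoh.Lpull g ⋙ DCoh.Lpull f ≅ DCoh.Lpull (f ≫ g) :=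
  isoOfResIso (cover Z)
    (Functor.isoWhiskerRight (derivedNatIso (cover Z) IsAdapted isAdapted_resObj
        (Scheme.Modules.pullback g) (fun φ _ hK hK' => quasiIso_pullback_map g φ hK hK')
        (resFunctor (cover Z)) isAdapted_resObj) (DCoh.Lpull f) ≪≫
      derivedNatIso (cover Y) IsAdapted isAdapted_resObj (Scheme.Modules.pullback f)
        (fun φ _ hK hK' => quasiIso_pullback_map f φ hK hK')
        (resFunctor (cover Z) ⋙ (Scheme.Modules.pullback g).mapHomologicalComplex (ComplexShape.up ℤ))
        (fun K => isAdapted_pullback g (isAdapted_resObj K)) ≪≫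
      Functor.isoWhiskerLeft (resFunctor (cover Z))
        (Functor.isoWhiskerRight
          (Functor.mapHomologicalComplexCompIso (Scheme.Modules.pullbackComp f g) (ComplexShape.up ℤ))
          DerivedCategory.Q) ≪≫
      (derivedNatIso (cover Z) IsAdapted isAdapted_resObj (Scheme.Modules.pullback (f ≫ g))
        (fun φ _ hK hK' => quasiIso_pullback_map (f ≫ g) φ hK hK')
        (resFunctor (cover Z)) isAdapted_resObj).symm)

end Groth.Agent.KFlat.Sch
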