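import Groth.Agent.Lib.KFlat.DerivedTriangle

/-!
Comparing functors on the derived category on adapted complexes.
-/

set_option autoImplicit false
set_option linter.unusedSectionVars false

universe w w' v v' u u'

open CategoryTheory CategoryTheory.Limits

namespace Groth.Agent.KFlat

variable {C : Type u} [Category.{v} C] [Abelian C] [HasDerivedCategory.{w} C]
  [HasColimitsOfSize.{0, 0} C] [AB5OfSize.{0, 0} C] (Φ : Cover C)

theorem isIso_Q_map_resπ (G : CochainComplex C ℤ) : IsIso (DerivedCategory.Q.map (resπ Φ G)) :=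
  have := quasiIso_resπ Φ G
  inferInstance

/-- `Q ≅ Q` after the resolution. -/
noncomputable def resQIso :
    resFunctor Φ ⋙ DerivedCategory.Q ≅ (DerivedCategory.Q : CochainComplex C ℤ ⥤ DerivedCategory C) :=
  NatIso.ofComponents (fun G => @asIso _ _ _ _ _ (isIso_Q_map_resπ Φ G)) fun {G G'} g =>
    (DerivedCategory.Q.map_comp _ _).symm.trans
      ((congrArg DerivedCategory.Q.map ((resNatTrans Φ).naturality g)).trans
        (DerivedCategory.Q.map_comp _ _))

/-- Functors on the derived category agreeing after resolution are isomorphic. -/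
noncomputable def isoOfResIso {E : Type u'} [Category.{v'} E] {F₁ F₂ : DerivedCategory C ⥤ E}
    (e : resFunctor Φ ⋙ DerivedCategory.Q ⋙ F₁ ≅ resFunctor Φ ⋙ DerivedCategory.Q ⋙ F₂) : F₁ ≅ F₂ :=
  Localization.liftNatIso DerivedCategory.Q (HomologicalComplex.quasiIso C (ComplexShape.up ℤ))
    (DerivedCategory.Q ⋙ F₁) (DerivedCategory.Q ⋙ F₂) F₁ F₂
    (Functor.isoWhiskerRight (resQIso Φ).symm F₁ ≪≫ e ≪≫ Functor.isoWhiskerRight (resQIso Φ) F₂)

variable (P : CochainComplex C ℤ → Prop) (hP : ∀ K, P (resObj Φ K))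
  {D : Type u'} [Category.{v'} D] [Abelian D] [HasDerivedCategory.{w'} D]
  (G : C ⥤ D) [G.Additive]
  (hF : ∀ {K K' : CochainComplex C ℤ} (f : K ⟶ K') [QuasiIso f], P K → P K' →
    QuasiIso ((G.mapHomologicalComplex (ComplexShape.up ℤ)).map f))
  [(G.mapHomotopyCategory (ComplexShape.up ℤ) ⋙ DerivedCategory.Qh).HasLeftDerivedFunctor
    (HomotopyCategory.quasiIso C (ComplexShape.up ℤ))]

include hP hF

/-- A left derived functor after any functor into adapted complexes. -/
noncomputable def derivedNatIso {B : Type*} [Category* B] (S : B ⥤ CochainComplex C ℤ)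
    (hS : ∀ b, P (S.obj b)) :
    S ⋙ DerivedCategory.Q ⋙ LG G ≅
      S ⋙ G.mapHomologicalComplex (ComplexShape.up ℤ) ⋙ DerivedCategory.Q :=
  NatIso.ofComponents (fun b => derivedObjIso Φ G P hP hF (S.obj b) (hS b)) fun {b b'} g =>
    derivedObjIso_naturality Φ P hP G hF (S.map g) (hS b) (hS b')

end Groth.Agent.KFlat
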