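import Groth.Agent.Lib.KFlat.PullbackQIso
import Groth.Agent.Lib.KFlat.Pullback
import Groth.Agent.Lib.KFlat.Tilde
import Groth.Agent.Lib.KFlat.DerivedNat
import Groth.Agent.Lib.ModM1.PullSpec
import Groth.Prelude.Def_DDual2

/-!
Derived pullback along a morphism of affine schemes is derived base change.
-/

set_option autoImplicit false
set_option linter.unusedSectionVars false
set_option backward.isDefEq.respectTransparency false

universe u

open CategoryTheory CategoryTheory.Limits AlgebraicGeometry

attribute [local instance] HasDerivedCategory.standard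

namespace Groth.Agent.KFlat

namespace Module

theorem quasiIso_extendScalars_map {R S : Type u} [CommRing R] [CommRing S] (φ : R →+* S)
    {K K' : DRing.Cx R} (g : K ⟶ K') [QuasiIso g] (hK : IsKFlat (TM R) K) (hK' : IsKFlat (TM R) K') :
    QuasiIso (((ModuleCat.extendScalars φ).mapHomologicalComplex (ComplexShape.up ℤ)).map g) :=
  (splitPres_map (ModuleCat.extendScalars φ)).quasiIso_map_of_acyclic g
    (acyclic_extendScalars φ (acyclic_cylCoker g) (IsKFlat.cylCoker g hK hK'))

end Module

namespace Sch

variable {A B : CommRingCat.{u}} (φ : A ⟶ B)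

/-- `L(Spec φ)^* M^~ ≅ (M ⊗^L B)^~`. -/
noncomputable def lpullTildeIso
    [PreservesFiniteLimits (tilde.functor A)] [PreservesFiniteLimits (tilde.functor B)]
    [DRing.HasLBaseChange φ.hom] [DCoh.HasLpull (Spec.map φ)] :
    DRing.LBaseChange φ.hom ⋙ DCoh.tildeD B ≅
      DCoh.tildeD A ⋙ DCoh.Lpull (Spec.map φ) :=
  let eB := (tilde.functor B).mapDerivedCategoryFactors
  isoOfResIso (Module.cover (R := A))
    (Functor.isoWhiskerRight
      (derivedNatIso (Module.cover (R := A)) (fun K => IsKFlat (Module.TM A) K)
        (fun K => isKFlat_resObj _ K Module.isFlat_cover) (ModuleCat.extendScalars φ.hom)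
        (fun g _ hK hK' => Module.quasiIso_extendScalars_map φ.hom g hK hK')
        (resFunctor Module.cover) (fun K => isKFlat_resObj _ K Module.isFlat_cover))
      (DCoh.tildeD B) ≪≫
    Functor.isoWhiskerLeft (resFunctor (Module.cover (R := A)) ⋙
        (ModuleCat.extendScalars φ.hom).mapHomologicalComplex (ComplexShape.up ℤ))
      eB ≪≫
    Functor.isoWhiskerLeft (resFunctor (Module.cover (R := A)))
      (Functor.isoWhiskerRight
        ((Functor.mapHomologicalComplexCompIso (F := ModuleCat.extendScalars φ.hom) (G := tilde.functor B)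
            (M1.tildePullbackIso φ).symm (ComplexShape.up ℤ)) ≪≫
          (Functor.mapHomologicalComplexCompIso
            (Iso.refl (tilde.functor A ⋙ Scheme.Modules.pullback (Spec.map φ)))
              (ComplexShape.up ℤ)).symm)
        DerivedCategory.Q) ≪≫
    (derivedNatIso (cover (Spec A)) (fun K => IsKFlat (TX _) K)
      (fun K => (isAdapted_resObj K).1) (Scheme.Modules.pullback (Spec.map φ))
      (fun g _ hK hK' => quasiIso_pullback_map_kflat _ g hK hK')
      (resFunctor (Module.cover (R := A)) ⋙
        (tilde.functor A).mapHomologicalComplex (ComplexShape.up ℤ))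
      (fun K => isKFlat_tilde A (isKFlat_resObj _ K Module.isFlat_cover))).symm ≪≫
    Functor.isoWhiskerLeft (resFunctor (Module.cover (R := A)))
      (Functor.isoWhiskerRight (tilde.functor A).mapDerivedCategoryFactors.symm
        (DCoh.Lpull (Spec.map φ))))

end Sch

end Groth.Agent.KFlat
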