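import Groth.Agent.Lib.KFlat.TwoOfThree
import Mathlib.Algebra.Homology.Embedding.TruncLEHomology
import Mathlib.Algebra.Homology.Embedding.CochainComplex
import Mathlib.Algebra.Homology.HomologicalComplexBiprod
import Mathlib.CategoryTheory.Functor.OfSequence

/-!
K-flat resolutions by complexes of flat objects.
-/

set_option autoImplicit false
set_option linter.unusedSectionVars false

universe v u

open CategoryTheory CategoryTheory.Limits

namespace Groth.Agent.KFlat

variable {C : Type u} [Category.{v} C] [Abelian C]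

theorem isIso_ιTruncLE_f (K : CochainComplex C ℤ) {n i : ℤ} (hi : i < n) :
    IsIso ((K.ιTruncLE n).f i) := by
  obtain ⟨k, hk⟩ : ∃ k : ℕ, (ComplexShape.embeddingUpIntLE n).f k = i :=
    ⟨(n - i).toNat, by simp; omega⟩
  have hk' : ¬ (ComplexShape.embeddingUpIntLE n).BoundaryLE k := by
    rw [ComplexShape.boundaryLE_embeddingUpIntLE_iff]
    simp at hk
    omega
  have : IsIso ((HomologicalComplex.πTruncGE K.op (ComplexShape.embeddingUpIntLE n).op).f i) := by
    exact ((ComplexShape.embeddingUpIntLE n).op.isIso_liftExtend_f_iff _ _ hk).2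
      (HomologicalComplex.isIso_restrictionToTruncGE' _ _ _ (by simpa using hk'))
  exact inferInstanceAs
    (IsIso ((HomologicalComplex.πTruncGE K.op (ComplexShape.embeddingUpIntLE n).op).f i).unop)

/-- A functorial cover, compatible with zero maps. -/
structure Cover (C : Type u) [Category.{v} C] [Abelian C] where
  /-- the functor -/
  F : C ⥤ C
  /-- the projection -/
  π : F ⟶ 𝟭 C
  epi : ∀ X, Epi (π.app X)
  zero : ∀ X Y : C, F.map (0 : X ⟶ Y) = 0

namespace Cover

variable (Φ : Cover C)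

instance preservesZero : Φ.F.PreservesZeroMorphisms := ⟨Φ.zero⟩

/-- The cover of a complex, termwise. -/
noncomputable abbrev cx : CochainComplex C ℤ ⥤ CochainComplex C ℤ :=
  Φ.F.mapHomologicalComplex (ComplexShape.up ℤ)

/-- The projection of the termwise cover. -/
noncomputable def cxπ (G : CochainComplex C ℤ) : Φ.cx.obj G ⟶ G where
  f i := Φ.π.app (G.X i)
  comm' i j _ := (Φ.π.naturality (G.d i j)).symm

theorem cxπ_naturality {G G' : CochainComplex C ℤ} (g : G ⟶ G') :
    Φ.cx.map g ≫ Φ.cxπ G' = Φ.cxπ G ≫ g := by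
  ext i
  exact Φ.π.naturality (g.f i)

instance epi_cxπ (G : CochainComplex C ℤ) : Epi (Φ.cxπ G) :=
  HomologicalComplex.epi_of_epi_f _ fun i => Φ.epi (G.X i)

/-- The kernel of the termwise cover. -/
noncomputable abbrev ker (G : CochainComplex C ℤ) : CochainComplex C ℤ := kernel (Φ.cxπ G)

/-- Its functoriality. -/
noncomputable abbrev kerMap {G G' : CochainComplex C ℤ} (g : G ⟶ G') : Φ.ker G ⟶ Φ.ker G' :=
  kernel.map _ _ (Φ.cx.map g) g (Φ.cxπ_naturality g).symm

theorem cx_isStrictlyLE (G : CochainComplex C ℤ) (b : ℤ) [G.IsStrictlyLE b] :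
    (Φ.cx.obj G).IsStrictlyLE b := by
  rw [CochainComplex.isStrictlyLE_iff]
  intro i hi
  exact Φ.F.map_isZero (G.isZero_of_isStrictlyLE b i hi)

theorem ker_isStrictlyLE (G : CochainComplex C ℤ) (b : ℤ) [G.IsStrictlyLE b] :
    (Φ.ker G).IsStrictlyLE b := by
  have := Φ.cx_isStrictlyLE G b
  rw [CochainComplex.isStrictlyLE_iff]
  intro i hi
  exact IsZero.of_mono ((kernel.ι (Φ.cxπ G)).f i) ((Φ.cx.obj G).isZero_of_isStrictlyLE b i hi)

end Cover

section Cylinder

variable {P Q P' Q' : CochainComplex C ℤ} {f : P ⟶ Q} {f' : P' ⟶ Q'}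

/-- Functoriality of `cylCoker`. -/
noncomputable def cylMap (a : P ⟶ P') (b : Q ⟶ Q') (h : f ≫ b = a ≫ f') : cylCoker f ⟶ cylCoker f' :=
  cokernel.map _ _ a (biprod.map b (CochainComplex.mappingCone.map (𝟙 P) (𝟙 P') a a (by simp))) (by
    refine biprod.hom_ext _ _ ?_ ?_
    · simp [h]
    · simp [CochainComplex.mappingCone.map])

theorem cylMap_π (a : P ⟶ P') (b : Q ⟶ Q') (h : f ≫ b = a ≫ f') :
    cokernel.π (cylHom f) ≫ cylMap a b h =
      biprod.map b (CochainComplex.mappingCone.map (𝟙 P) (𝟙 P') a a (by simp)) ≫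
        cokernel.π (cylHom f') :=
  cokernel.π_desc _ _ _

theorem cylCoker_isStrictlyLE (b : ℤ) [P.IsStrictlyLE b] [Q.IsStrictlyLE b] :
    (cylCoker f).IsStrictlyLE b := by
  rw [CochainComplex.isStrictlyLE_iff]
  intro i hi
  have hP : IsZero ((CochainComplex.mappingCone (𝟙 P)).X i) := by
    rw [IsZero.iff_id_eq_zero]
    exact CochainComplex.mappingCone.ext_to _ i (i + 1) rfl
      ((P.isZero_of_isStrictlyLE b (i + 1) (by omega)).eq_of_tgt _ _)
      ((P.isZero_of_isStrictlyLE b i hi).eq_of_tgt _ _)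
  have h0 : IsZero ((Q ⊞ CochainComplex.mappingCone (𝟙 P)).X i) :=
    (biprod_isZero_iff _ _).2 ⟨Q.isZero_of_isStrictlyLE b i hi, hP⟩ |>.of_iso
      (HomologicalComplex.biprodXIso Q _ i)
  have := (cylSC_shortExact f).map_of_exact (HomologicalComplex.eval C (ComplexShape.up ℤ) i)
  have : Epi ((cokernel.π (cylHom f)).f i) := this.epi_g
  exact IsZero.of_epi ((cokernel.π (cylHom f)).f i) h0

variable [HasColimitsOfSize.{0, 0} C] {T : C ⥤ C ⥤ C} [T.Additive] [∀ X, (T.obj X).Additive]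
  [∀ X, PreservesColimitsOfSize.{0, 0} (T.obj X)]
  [∀ X, PreservesColimitsOfSize.{0, 0} (T.flip.obj X)]

theorem isFlat_cylCoker_X (f : P ⟶ Q) (hP : ∀ i, IsFlat T (P.X i)) (hQ : ∀ i, IsFlat T (Q.X i))
    (i : ℤ) : IsFlat T ((cylCoker f).X i) := by
  have hc : IsFlat T ((CochainComplex.mappingCone (𝟙 P)).X i) :=
    ((hP (i + 1)).biprod (hP i)).of_retract
      (biprod.lift ((CochainComplex.mappingCone.fst (𝟙 P)).1.v i (i + 1) rfl)
        ((CochainComplex.mappingCone.snd (𝟙 P)).v i i (add_zero i)))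
      (biprod.desc ((CochainComplex.mappingCone.inl (𝟙 P)).v (i + 1) i (by omega))
        ((CochainComplex.mappingCone.inr (𝟙 P)).f i))
      (by rw [biprod.lift_desc]; exact CochainComplex.mappingCone.id_X _ i (i + 1) rfl)
  obtain ⟨s⟩ := cylSC_splitting f i
  exact (((hQ i).biprod hc).of_iso (HomologicalComplex.biprodXIso Q _ i)).of_retract
    (T := T) s.s _ s.s_g

end Cylinder

/-- A stage of the resolution, natural in the complex. -/
structure Stage (C : Type u) [Category.{v} C] [Abelian C] where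
  /-- the complex -/
  obj : CochainComplex C ℤ → CochainComplex C ℤ
  /-- functoriality -/
  map : ∀ {G G' : CochainComplex C ℤ}, (G ⟶ G') → (obj G ⟶ obj G')
  /-- the augmentation -/
  φ : ∀ G, obj G ⟶ G
  nat : ∀ {G G' : CochainComplex C ℤ} (g : G ⟶ G'), map g ≫ φ G' = φ G ≫ g

namespace Stage

variable (Φ : Cover C) (S : Stage C)

/-- The attaching map of the next stage. -/
noncomputable abbrev attach (G : CochainComplex C ℤ) : S.obj (Φ.ker G) ⟶ Φ.cx.obj G :=
  S.φ (Φ.ker G) ≫ kernel.ι (Φ.cxπ G)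

/-- The augmentation of the next stage. -/
noncomputable def nextφ (G : CochainComplex C ℤ) : cylCoker (S.attach Φ G) ⟶ G :=
  cokernel.desc _ (biprod.fst ≫ Φ.cxπ G) (by simp [attach])

@[reassoc]
theorem π_nextφ (G : CochainComplex C ℤ) :
    cokernel.π (cylHom (S.attach Φ G)) ≫ S.nextφ Φ G = biprod.fst ≫ Φ.cxπ G :=
  cokernel.π_desc _ _ _

theorem cylMap_nextφ {S S' : Stage C} {G G' : CochainComplex C ℤ}
    (a : S.obj (Φ.ker G) ⟶ S'.obj (Φ.ker G')) (b : Φ.cx.obj G ⟶ Φ.cx.obj G') (g : G ⟶ G')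
    (h : S.attach Φ G ≫ b = a ≫ S'.attach Φ G') (hb : b ≫ Φ.cxπ G' = Φ.cxπ G ≫ g) :
    cylMap a b h ≫ S'.nextφ Φ G' = S.nextφ Φ G ≫ g := by
  refine coequalizer.hom_ext ?_
  change cokernel.π _ ≫ cylMap a b h ≫ _ = cokernel.π _ ≫ _ ≫ g
  rw [← Category.assoc, cylMap_π, Category.assoc, π_nextφ, π_nextφ_assoc, biprod.map_fst_assoc, hb]

/-- The next stage. -/
noncomputable def next : Stage C where
  obj G := cylCoker (S.attach Φ G)
  map {G G'} g := cylMap (S.map (Φ.kerMap g)) (Φ.cx.map g) (by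
    simp [attach, reassoc_of% (S.nat (Φ.kerMap g))])
  φ G := S.nextφ Φ G
  nat {G G'} g := cylMap_nextφ Φ _ _ g _ (Φ.cxπ_naturality g)

end Stage

/-- The `k`-th stage. -/
noncomputable def stage (Φ : Cover C) : ℕ → Stage C
  | 0 => { obj := Φ.cx.obj, map := fun g => Φ.cx.map g, φ := Φ.cxπ, nat := Φ.cxπ_naturality }
  | k + 1 => (stage Φ k).next Φ

/-- Each stage maps to the next one. -/
noncomputable def trans (Φ : Cover C) :
    ∀ k : ℕ, ∀ G, { t : (stage Φ k).obj G ⟶ (stage Φ (k + 1)).obj G //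
      t ≫ (stage Φ (k + 1)).φ G = (stage Φ k).φ G }
  | 0, G => ⟨biprod.inl ≫ cokernel.π (cylHom ((stage Φ 0).attach Φ G)),
      ((Category.assoc _ _ _).trans (congrArg (biprod.inl ≫ ·)
        (Stage.π_nextφ Φ (stage Φ 0) G))).trans (biprod.inl_fst_assoc _)⟩
  | k + 1, G => ⟨cylMap (trans Φ k (Φ.ker G)).1 (𝟙 _)
        ((Category.comp_id _).trans (((reassoc_of% (trans Φ k (Φ.ker G)).2) _).symm)),
      (Stage.cylMap_nextφ Φ _ _ (𝟙 G) _ (by rw [Category.id_comp, Category.comp_id])).trans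
        (Category.comp_id _)⟩

variable (Φ : Cover C)

theorem stage_isStrictlyLE : ∀ (k : ℕ) (G : CochainComplex C ℤ) (b : ℤ) [G.IsStrictlyLE b],
    ((stage Φ k).obj G).IsStrictlyLE b
  | 0, G, b, _ => Φ.cx_isStrictlyLE G b
  | k + 1, G, b, _ => by
      have := Φ.ker_isStrictlyLE G b
      have := stage_isStrictlyLE k (Φ.ker G) b
      have := Φ.cx_isStrictlyLE G b
      exact cylCoker_isStrictlyLE b

theorem epi_stage_f : ∀ (k : ℕ) (G : CochainComplex C ℤ) (i : ℤ), Epi (((stage Φ k).φ G).f i)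
  | 0, G, i => Φ.epi (G.X i)
  | k + 1, G, i => by
      have : Epi ((biprod.fst ≫ Φ.cxπ G :
          Φ.cx.obj G ⊞ CochainComplex.mappingCone (𝟙 ((stage Φ k).obj (Φ.ker G))) ⟶ G).f i) := by
        rw [HomologicalComplex.comp_f]
        have : Epi ((Φ.cxπ G).f i) := Φ.epi (G.X i)
        infer_instance
      rw [← Stage.π_nextφ Φ (stage Φ k) G, HomologicalComplex.comp_f] at this
      change Epi (((stage Φ k).nextφ Φ G).f i)
      exact @epi_of_epi _ _ _ _ _ ((cokernel.π (cylHom ((stage Φ k).attach Φ G))).f i)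
        (((stage Φ k).nextφ Φ G).f i) this

theorem homology_stage : ∀ (k : ℕ) (G : CochainComplex C ℤ) (b : ℤ) [G.IsStrictlyLE b] (i : ℤ),
    (b - k < i → IsIso (HomologicalComplex.homologyMap ((stage Φ k).φ G) i)) ∧
      (b - k ≤ i → Epi (HomologicalComplex.homologyMap ((stage Φ k).φ G) i))
  | 0, G, b, _, i => by
      have hc := Φ.cx_isStrictlyLE G b
      have := Φ.ker_isStrictlyLE G b
      have hz : ∀ (M : CochainComplex C ℤ) [M.IsStrictlyLE b] (j : ℤ), b < j → IsZero (M.homology j) :=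
        fun M _ j hj => (HomologicalComplex.exactAt_iff_isZero_homology _ _).1
          (HomologicalComplex.exactAt_of_isSupported M (ComplexShape.embeddingUpIntLE b) j
            (fun n hn => by simp at hn; omega))
      have h1 : b < i → IsIso (HomologicalComplex.homologyMap (Φ.cxπ G) i) := fun hi =>
        isIso_of_source_target_iso_zero _ (hz _ i hi).isoZero (hz _ i hi).isoZero
      refine ⟨fun hi => h1 (by simpa using hi), fun _ => ?_⟩
      by_cases hi : b < i
      · have := h1 hi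
        exact inferInstanceAs (Epi (HomologicalComplex.homologyMap (Φ.cxπ G) i))
      · have hS : (ShortComplex.mk (kernel.ι (Φ.cxπ G)) (Φ.cxπ G) (kernel.condition _)).ShortExact :=
          { exact := ShortComplex.exact_kernel _ }
        exact (hS.homology_exact₃ i (i + 1) rfl).epi_f
          ((hz _ (i + 1) (by simp at *; omega)).eq_of_tgt _ _)
  | k + 1, G, b, _, i => by
      have := Φ.ker_isStrictlyLE G b
      have hK := homology_stage k (Φ.ker G) b
      let Sm : ShortComplex (CochainComplex C ℤ) :=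
        ShortComplex.mk (kernel.ι (Φ.cxπ G)) (Φ.cxπ G) (kernel.condition _)
      have hS : Sm.ShortExact := { exact := ShortComplex.exact_kernel _ }
      let ψ : cylSC ((stage Φ k).attach Φ G) ⟶ Sm :=
        { τ₁ := (stage Φ k).φ (Φ.ker G)
          τ₂ := biprod.fst
          τ₃ := (stage Φ (k + 1)).φ G
          comm₁₂ := (biprod.lift_fst _ _).symm
          comm₂₃ := (cokernel.π_desc _ _ _).symm }
      have h2 : ∀ j, IsIso (HomologicalComplex.homologyMap ψ.τ₂ j) := fun j => by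
        have : QuasiIso ψ.τ₂ := homotopyEquivalences_le_quasiIso _ _ _
          ⟨fstHomotopyEquiv (X := Φ.cx.obj G)
            (CochainComplex.mappingCone.homotopyToZeroOfId ((stage Φ k).obj (Φ.ker G))), rfl⟩
        infer_instance
      refine ⟨fun hi => ?_, fun hi => ?_⟩
      · exact HomologicalComplex.HomologySequence.isIso_homologyMap_τ₃ ψ (cylSC_shortExact _) hS i
          ((hK i).2 (by push_cast at hi; omega)) (h2 i)
          (fun j hj => (hK j).1 (by have : i + 1 = j := hj; push_cast at hi; omega))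
          (fun j _ => have := h2 j; inferInstance)
      · exact HomologicalComplex.HomologySequence.epi_homologyMap_τ₃ ψ (cylSC_shortExact _) hS i
          (have := h2 i; inferInstance)
          (fun j hj => (hK j).2 (by have : i + 1 = j := hj; push_cast at hi; omega))
          (fun j _ => have := h2 j; inferInstance)

section Seq

variable (G : CochainComplex C ℤ)

/-- `τ≤n G ⟶ τ≤(n+1) G`. -/
noncomputable def truncStep (n : ℕ) : G.truncLE (n : ℤ) ⟶ G.truncLE ((n + 1 : ℕ) : ℤ) :=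
  have : (G.truncLE (n : ℤ)).IsStrictlyLE ((n + 1 : ℕ) : ℤ) :=
    CochainComplex.isStrictlyLE_of_le _ (n : ℤ) _ (by omega)
  have : IsIso ((G.truncLE (n : ℤ)).ιTruncLE ((n + 1 : ℕ) : ℤ)) :=
    inferInstanceAs (IsIso (HomologicalComplex.ιTruncLE _ _))
  inv ((G.truncLE (n : ℤ)).ιTruncLE ((n + 1 : ℕ) : ℤ)) ≫
    CochainComplex.truncLEMap (G.ιTruncLE (n : ℤ)) ((n + 1 : ℕ) : ℤ)

theorem truncStep_ι (n : ℕ) :
    truncStep G n ≫ G.ιTruncLE ((n + 1 : ℕ) : ℤ) = G.ιTruncLE (n : ℤ) := by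
  have : (G.truncLE (n : ℤ)).IsStrictlyLE ((n + 1 : ℕ) : ℤ) :=
    CochainComplex.isStrictlyLE_of_le _ (n : ℤ) _ (by omega)
  have : IsIso ((G.truncLE (n : ℤ)).ιTruncLE ((n + 1 : ℕ) : ℤ)) :=
    inferInstanceAs (IsIso (HomologicalComplex.ιTruncLE _ _))
  rw [truncStep, Category.assoc, CochainComplex.ιTruncLE_naturality]
  exact IsIso.inv_hom_id_assoc _ _

/-- The terms of the resolution. -/
noncomputable abbrev resTerm (n : ℕ) : CochainComplex C ℤ :=
  (stage Φ (2 * n)).obj (G.truncLE (n : ℤ))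

/-- The augmentations. -/
noncomputable abbrev resAug (n : ℕ) : resTerm Φ G n ⟶ G :=
  (stage Φ (2 * n)).φ (G.truncLE (n : ℤ)) ≫ G.ιTruncLE (n : ℤ)

/-- The steps. -/
noncomputable def resStep (n : ℕ) : resTerm Φ G n ⟶ resTerm Φ G (n + 1) :=
  (stage Φ (2 * n)).map (truncStep G n) ≫ (trans Φ (2 * n) _).1 ≫ (trans Φ (2 * n + 1) _).1

theorem resStep_aug (n : ℕ) : resStep Φ G n ≫ resAug Φ G (n + 1) = resAug Φ G n := by
  change ((stage Φ (2 * n)).map (truncStep G n) ≫ (trans Φ (2 * n) _).1 ≫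
    (trans Φ (2 * n + 1) _).1) ≫ (stage Φ (2 * n + 1 + 1)).φ _ ≫ _ = _
  simp only [Category.assoc]
  rw [reassoc_of% (trans Φ (2 * n + 1) (G.truncLE ((n + 1 : ℕ) : ℤ))).2,
    reassoc_of% (trans Φ (2 * n) (G.truncLE ((n + 1 : ℕ) : ℤ))).2,
    reassoc_of% ((stage Φ (2 * n)).nat (truncStep G n)), truncStep_ι]

/-- The system. -/
noncomputable def resSeq : ℕ ⥤ CochainComplex C ℤ := Functor.ofSequence (resStep Φ G)

variable [HasColimitsOfSize.{0, 0} C]

/-- The augmentation cocone. -/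
noncomputable def resCocone : Cocone (resSeq Φ G) where
  pt := G
  ι := NatTrans.ofSequence (F := resSeq Φ G) (G := (Functor.const _).obj G) (resAug Φ G) fun n => by
    refine Eq.trans ?_ (Category.comp_id _).symm
    refine (congrArg (· ≫ _) (Functor.ofSequence_map_homOfLE_succ (resStep Φ G) n)).trans ?_
    exact resStep_aug Φ G n

/-- The resolution. -/
noncomputable abbrev resObj : CochainComplex C ℤ := colimit (resSeq Φ G)

/-- Its augmentation. -/
noncomputable def resπ : resObj Φ G ⟶ G := colimit.desc _ (resCocone Φ G)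

theorem ι_resπ (n : ℕ) : colimit.ι (resSeq Φ G) n ≫ resπ Φ G = resAug Φ G n :=
  colimit.ι_desc (resCocone Φ G) n

theorem epi_resπ_f (i : ℤ) : Epi ((resπ Φ G).f i) := by
  have := epi_stage_f Φ (2 * (i.natAbs + 1)) (G.truncLE ((i.natAbs + 1 : ℕ) : ℤ)) i
  have := isIso_ιTruncLE_f G (n := ((i.natAbs + 1 : ℕ) : ℤ)) (i := i) (by omega)
  have h : Epi ((resAug Φ G (i.natAbs + 1)).f i) := by
    rw [HomologicalComplex.comp_f]
    infer_instance
  rw [← ι_resπ, HomologicalComplex.comp_f] at h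
  exact @epi_of_epi _ _ _ _ _ ((colimit.ι (resSeq Φ G) (i.natAbs + 1)).f i) _ h

variable [AB5OfSize.{0, 0} C]

theorem quasiIso_resπ : QuasiIso (resπ Φ G) := by
  rw [quasiIso_iff]
  intro i
  rw [quasiIsoAt_iff_isIso_homologyMap]
  set N : ℕ := i.natAbs + 1 with hN
  have key : ∀ n : ℕ, N ≤ n → IsIso (HomologicalComplex.homologyMap (resAug Φ G n) i) := fun n hn => by
    have := (homology_stage Φ (2 * n) (G.truncLE (n : ℤ)) (n : ℤ) i).1 (by push_cast; omega)
    have := CochainComplex.quasiIsoAt_ιTruncLE G (n : ℤ) i (by omega)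
    rw [HomologicalComplex.homologyMap_comp]
    infer_instance
  let H := HomologicalComplex.homologyFunctor C (ComplexShape.up ℤ) i
  have hev : (resSeq Φ G ⋙ H).IsEventuallyConstantFrom N := fun n f => by
    have h1 := key N le_rfl
    have h2 : IsIso (H.map ((resCocone Φ G).ι.app n)) := key n (leOfHom f)
    have : IsIso (H.map ((resSeq Φ G).map f) ≫ H.map ((resCocone Φ G).ι.app n)) := by
      rw [← H.map_comp, (resCocone Φ G).w f]
      exact h1
    exact IsIso.of_isIso_comp_right (H.map ((resSeq Φ G).map f))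
      (H.map ((resCocone Φ G).ι.app n))
  have h3 : IsIso (H.map (colimit.ι (resSeq Φ G) N)) :=
    hev.isIso_ι_of_isColimit (isColimitOfPreserves H (colimit.isColimit (resSeq Φ G)))
  have : IsIso (H.map (colimit.ι (resSeq Φ G) N) ≫ H.map (resπ Φ G)) := by
    rw [← H.map_comp, ι_resπ]
    exact key N le_rfl
  exact IsIso.of_isIso_comp_left (H.map (colimit.ι (resSeq Φ G) N)) (H.map (resπ Φ G))

variable {T : C ⥤ C ⥤ C} [T.Additive] [∀ X, (T.obj X).Additive]
  [∀ X, PreservesColimitsOfSize.{0, 0} (T.obj X)]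
  [∀ X, PreservesColimitsOfSize.{0, 0} (T.flip.obj X)] (hΦ : ∀ X, IsFlat T (Φ.F.obj X))

include hΦ

omit [AB5OfSize.{0, 0} C] in
theorem isFlat_stage_X : ∀ (k : ℕ) (G : CochainComplex C ℤ) (i : ℤ),
    IsFlat T (((stage Φ k).obj G).X i)
  | 0, G, i => hΦ (G.X i)
  | k + 1, G, i => isFlat_cylCoker_X _ (isFlat_stage_X k (Φ.ker G)) (fun j => hΦ (G.X j)) i

theorem isFlat_resObj_X (i : ℤ) : IsFlat T ((resObj Φ G).X i) :=
  isFlat_colimit (isColimitOfPreserves (HomologicalComplex.eval C (ComplexShape.up ℤ) i)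
    (colimit.isColimit (resSeq Φ G))) fun n => isFlat_stage_X Φ hΦ (2 * n) _ i

theorem isKFlat_resObj : IsKFlat T (resObj Φ G) :=
  IsKFlat.colimit (colimit.isColimit (resSeq Φ G)) fun n => by
    have := stage_isStrictlyLE Φ (2 * n) (G.truncLE (n : ℤ)) (n : ℤ)
    exact isKFlat_of_boundedAbove_flat (resTerm Φ G n) (n : ℤ) (isFlat_stage_X Φ hΦ _ _)

theorem isKFlat_flip_resObj : IsKFlat T.flip (resObj Φ G) :=
  isKFlat_resObj Φ G (T := T.flip) fun X => (hΦ X).flip

omit hΦ in
theorem enoughFlat (hΦ : ∀ X, IsFlat T (Φ.F.obj X)) : EnoughFlat T :=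
  fun X => ⟨Φ.F.obj X, Φ.π.app X, Φ.epi X, hΦ X⟩

end Seq

end Groth.Agent.KFlat
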