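import Groth.Agent.Lib.KFlat.Flat
import Groth.Agent.Lib.KFlat.Resolution
import Mathlib.RingTheory.TensorProduct.DirectLimitFG
import Mathlib.RingTheory.Finiteness.Cardinality
import Mathlib.Algebra.Module.FinitePresentation

/-!
`K ⊗ L` is acyclic for every `L` as soon as it is for the complexes `L` concentrated in one degree;
exactness after tensoring with all modules follows from exactness after tensoring with the finitely
presented ones.
-/

set_option autoImplicit false
set_option linter.unusedSectionVars false

universe v u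

open CategoryTheory CategoryTheory.Limits

namespace Groth.Agent.KFlat

variable {C : Type u} [Category.{v} C] [Abelian C] [HasColimitsOfSize.{0, 0} C]

section Trunc

variable (G : CochainComplex C ℤ)

/-- The cocone `τ≤n G ⟶ G`. -/
noncomputable def truncCocone : Cocone (Functor.ofSequence (truncStep G)) where
  pt := G
  ι := NatTrans.ofSequence (F := Functor.ofSequence (truncStep G)) (G := (Functor.const _).obj G)
    (fun n => G.ιTruncLE (n : ℤ)) fun n => by
      refine Eq.trans ?_ (Category.comp_id _).symm
      refine (congrArg (· ≫ _) (Functor.ofSequence_map_homOfLE_succ (truncStep G) n)).trans ?_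
      exact truncStep_ι G n

/-- `G = colim τ≤n G`. -/
noncomputable def isColimitTruncCocone : IsColimit (truncCocone G) :=
  HomologicalComplex.isColimitOfEval _ _ fun i => by
    have key : ∀ n : ℕ, i.natAbs + 1 ≤ n → IsIso (((truncCocone G).ι.app n).f i) :=
      fun n hn => isIso_ιTruncLE_f G (by omega)
    have hev : (Functor.ofSequence (truncStep G) ⋙
        HomologicalComplex.eval C (ComplexShape.up ℤ) i).IsEventuallyConstantFrom
          (i.natAbs + 1) := by
      intro n f
      have h1 := key _ le_rfl
      have h2 := key n (leOfHom f)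
      have : IsIso (((Functor.ofSequence (truncStep G)).map f).f i ≫
          ((truncCocone G).ι.app n).f i) := by
        rw [← HomologicalComplex.comp_f, (truncCocone G).w f]
        exact h1
      exact IsIso.of_isIso_comp_right (((Functor.ofSequence (truncStep G)).map f).f i)
        (((truncCocone G).ι.app n).f i)
    have : IsIso (((HomologicalComplex.eval C (ComplexShape.up ℤ) i).mapCocone
        (truncCocone G)).ι.app (i.natAbs + 1)) := key _ le_rfl
    exact hev.isColimitOfIsIso _

end Trunc

variable {T : C ⥤ C ⥤ C} [T.Additive] [∀ X, (T.obj X).Additive]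
  [∀ X, PreservesColimitsOfSize.{0, 0} (T.obj X)]
  [∀ X, PreservesColimitsOfSize.{0, 0} (T.flip.obj X)]

theorem acyclic_tcx_of_bounded {K : CochainComplex C ℤ}
    (hK : ∀ (a : ℤ) (X : C),
      (((tcx T).obj K).obj ((HomologicalComplex.single C (ComplexShape.up ℤ) a).obj X)).Acyclic)
    (b : ℤ) (m : ℕ) : ∀ (L : CochainComplex C ℤ) [L.IsStrictlyLE b] [L.IsStrictlyGE (b + 1 - m)],
      (((tcx T).obj K).obj L).Acyclic := by
  induction m with
  | zero =>
    intro L _ hGE
    refine (splitPres_left T K).acyclic_of_contractible (K := L)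
      (Homotopy.ofEq (IsZero.eq_of_src ((IsZero.iff_id_eq_zero L).2 ?_) _ _))
    ext i
    rcases lt_or_ge i (b + 1) with h | h
    · exact (L.isZero_of_isStrictlyGE (b + 1 - ((0 : ℕ) : ℤ)) i (by simpa using h)).eq_of_src _ _
    · exact (L.isZero_of_isStrictlyLE b i (by omega)).eq_of_src _ _
  | succ m ih =>
    intro L _ hGE
    obtain ⟨a, ha⟩ : ∃ a, a = b + 1 - ((m + 1 : ℕ) : ℤ) := ⟨_, rfl⟩
    let π : L ⟶ (HomologicalComplex.single C (ComplexShape.up ℤ) a).obj (L.X a) :=
      HomologicalComplex.mkHomToSingle (𝟙 _) fun i hi =>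
        (L.isZero_of_isStrictlyGE (b + 1 - ((m + 1 : ℕ) : ℤ)) i
          (by have : i + 1 = a := hi; omega)).eq_of_src _ _
    let S : ShortComplex (CochainComplex C ℤ) :=
      ShortComplex.mk (brutι L (a + 1)) π (by
        refine HomologicalComplex.hom_ext _ _ fun i => ?_
        by_cases hi : i = a
        · exact (brutGE_isZero L (by omega)).eq_of_src _ _
        · exact (HomologicalComplex.isZero_single_obj_X _ a _ i hi).eq_of_tgt _ _)
    have hSp : ∀ i : ℤ,
        Nonempty ((S.map (HomologicalComplex.eval C (ComplexShape.up ℤ) i)).Splitting) := fun i => by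
      rcases lt_trichotomy i a with hi | hi | hi
      · have hz := L.isZero_of_isStrictlyGE (b + 1 - ((m + 1 : ℕ) : ℤ)) i (by omega)
        exact ⟨{ r := 0, s := 0
                 f_r := (brutGE_isZero L (by omega)).eq_of_src _ _
                 s_g := (HomologicalComplex.isZero_single_obj_X (ComplexShape.up ℤ) a (L.X a) i (by omega)).eq_of_src _ _
                 id := hz.eq_of_src _ _ }⟩
      · subst hi
        refine ⟨{ r := 0, s := (HomologicalComplex.singleObjXSelf (ComplexShape.up ℤ) i (L.X i)).hom
                  f_r := (brutGE_isZero L (by omega)).eq_of_src _ _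
                  s_g := ?_
                  id := ?_ }⟩
        · change _ ≫ π.f i = 𝟙 _
          rw [HomologicalComplex.mkHomToSingle_f, Category.id_comp]
          exact Iso.hom_inv_id _
        · change (0 : L.X i ⟶ (brutGE L (i + 1)).X i) ≫ (brutι L (i + 1)).f i +
            π.f i ≫ (HomologicalComplex.singleObjXSelf (ComplexShape.up ℤ) i (L.X i)).hom = 𝟙 (L.X i)
          rw [zero_comp, HomologicalComplex.mkHomToSingle_f, Category.id_comp]
          exact (zero_add _).trans (Iso.inv_hom_id _)
      · refine ⟨{ r := (brutIso L (show a + 1 ≤ i by omega)).inv, s := 0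
                  f_r := ?_
                  s_g := (HomologicalComplex.isZero_single_obj_X (ComplexShape.up ℤ) a (L.X a) i (by omega)).eq_of_src _ _
                  id := ?_ }⟩
        · change (brutι L (a + 1)).f i ≫ _ = 𝟙 _
          rw [brutι_f L (show a + 1 ≤ i by omega), Iso.hom_inv_id]
        · change (brutIso L (show a + 1 ≤ i by omega)).inv ≫ (brutι L (a + 1)).f i +
            π.f i ≫ (0 : ((HomologicalComplex.single C (ComplexShape.up ℤ) a).obj (L.X a)).X i ⟶ L.X i)
              = 𝟙 (L.X i)
          rw [brutι_f L (show a + 1 ≤ i by omega), Iso.inv_hom_id, comp_zero]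
          exact add_zero _
    have := brutGE_isStrictlyLE L (a + 1) b
    have : (brutGE L (a + 1)).IsStrictlyGE (b + 1 - (m : ℤ)) := by
      rw [show b + 1 - (m : ℤ) = a + 1 by push_cast at ha; omega]
      infer_instance
    exact ((splitPres_left T K).shortExact S hSp).acyclic_X₂ (ih (brutGE L (a + 1))) (hK a (L.X a))

variable [HasExactColimitsOfShape ℕ C]

/-- `K ⊗ L` is acyclic for all `L` if it is for the `L` concentrated in one degree. -/
theorem acyclic_tcx_of_singles {K : CochainComplex C ℤ}
    (hK : ∀ (a : ℤ) (X : C),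
      (((tcx T).obj K).obj ((HomologicalComplex.single C (ComplexShape.up ℤ) a).obj X)).Acyclic)
    (L : CochainComplex C ℤ) : (((tcx T).obj K).obj L).Acyclic := by
  have := preservesColimitsOfShape_left (T := T) (J := ℕ) K
  intro i
  refine exactAt_colimit (isColimitOfPreserves ((tcx T).obj K) (isColimitTruncCocone L)) i
    fun n => ?_
  refine exactAt_colimit (isColimitOfPreserves ((tcx T).obj K)
    (isColimitBrutCocone (L.truncLE (n : ℤ)) ((n : ℤ) + 1))) i fun j => ?_
  have := brutGE_isStrictlyLE (L.truncLE (n : ℤ)) ((n : ℤ) + 1 - (j : ℤ)) (n : ℤ)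
  exact acyclic_tcx_of_bounded hK (n : ℤ) j
    (brutGE (L.truncLE (n : ℤ)) ((n : ℤ) + 1 - (j : ℤ))) i

end Groth.Agent.KFlat

namespace Groth.Agent.KFlat.LinearExact

open TensorProduct

variable {R : Type u} [CommRing R] {A B C : Type u} [AddCommGroup A] [Module R A]
  [AddCommGroup B] [Module R B] [AddCommGroup C] [Module R C] (f : A →ₗ[R] B) (g : B →ₗ[R] C)

theorem exact_rTensor_of_finite
    (hgf : g.comp f = 0)
    (h : ∀ (N : Type u) [AddCommGroup N] [Module R N], Module.FinitePresentation R N →
      Function.Exact (f.rTensor N) (g.rTensor N))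
    (M : Type u) [AddCommGroup M] [Module R M] [Module.Finite R M] :
    Function.Exact (f.rTensor M) (g.rTensor M) := by
  intro x
  refine ⟨fun hx => ?_, ?_⟩
  · obtain ⟨n, π, hπ⟩ := Module.Finite.exists_fin' R M
    obtain ⟨x', rfl⟩ := π.lTensor_surjective B hπ x
    have hz : π.lTensor C (g.rTensor (Fin n → R) x') = 0 := by
      rw [← LinearMap.comp_apply, LinearMap.lTensor_comp_rTensor, ← LinearMap.rTensor_comp_lTensor]
      exact hx
    obtain ⟨u, hu⟩ := (lTensor_exact C π.exact_subtype_ker_map hπ _).1 hz
    obtain ⟨N', hN', hu'⟩ :=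
      TensorProduct.exists_finite_submodule_right_of_setFinite {u} (Set.finite_singleton u)
    obtain ⟨w, hw⟩ := hu' rfl
    let φ : N' →ₗ[R] (Fin n → R) := (LinearMap.ker π).subtype ∘ₗ N'.subtype
    have hfg : (LinearMap.range φ).FG := Module.Finite.iff_fg.1 (Module.Finite.range φ)
    have hfp : Module.FinitePresentation R ((Fin n → R) ⧸ LinearMap.range φ) :=
      Module.finitePresentation_of_surjective _ (Submodule.mkQ_surjective _)
        (by rw [Submodule.ker_mkQ]; exact hfg)
    have hle : LinearMap.range φ ≤ LinearMap.ker π := by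
      rintro _ ⟨t, rfl⟩
      exact t.1.2
    have hy : g.rTensor _ ((LinearMap.range φ).mkQ.lTensor B x') = 0 := by
      rw [← LinearMap.comp_apply, LinearMap.rTensor_comp_lTensor, ← LinearMap.lTensor_comp_rTensor,
        LinearMap.comp_apply, ← hu, ← hw, ← LinearMap.comp_apply, ← LinearMap.lTensor_comp,
        ← LinearMap.comp_apply, ← LinearMap.lTensor_comp]
      have h0 : (LinearMap.range φ).mkQ ∘ₗ φ = 0 := LinearMap.range_mkQ_comp φ
      rw [LinearMap.comp_assoc, h0, LinearMap.lTensor_zero, LinearMap.zero_apply]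
    obtain ⟨a, ha⟩ := (h _ hfp _).1 hy
    refine ⟨((LinearMap.range φ).liftQ π hle).lTensor A a, ?_⟩
    rw [← LinearMap.comp_apply, LinearMap.rTensor_comp_lTensor, ← LinearMap.lTensor_comp_rTensor,
      LinearMap.comp_apply, ha, ← LinearMap.comp_apply, ← LinearMap.lTensor_comp,
      Submodule.liftQ_mkQ]
  · rintro ⟨a, rfl⟩
    rw [← LinearMap.comp_apply, ← LinearMap.rTensor_comp, hgf, LinearMap.rTensor_zero,
      LinearMap.zero_apply]

/-- Exactness after tensoring is detected on finitely presented modules. -/
theorem exact_rTensor_of_fp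
    (hgf : g.comp f = 0)
    (h : ∀ (N : Type u) [AddCommGroup N] [Module R N], Module.FinitePresentation R N →
      Function.Exact (f.rTensor N) (g.rTensor N))
    (M : Type u) [AddCommGroup M] [Module R M] :
    Function.Exact (f.rTensor M) (g.rTensor M) := by
  intro x
  refine ⟨fun hx => ?_, ?_⟩
  · obtain ⟨P, hP, hxP⟩ :=
      TensorProduct.exists_finite_submodule_right_of_setFinite {x} (Set.finite_singleton x)
    obtain ⟨x₀, rfl⟩ := hxP rfl
    have hz : (TensorProduct.comm R C P (g.rTensor P x₀)) ∈
        LinearMap.ker (P.subtype.rTensor C) := by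
      rw [LinearMap.mem_ker, LinearMap.rTensor, TensorProduct.map_comm, ← LinearMap.lTensor,
        ← LinearMap.comp_apply (P.subtype.lTensor C), LinearMap.lTensor_comp_rTensor,
        ← LinearMap.rTensor_comp_lTensor, LinearMap.comp_apply, hx, map_zero]
    obtain ⟨Q, hPQ, hQ, hQ0⟩ :=
      TensorProduct.eq_zero_of_fg_of_subtype_eq_zero (Module.Finite.iff_fg.1 hP) hz
    rw [LinearMap.rTensor, TensorProduct.map_comm, LinearEquiv.map_eq_zero_iff,
      ← LinearMap.lTensor, ← LinearMap.comp_apply, LinearMap.lTensor_comp_rTensor,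
      ← LinearMap.rTensor_comp_lTensor, LinearMap.comp_apply] at hQ0
    have : Module.Finite R Q := Module.Finite.iff_fg.2 hQ
    obtain ⟨a, ha⟩ := (exact_rTensor_of_finite f g hgf h Q _).1 hQ0
    refine ⟨Q.subtype.lTensor A a, ?_⟩
    rw [← LinearMap.comp_apply, LinearMap.rTensor_comp_lTensor, ← LinearMap.lTensor_comp_rTensor,
      LinearMap.comp_apply, ha, ← LinearMap.comp_apply, ← LinearMap.lTensor_comp,
      Submodule.subtype_comp_inclusion]
  · rintro ⟨a, rfl⟩
    rw [← LinearMap.comp_apply, ← LinearMap.rTensor_comp, hgf, LinearMap.rTensor_zero,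
      LinearMap.zero_apply]

end Groth.Agent.KFlat.LinearExact
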