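import Mathlib.Algebra.Homology.Embedding.StupidTrunc
import Mathlib.Algebra.Homology.Embedding.CochainComplex
import Mathlib.Algebra.Homology.HomologicalComplexLimits
import Mathlib.CategoryTheory.Limits.Constructions.EventuallyConstant
import Mathlib.CategoryTheory.Functor.OfSequence

/-!
A complex is the colimit of its stupid truncations from below.
-/

set_option autoImplicit false

universe v u

open CategoryTheory CategoryTheory.Limits

namespace Groth.Agent.KFlat

variable {C : Type u} [Category.{v} C] [Abelian C] (K : CochainComplex C ℤ)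

/-- The subcomplex `σ_{≥ c} K`. -/
noncomputable abbrev brutGE (c : ℤ) : CochainComplex C ℤ :=
  K.stupidTrunc (ComplexShape.embeddingUpIntGE c)

theorem exists_nat_eq {c i : ℤ} (h : c ≤ i) :
    ∃ n : ℕ, (ComplexShape.embeddingUpIntGE c).f n = i :=
  ⟨(i - c).toNat, by simp; omega⟩

/-- The identification in degree `i ≥ c`. -/
noncomputable def brutIso {c i : ℤ} (h : c ≤ i) : (brutGE K c).X i ≅ K.X i :=
  K.stupidTruncXIso (ComplexShape.embeddingUpIntGE c) (exists_nat_eq h).choose_spec

theorem brutGE_isZero {c i : ℤ} (h : i < c) : IsZero ((brutGE K c).X i) :=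
  K.isZero_stupidTrunc_X (ComplexShape.embeddingUpIntGE c) i fun n hn => by simp at hn; omega

theorem brutIso_d {c i : ℤ} (h : c ≤ i) (j : ℤ) (hj : i + 1 = j) :
    (brutGE K c).d i j ≫ (brutIso K (show c ≤ j by omega)).hom = (brutIso K h).hom ≫ K.d i j := by
  have key : ∀ (a b : ℕ) (hb : (ComplexShape.embeddingUpIntGE c).f b = j)
      (ha : (ComplexShape.embeddingUpIntGE c).f a = i),
      (brutGE K c).d i j ≫ (K.stupidTruncXIso _ hb).hom =
        (K.stupidTruncXIso _ ha).hom ≫ K.d i j := by
    intro a b hb ha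
    subst hb ha
    simp only [brutGE, HomologicalComplex.stupidTrunc, HomologicalComplex.stupidTruncXIso,
      HomologicalComplex.extend_d_eq _ _ rfl rfl, Iso.trans_hom, eqToIso.hom,
      HomologicalComplex.restriction_d]
    have : ∀ {X Y X' Y' : C} (u : X' ⟶ X) (d : X ⟶ Y) (v : Y' ≅ Y),
        (u ≫ d ≫ v.inv) ≫ v.hom ≫ 𝟙 Y = (u ≫ 𝟙 X) ≫ d := fun u d v => by simp
    exact this _ _ _
  exact key _ _ _ _

/-- The inclusion. -/
noncomputable def brutι (c : ℤ) : brutGE K c ⟶ K where
  f i := if h : c ≤ i then (brutIso K h).hom else 0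
  comm' i j hij := by
    have hij' : i + 1 = j := hij
    by_cases h : c ≤ i
    · rw [dif_pos h, dif_pos (show c ≤ j by omega)]
      exact (brutIso_d K h j hij').symm
    · exact (brutGE_isZero K (by omega)).eq_of_src _ _

theorem brutι_f {c i : ℤ} (h : c ≤ i) : (brutι K c).f i = (brutIso K h).hom := dif_pos h

theorem isIso_brutι_f {c i : ℤ} (h : c ≤ i) : IsIso ((brutι K c).f i) := by
  rw [brutι_f K h]; infer_instance

theorem mono_brutι_f (c i : ℤ) : Mono ((brutι K c).f i) := by
  by_cases h : c ≤ i
  · have := isIso_brutι_f K h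
    infer_instance
  · exact ⟨fun _ _ _ => (brutGE_isZero K (by omega)).eq_of_tgt _ _⟩

instance mono_brutι (c : ℤ) : Mono (brutι K c) :=
  have := mono_brutι_f K c
  HomologicalComplex.mono_of_mono_f _ this

/-- The transition map. -/
noncomputable def brutMap {c c' : ℤ} (hc : c' ≤ c) : brutGE K c ⟶ brutGE K c' where
  f i := if h : c ≤ i then (brutIso K h).hom ≫ (brutIso K (hc.trans h)).inv else 0
  comm' i j hij := by
    have hij' : i + 1 = j := hij
    by_cases h : c ≤ i
    · rw [dif_pos h, dif_pos (show c ≤ j by omega), Category.assoc,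
        ← cancel_mono (brutIso K (show c' ≤ j by omega)).hom, Category.assoc, Category.assoc,
        brutIso_d K (hc.trans h) j hij', Iso.inv_hom_id_assoc]
      simp only [Category.assoc, Iso.inv_hom_id, Category.comp_id]
      rw [brutIso_d K h j hij']
    · exact (brutGE_isZero K (by omega)).eq_of_src _ _

theorem brutMap_ι {c c' : ℤ} (hc : c' ≤ c) : brutMap K hc ≫ brutι K c' = brutι K c := by
  ext i
  by_cases h : c ≤ i
  · change (brutMap K hc).f i ≫ (brutι K c').f i = _
    rw [brutι_f K h, brutι_f K (hc.trans h)]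
    simp [brutMap, dif_pos h]
  · exact (brutGE_isZero K (by omega)).eq_of_src _ _

instance brutGE_isStrictlyGE (c : ℤ) : (brutGE K c).IsStrictlyGE c :=
  inferInstanceAs ((K.stupidTrunc (ComplexShape.embeddingUpIntGE c)).IsStrictlySupported _)

theorem brutGE_isStrictlyLE (c b : ℤ) [K.IsStrictlyLE b] : (brutGE K c).IsStrictlyLE b := by
  rw [CochainComplex.isStrictlyLE_iff]
  intro i hi
  by_cases h : c ≤ i
  · exact (K.isZero_of_isStrictlyLE b i hi).of_iso (brutIso K h)
  · exact brutGE_isZero K (by omega)

/-- The sequence `σ_{≥ c - n} K`. -/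
noncomputable def brutSeq (c : ℤ) : ℕ ⥤ CochainComplex C ℤ :=
  Functor.ofSequence (fun n => brutMap K (show c - ((n + 1 : ℕ) : ℤ) ≤ c - (n : ℤ) by omega))

/-- The cocone with vertex `K`. -/
noncomputable def brutCocone (c : ℤ) : Cocone (brutSeq K c) where
  pt := K
  ι := NatTrans.ofSequence (F := brutSeq K c) (G := (Functor.const _).obj K)
    (fun n => brutι K (c - (n : ℤ))) fun n => by
      change (brutSeq K c).map (homOfLE (Nat.le_add_right n 1)) ≫ _ = _ ≫ 𝟙 _
      refine Eq.trans ?_ (Category.comp_id _).symm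
      refine (congrArg (· ≫ _) (Functor.ofSequence_map_homOfLE_succ (fun n : ℕ =>
        brutMap K (show c - ((n + 1 : ℕ) : ℤ) ≤ c - (n : ℤ) by omega)) n)).trans ?_
      exact brutMap_ι K _

/-- `K = colim σ_{≥ c - n} K`. -/
noncomputable def isColimitBrutCocone (c : ℤ) : IsColimit (brutCocone K c) :=
  HomologicalComplex.isColimitOfEval _ _ fun i => by
    have key : ∀ n : ℕ, c - i ≤ (n : ℤ) → IsIso ((brutι K (c - (n : ℤ))).f i) :=
      fun n hn => isIso_brutι_f K (by omega)
    set N : ℕ := (c - i).toNat with hN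
    have hev : (brutSeq K c ⋙ HomologicalComplex.eval C (ComplexShape.up ℤ) i).IsEventuallyConstantFrom
        N := by
      intro n f
      have h1 := key N (by omega)
      have h2 : IsIso (((brutCocone K c).ι.app n).f i) := key n (by have := leOfHom f; omega)
      have h3 : ((brutSeq K c).map f).f i ≫ ((brutCocone K c).ι.app n).f i =
          ((brutCocone K c).ι.app N).f i := by
        rw [← HomologicalComplex.comp_f, (brutCocone K c).w f]
      have : IsIso (((brutSeq K c).map f).f i ≫ ((brutCocone K c).ι.app n).f i) := by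
        rw [h3]; exact h1
      exact IsIso.of_isIso_comp_right (((brutSeq K c).map f).f i) (((brutCocone K c).ι.app n).f i)
    have : IsIso (((HomologicalComplex.eval C (ComplexShape.up ℤ) i).mapCocone
        (brutCocone K c)).ι.app N) := key N (by omega)
    exact hev.isColimitOfIsIso _

end Groth.Agent.KFlat
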