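import Groth.Agent.Lib.KFlat.Api

/-!
Covers which preserve zero maps.
-/

set_option autoImplicit false
set_option linter.unusedSectionVars false

universe v u

open CategoryTheory CategoryTheory.Limits ZeroObject

namespace Groth.Agent.KFlat

variable {C : Type u} [Category.{v} C] [Abelian C] (F : C ⥤ C)

/-- `F(X)` modulo `F(0)`. -/
noncomputable abbrev redObj (X : C) : C := cokernel (F.map (0 : (0 : C) ⟶ X))

theorem redSection_condition (X : C) :
    F.map (0 : (0 : C) ⟶ X) ≫ (𝟙 _ - F.map (0 : X ⟶ (0 : C)) ≫ F.map (0 : (0 : C) ⟶ X)) = 0 := by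
  have : F.map (0 : (0 : C) ⟶ X) ≫ F.map (0 : X ⟶ (0 : C)) = 𝟙 _ := by
    rw [← F.map_comp, comp_zero, show (0 : (0 : C) ⟶ 0) = 𝟙 _ from (isZero_zero C).eq_of_src _ _,
      F.map_id]
  rw [Preadditive.comp_sub, Category.comp_id, reassoc_of% this, sub_self]

/-- The splitting of `F(X) → F(X)/F(0)`. -/
noncomputable def redSection (X : C) : redObj F X ⟶ F.obj X :=
  cokernel.desc _ (𝟙 _ - F.map (0 : X ⟶ (0 : C)) ≫ F.map (0 : (0 : C) ⟶ X)) (redSection_condition F X)

theorem redSection_π (X : C) : redSection F X ≫ cokernel.π _ = 𝟙 (redObj F X) := by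
  refine coequalizer.hom_ext ?_
  change cokernel.π _ ≫ _ = cokernel.π _ ≫ _
  rw [redSection, cokernel.π_desc_assoc, Preadditive.sub_comp, Category.id_comp, Category.assoc,
    cokernel.condition, comp_zero, sub_zero, Category.comp_id]

/-- A cover made compatible with zero maps. -/
noncomputable def Cover.mk' (π : F ⟶ 𝟭 C) (hπ : ∀ X, Epi (π.app X)) : Cover C where
  F :=
    { obj := redObj F
      map := fun {X Y} f => cokernel.map _ _ (𝟙 _) (F.map f)
        (by rw [Category.id_comp, ← F.map_comp, zero_comp])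
      map_id := fun X => coequalizer.hom_ext (by simp)
      map_comp := fun f g => coequalizer.hom_ext (by simp) }
  π :=
    { app := fun X => cokernel.desc _ (π.app X) (by rw [π.naturality]; exact comp_zero)
      naturality := fun X Y f => coequalizer.hom_ext (by simp [π.naturality]) }
  epi X := by
    have : Epi (π.app X) := hπ X
    have h : cokernel.π _ ≫ cokernel.desc (F.map (0 : (0 : C) ⟶ X)) (π.app X)
      (by rw [π.naturality]; exact comp_zero) = π.app X := cokernel.π_desc _ _ _
    exact epi_of_epi_fac h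
  zero X Y := coequalizer.hom_ext (by
    refine (cokernel.π_desc _ _ _).trans ?_
    rw [comp_zero,
      show F.map (0 : X ⟶ Y) = F.map (0 : X ⟶ (0 : C)) ≫ F.map (0 : (0 : C) ⟶ Y) by
        rw [← F.map_comp, zero_comp],
      Category.assoc, cokernel.condition, comp_zero])

variable [HasColimitsOfSize.{0, 0} C] {T : C ⥤ C ⥤ C} [T.Additive] [∀ X, (T.obj X).Additive]
  [∀ X, PreservesColimitsOfSize.{0, 0} (T.obj X)]
  [∀ X, PreservesColimitsOfSize.{0, 0} (T.flip.obj X)]

theorem Cover.isFlat_mk' (π : F ⟶ 𝟭 C) (hπ : ∀ X, Epi (π.app X)) (hF : ∀ X, IsFlat T (F.obj X))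
    (X : C) : IsFlat T ((Cover.mk' F π hπ).F.obj X) :=
  (hF X).of_retract (redSection F X) (cokernel.π _) (redSection_π F X)

end Groth.Agent.KFlat
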