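import Groth.Agent.Lib.KFlat.FlatSeq
import Groth.Agent.Lib.KFlat.Resolution

/-!
Flatness of a cokernel from vanishing of Tor; bounded above resolutions.
-/

set_option autoImplicit false
set_option linter.unusedSectionVars false

universe v u

open CategoryTheory CategoryTheory.Limits

namespace Groth.Agent.KFlat

variable {C : Type u} [Category.{v} C] [Abelian C] [HasColimitsOfSize.{0, 0} C]
  {T : C ⥤ C ⥤ C} [T.Additive] [∀ X, (T.obj X).Additive]
  [∀ X, PreservesColimitsOfSize.{0, 0} (T.obj X)]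
  [∀ X, PreservesColimitsOfSize.{0, 0} (T.flip.obj X)]

/-- If `P` is flat and `A ⊗ N ⟶ B ⊗ N ⟶ P ⊗ N` is exact for all `N`, then `coker (B ⟶ P) ⊗ -` preserves monomorphisms. -/
theorem preservesMonomorphisms_cokernel (S : ShortComplex C) (h₃ : (T.obj S.X₃).PreservesMonomorphisms)
    (h : ∀ N : C, (S.map (T.flip.obj N)).Exact) : (T.obj (cokernel S.g)).PreservesMonomorphisms := by
  refine ⟨fun {M N} i _ => Preadditive.mono_of_cancel_zero _ fun {W} x hx => ?_⟩
  let Sg : ShortComplex C := ShortComplex.mk S.g (cokernel.π S.g) (cokernel.condition _)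
  have hSg : Sg.Exact := ShortComplex.exact_cokernel _
  have hgepi : Epi Sg.g := inferInstanceAs (Epi (cokernel.π S.g))
  let Si : ShortComplex C := ShortComplex.mk i (cokernel.π i) (cokernel.condition _)
  have hSi : Si.Exact := ShortComplex.exact_cokernel _
  have hiepi : Epi Si.g := inferInstanceAs (Epi (cokernel.π i))
  have : Epi (cokernel.π S.g) := hgepi
  obtain ⟨W₁, e₁, _, y, hy⟩ :=
    surjective_up_to_refinements_of_epi ((T.flip.obj M).map (cokernel.π S.g)) x
  change W₁ ⟶ (T.obj S.X₃).obj M at y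
  change e₁ ≫ x = y ≫ (T.map (cokernel.π S.g)).app M at hy
  have hy0 : (y ≫ (T.obj S.X₃).map i) ≫ (T.flip.obj N).map Sg.g = 0 := by
    change (y ≫ (T.obj S.X₃).map i) ≫ (T.map (cokernel.π S.g)).app N = 0
    rw [Category.assoc, (T.map (cokernel.π S.g)).naturality i, ← Category.assoc, ← hy, Category.assoc,
      hx, comp_zero]
  obtain ⟨W₂, e₂, _, z, hz⟩ := (exact_map_of_epi (T.flip.obj N) hSg).exact_up_to_refinements _ hy0
  change W₂ ⟶ (T.obj S.X₂).obj N at z
  change e₂ ≫ y ≫ (T.obj S.X₃).map i = z ≫ (T.map S.g).app N at hz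
  have hw0 : (z ≫ (T.obj S.X₂).map (cokernel.π i)) ≫ (T.map S.g).app (cokernel i) = 0 := by
    rw [Category.assoc, (T.map S.g).naturality (cokernel.π i), ← Category.assoc, ← hz, Category.assoc,
      Category.assoc, ← Functor.map_comp, cokernel.condition, Functor.map_zero, comp_zero, comp_zero]
  obtain ⟨W₃, e₃, _, v, hv⟩ := (h (cokernel i)).exact_up_to_refinements _ hw0
  change W₃ ⟶ (T.obj S.X₁).obj (cokernel i) at v
  change e₃ ≫ z ≫ (T.obj S.X₂).map (cokernel.π i) = v ≫ (T.map S.f).app (cokernel i) at hv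
  obtain ⟨W₄, e₄, _, v', hv'⟩ :=
    surjective_up_to_refinements_of_epi ((T.obj S.X₁).map (cokernel.π i)) v
  have hm0 : (e₄ ≫ e₃ ≫ z - v' ≫ (T.map S.f).app N) ≫ (T.obj S.X₂).map Si.g = 0 := by
    change (e₄ ≫ e₃ ≫ z - v' ≫ (T.map S.f).app N) ≫ (T.obj S.X₂).map (cokernel.π i) = 0
    rw [Preadditive.sub_comp, Category.assoc, Category.assoc, hv, Category.assoc,
      ← (T.map S.f).naturality (cokernel.π i), ← Category.assoc v', ← hv', Category.assoc, sub_self]
  obtain ⟨W₅, e₅, _, m, hm⟩ := (exact_map_of_epi (T.obj S.X₂) hSi).exact_up_to_refinements _ hm0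
  change W₅ ⟶ (T.obj S.X₂).obj M at m
  change e₅ ≫ (e₄ ≫ e₃ ≫ z - v' ≫ (T.map S.f).app N) = m ≫ (T.obj S.X₂).map i at hm
  have hfg : (T.map S.f).app N ≫ (T.map S.g).app N = 0 := by
    rw [← NatTrans.comp_app, ← T.map_comp, S.zero, T.map_zero]
    rfl
  have key : m ≫ (T.map S.g).app M = e₅ ≫ e₄ ≫ e₃ ≫ e₂ ≫ y := by
    rw [← cancel_mono ((T.obj S.X₃).map i)]
    simp only [Category.assoc]
    rw [← (T.map S.g).naturality i, ← Category.assoc m, ← hm, hz, Category.assoc,
      Preadditive.sub_comp, Category.assoc, Category.assoc, Category.assoc, hfg, comp_zero, sub_zero]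
  have hgπ : (T.map S.g).app M ≫ (T.map (cokernel.π S.g)).app M = 0 := by
    rw [← NatTrans.comp_app, ← T.map_comp, cokernel.condition, T.map_zero]
    rfl
  refine zero_of_epi_comp (e₅ ≫ e₄ ≫ e₃ ≫ e₂ ≫ e₁) ?_
  simp only [Category.assoc]
  rw [hy]
  have := congrArg (· ≫ (T.map (cokernel.π S.g)).app M) key
  simp only [Category.assoc, hgπ, comp_zero] at this
  exact this.symm

/-- Flatness of a cokernel from vanishing of Tor on both sides. -/
theorem isFlat_cokernel (S : ShortComplex C) (h₃ : IsFlat T S.X₃)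
    (h : ∀ N : C, (S.map (T.flip.obj N)).Exact) (h' : ∀ N : C, (S.map (T.obj N)).Exact) :
    IsFlat T (cokernel S.g) :=
  ⟨preservesMonomorphisms_cokernel S h₃.left h,
    preservesMonomorphisms_cokernel (T := T.flip) S h₃.right h'⟩

variable (Φ : Cover C)

omit [HasColimitsOfSize.{0, 0} C] in
theorem truncLE_isStrictlyLE (G : CochainComplex C ℤ) (b n : ℤ) [G.IsStrictlyLE b] :
    (G.truncLE n).IsStrictlyLE b := by
  rw [CochainComplex.isStrictlyLE_iff]
  intro i hi
  have : Mono ((G.ιTruncLE n).f i) := inferInstanceAs (Mono ((HomologicalComplex.ιTruncLE _ _).f i))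
  exact IsZero.of_mono ((G.ιTruncLE n).f i) (G.isZero_of_isStrictlyLE b i hi)

/-- The resolution of a bounded above complex is bounded above. -/
theorem resObj_isStrictlyLE (G : CochainComplex C ℤ) (b : ℤ) [G.IsStrictlyLE b] :
    (resObj Φ G).IsStrictlyLE b := by
  rw [CochainComplex.isStrictlyLE_iff]
  intro i hi
  rw [IsZero.iff_id_eq_zero]
  refine (isColimitOfPreserves (HomologicalComplex.eval C (ComplexShape.up ℤ) i)
    (colimit.isColimit (resSeq Φ G))).hom_ext fun n => ?_
  have := truncLE_isStrictlyLE G b (n : ℤ)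
  have := stage_isStrictlyLE Φ (2 * n) (G.truncLE (n : ℤ)) b
  exact ((resTerm Φ G n).isZero_of_isStrictlyLE b i hi).eq_of_src _ _

end Groth.Agent.KFlat
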