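import Groth.Agent.Lib.KFlat.Pullback
import Groth.Agent.Lib.KFlat.StalkCx
import Groth.Agent.Lib.KFlat.BaseChange

/-!
The pullback of a K-flat complex is K-flat.
-/

set_option autoImplicit false
set_option linter.unusedSectionVars false

universe u

open CategoryTheory CategoryTheory.Limits AlgebraicGeometry
open scoped TensorProduct

namespace Groth.Agent.KFlat.Sch

open Groth.Agent.M2

variable {X Y : Scheme.{u}} (f : Y ⟶ X)

/-- The stalks of a pullback are base changes, naturally. -/
noncomputable def pullStalkNatIso (y : Y) :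
    Scheme.Modules.pullback f ⋙ stF y ≅
      stF (f y) ⋙ ModuleCat.extendScalars (f.stalkMap y).hom :=
  (NatIso.ofComponents (F := stF (f y) ⋙ ModuleCat.extendScalars (f.stalkMap y).hom)
    (G := Scheme.Modules.pullback f ⋙ stF y)
    (fun M => LinearEquiv.toModuleIso
      (X₁ := (BC f y M : Type u))
      (X₂ := (((Scheme.Modules.pullback f).obj M).presheaf.stalk y : Type u))
      (pullStalkEquiv f y M))
    fun {A B} g => ModuleCat.hom_ext (LinearMap.ext fun t =>
      (pullStalkEquiv_naturality f g y t).symm)).symm

theorem isKFlat_pullback {K : CochainComplex X.Modules ℤ} (hK : IsKFlat (TX X) K) :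
    IsKFlat (TX Y) (((Scheme.Modules.pullback f).mapHomologicalComplex (ComplexShape.up ℤ)).obj K) :=
  isKFlat_of_stalks fun y =>
    (Module.isKFlat_extendScalars (f.stalkMap y).hom (isKFlat_stF hK (f y))).of_iso
      ((NatIso.mapHomologicalComplex (pullStalkNatIso f y) (ComplexShape.up ℤ)).symm.app K)

theorem isFlat_pullback {M : X.Modules} (hM : IsFlat (TX X) M) :
    IsFlat (TX Y) ((Scheme.Modules.pullback f).obj M) := by
  rw [isFlat_iff] at hM ⊢
  intro y
  have : _root_.Module.Flat (X.presheaf.stalk (f y)) (M.presheaf.stalk (f y) : Type u) := hM (f y)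
  exact _root_.Module.Flat.of_linearEquiv (pullStalkEquiv f y M).symm

end Groth.Agent.KFlat.Sch
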