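import Groth.Agent.Lib.KFlat.DerivedObj
import Groth.Agent.Lib.KFlat.FlatCoker
import Groth.Agent.Lib.KFlat.PullbackKFlat
import Groth.Prelude.Def_DTor2

/-!
Derived tensor product with a module, tor amplitude.
-/

set_option autoImplicit false
set_option linter.unusedSectionVars false

universe u

open CategoryTheory CategoryTheory.Limits AlgebraicGeometry

attribute [local instance] HasDerivedCategory.standard

namespace Groth.Agent.KFlat.Sch

variable {X Y : Scheme.{u}}

/-- `- ⊗ M`. -/
noncomputable def tensorRightModIso (M : X.Modules) : (TX X).flip.obj M ≅ DCoh.tensorRightMod M :=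
  NatIso.ofComponents (fun _ => Iso.refl _) fun _ => (Category.comp_id _).trans (Category.id_comp _).symm

instance preservesFiniteColimits_tensorRightMod (M : X.Modules) :
    PreservesFiniteColimits (DCoh.tensorRightMod M) :=
  preservesFiniteColimits_of_natIso (tensorRightModIso M)

theorem mono_tensorRightMod_map (M : X.Modules) (S : ShortComplex X.Modules) (hS : S.ShortExact)
    (h₃ : IsFlat (TX X) S.X₃) : Mono ((DCoh.tensorRightMod M).map S.f) :=
  have := mono_map_of_flat' (enough X) hS h₃ M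
  (MorphismProperty.monomorphisms X.Modules).arrow_mk_iso_iff
    ((Functor.mapArrowFunctor _ _).mapIso (tensorRightModIso M) |>.app (Arrow.mk S.f)) |>.1 this

theorem quasiIso_tensorRightMod_map (M : X.Modules) {K K' : CochainComplex X.Modules ℤ} (φ : K ⟶ K')
    [QuasiIso φ] (hK : IsAdapted K) (hK' : IsAdapted K') :
    QuasiIso (((DCoh.tensorRightMod M).mapHomologicalComplex (ComplexShape.up ℤ)).map φ) :=
  quasiIso_map (cover X) isFlat_cover (DCoh.tensorRightMod M) (mono_tensorRightMod_map M) φ hK hK'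
    (splitPres_map _)

theorem hasLTensorMod (M : X.Modules) : DCoh.HasLTensorMod M :=
  hasLeftDerivedFunctor_mapHomotopyCategory (cover X) (DCoh.tensorRightMod M) IsAdapted
    isAdapted_resObj fun φ _ hK hK' => quasiIso_tensorRightMod_map M φ hK hK'

theorem isAdapted_of_boundedAbove (K : CochainComplex X.Modules ℤ) (b : ℤ) [K.IsStrictlyLE b]
    (hK : ∀ n, IsFlat (TX X) (K.X n)) : IsAdapted K :=
  ⟨isKFlat_of_boundedAbove_flat K b hK,
    isKFlat_of_boundedAbove_flat (T := (TX X).flip) K b fun n => (hK n).flip, hK⟩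

theorem isAdapted_of_vanishesOutside (K : CochainComplex X.Modules ℤ) {a b : ℤ}
    (h : DCoh.VanishesOutside K a b) (hK : ∀ n, FlatMod.IsFlat (K.X n)) : IsAdapted K :=
  have : K.IsStrictlyLE b := (CochainComplex.isStrictlyLE_iff K b).2 fun i hi => h i (Or.inr hi)
  isAdapted_of_boundedAbove K b fun n => (isFlat_iff _).2 (hK n)

/-- `K ⊗^L M` for adapted `K`. -/
noncomputable def lTensorModObjIso (M : X.Modules) [DCoh.HasLTensorMod M]
    (K : CochainComplex X.Modules ℤ) (hK : IsAdapted K) :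
    (DCoh.LTensorMod M).obj (DCoh.toD X K) ≅
      DCoh.toD X (((DCoh.tensorRightMod M).mapHomologicalComplex (ComplexShape.up ℤ)).obj K) :=
  derivedObjIso (cover X) (DCoh.tensorRightMod M) IsAdapted isAdapted_resObj
    (fun φ _ hK hK' => quasiIso_tensorRightMod_map M φ hK hK') K hK

/-- `Lf^* K` for adapted `K`. -/
noncomputable def lpullObjIso (f : Y ⟶ X) [DCoh.HasLpull f]
    (K : CochainComplex X.Modules ℤ) (hK : IsAdapted K) :
    (DCoh.Lpull f).obj (DCoh.toD X K) ≅
      DCoh.toD Y (((Scheme.Modules.pullback f).mapHomologicalComplex (ComplexShape.up ℤ)).obj K) :=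
  derivedObjIso (cover X) (Scheme.Modules.pullback f) IsAdapted isAdapted_resObj
    (fun φ _ hK hK' => quasiIso_pullback_map f φ hK hK') K hK

theorem isZero_HD_toD_iff (K : CochainComplex X.Modules ℤ) (i : ℤ) :
    IsZero (DCoh.HD (DCoh.toD X K) i) ↔ K.ExactAt i :=
  ((DerivedCategory.homologyFunctorFactors X.Modules i).app K).isZero_iff.trans
    (HomologicalComplex.exactAt_iff_isZero_homology K i).symm

theorem isZero_HD_iff_of_iso {K L : DCoh.D X} (e : K ≅ L) (i : ℤ) :
    IsZero (DCoh.HD K i) ↔ IsZero (DCoh.HD L i) :=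
  ((DerivedCategory.homologyFunctor X.Modules i).mapIso e).isZero_iff

/-- `H^i(K ⊗^L M)` computed by an adapted representative. -/
theorem isZero_HD_lTensorMod_iff (M : X.Modules) [DCoh.HasLTensorMod M] {E : DCoh.D X}
    (K : CochainComplex X.Modules ℤ) (hK : IsAdapted K) (e : DCoh.toD X K ≅ E) (i : ℤ) :
    IsZero (DCoh.HD ((DCoh.LTensorMod M).obj E) i) ↔
      (((DCoh.tensorRightMod M).mapHomologicalComplex (ComplexShape.up ℤ)).obj K).ExactAt i :=
  (isZero_HD_iff_of_iso ((DCoh.LTensorMod M).mapIso e.symm ≪≫ lTensorModObjIso M K hK) i).trans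
    (isZero_HD_toD_iff _ i)

theorem torAmplitude_of_flatAmplitude {E : DCoh.D X} {a b : ℤ} (h : DCoh.HasFlatAmplitudeIn a b E) :
    DCoh.HasTorAmplitudeIn a b E := by
  obtain ⟨K, hK, hflat, ⟨e⟩⟩ := h
  intro M _ i hi
  rw [isZero_HD_lTensorMod_iff M K (isAdapted_of_vanishesOutside K hK hflat) e,
    HomologicalComplex.exactAt_iff]
  exact ShortComplex.exact_of_isZero_X₂ _ ((DCoh.tensorRightMod M).map_isZero (hK i hi))

theorem flatAmplitude_pullback (f : Y ⟶ X) [DCoh.HasLpull f] {E : DCoh.D X} {a b : ℤ}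
    (h : DCoh.HasFlatAmplitudeIn a b E) : DCoh.HasFlatAmplitudeIn a b ((DCoh.Lpull f).obj E) := by
  obtain ⟨K, hK, hflat, ⟨e⟩⟩ := h
  exact ⟨((Scheme.Modules.pullback f).mapHomologicalComplex (ComplexShape.up ℤ)).obj K,
    fun i hi => (Scheme.Modules.pullback f).map_isZero (hK i hi),
    fun i => (isFlat_iff _).1 (isFlat_pullback f ((isFlat_iff _).2 (hflat i))),
    ⟨(lpullObjIso f K (isAdapted_of_vanishesOutside K hK hflat)).symm ≪≫ (DCoh.Lpull f).mapIso e⟩⟩

end Groth.Agent.KFlat.Sch
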