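import Groth.Agent.Lib.KFlat.LTor

/-!
Tor amplitude in terms of flat representatives.
-/

set_option autoImplicit false
set_option linter.unusedSectionVars false

universe u

open CategoryTheory CategoryTheory.Limits AlgebraicGeometry MonoidalCategory

attribute [local instance] HasDerivedCategory.standard

namespace Groth.Agent.KFlat.Sch

variable {X : Scheme.{u}}

/-- Stalks of `- ⊗ sky (O_x)` at `x`. -/
noncomputable def stTensorSkyUnitIso (x : X) :
    DCoh.tensorRightMod ((skyF x).obj (𝟙_ (ModuleCat.{u} (X.presheaf.stalk x)))) ⋙ stF x ≅ stF x :=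
  Functor.isoWhiskerRight (tensorRightModIso _).symm (stF x) ≪≫
    NatIso.ofComponents (fun L => stTensorIso x L _ ≪≫
        whiskerLeftIso ((stF x).obj L) ((skyStalkIso x).app _) ≪≫ ρ_ ((stF x).obj L))
      fun {L L'} f => by
        have h := (natural_stTensorIso x).left f
          ((skyF x).obj (𝟙_ (ModuleCat.{u} (X.presheaf.stalk x))))
        simp only [Functor.comp_map, Iso.trans_hom, whiskerLeftIso_hom, Iso.app_hom]
        refine ((Category.assoc _ _ _).symm.trans (congrArg (· ≫ _) h)).trans ?_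
        simp only [Category.assoc]
        refine congrArg (_ ≫ ·) ?_
        change (stF x).map f ▷ _ ≫ _ ≫ _ = _
        rw [← whisker_exchange_assoc]
        simp

theorem acyclic_at_of_torVanish (K : CochainComplex X.Modules ℤ) (i : ℤ)
    (h : ∀ M : X.Modules,
      (((DCoh.tensorRightMod M).mapHomologicalComplex (ComplexShape.up ℤ)).obj K).ExactAt i) :
    K.ExactAt i := by
  rw [HomologicalComplex.exactAt_iff, exact_iff_stF]
  intro x
  exact (ShortComplex.exact_iff_of_iso
    ((K.sc i).mapNatIso (stTensorSkyUnitIso x))).1 ((exact_iff_stF _).1 (h _) x)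

theorem exact_flip_map (K : CochainComplex X.Modules ℤ) (i j k : ℤ) (hij : i + 1 = j) (hjk : j + 1 = k)
    (h : ∀ M : X.Modules,
      (((DCoh.tensorRightMod M).mapHomologicalComplex (ComplexShape.up ℤ)).obj K).ExactAt j)
    (N : X.Modules) : ((K.sc' i j k).map ((TX X).flip.obj N)).Exact := by
  have := h N
  rw [HomologicalComplex.exactAt_iff' _ i j k (by simp; omega) (by simp; omega)] at this
  exact this

theorem isFlat_of_left {M : X.Modules} (h : ((TX X).obj M).PreservesMonomorphisms) : IsFlat (TX X) M :=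
  Site.isFlat_of_left (O := X.sheaf) h

/-- The cokernel of the differential into degree `a` is flat when Tor vanishes in degree `a - 1`. -/
theorem isFlat_cokernel_d (K : CochainComplex X.Modules ℤ) (j a : ℤ) (hja : j + 1 = a)
    (hflat : IsFlat (TX X) (K.X a))
    (h : ∀ M : X.Modules,
      (((DCoh.tensorRightMod M).mapHomologicalComplex (ComplexShape.up ℤ)).obj K).ExactAt j) :
    IsFlat (TX X) (cokernel (K.d j a)) :=
  isFlat_of_left (preservesMonomorphisms_cokernel (K.sc' (j - 1) j a) hflat.left
    (exact_flip_map K (j - 1) j a (by omega) hja h))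

/-- Vanishing of Tor in degrees `< a` and a bounded above flat complex give a flat representative. -/
theorem flatAmplitude_of_exact (K : CochainComplex X.Modules ℤ) (a b : ℤ) (hab : a ≤ b)
    [K.IsStrictlyLE b] (hflat : ∀ n, IsFlat (TX X) (K.X n))
    (h : ∀ (M : X.Modules) (i : ℤ), i < a →
      (((DCoh.tensorRightMod M).mapHomologicalComplex (ComplexShape.up ℤ)).obj K).ExactAt i) :
    DCoh.HasFlatAmplitudeIn a b (DCoh.toD X K) := by
  have : K.IsGE a := (CochainComplex.isGE_iff K a).2 fun i hi =>
    acyclic_at_of_torVanish K i fun M => h M i hi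
  refine ⟨K.truncGE a, fun i hi => ?_, fun i => ?_,
    ⟨(asIso (DerivedCategory.Q.map (K.πTruncGE a))).symm⟩⟩
  · rcases hi with hi | hi
    · exact (K.truncGE a).isZero_of_isStrictlyGE a i hi
    · exact (K.isZero_of_isStrictlyLE b i hi).of_iso (CochainComplex.truncGEXIso K a i (by omega))
  · refine (isFlat_iff _).1 ?_
    rcases lt_trichotomy i a with hi | hi | hi
    · exact isFlat_of_isZero ((K.truncGE a).isZero_of_isStrictlyGE a i hi)
    · subst hi
      exact (isFlat_cokernel_d K (i - 1) i (by omega) (hflat i) fun M => h M _ (by omega)).of_iso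
        (CochainComplex.truncGEXIsoOpcycles K i ≪≫
          (K.opcyclesIsCokernel (i - 1) i (by simp)).coconePointUniqueUpToIso (colimit.isColimit _))
    · exact (hflat i).of_iso (CochainComplex.truncGEXIso K a i hi)

theorem flatAmplitude_of_torAmplitude {E : DCoh.D X} {a b : ℤ} (hab : a ≤ b)
    (hE : DCoh.HasTorAmplitudeIn a b E) : DCoh.HasFlatAmplitudeIn a b E := by
  obtain ⟨K₀, ⟨e₀⟩⟩ := Functor.EssSurj.mem_essImage (F := (DerivedCategory.Q :
    CochainComplex X.Modules ℤ ⥤ _)) E
  have hq := quasiIso_resπ (cover X) K₀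
  let K := resObj (cover X) K₀
  let e : DCoh.toD X K ≅ E := asIso (DerivedCategory.Q.map (resπ (cover X) K₀)) ≪≫ e₀
  have hex : ∀ (M : X.Modules) (i : ℤ), (i < a ∨ b < i) →
      (((DCoh.tensorRightMod M).mapHomologicalComplex (ComplexShape.up ℤ)).obj K).ExactAt i :=
    fun M i hi =>
      have := hasLTensorMod M
      (isZero_HD_lTensorMod_iff M K (isAdapted_resObj K₀) e i).1 (hE M i hi)
  have : K.IsLE b := (CochainComplex.isLE_iff K b).2 fun i hi =>
    acyclic_at_of_torVanish K i fun M => hex M i (Or.inr hi)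
  let K' := resObj (cover X) (K.truncLE b)
  have hq' := quasiIso_resπ (cover X) (K.truncLE b)
  have := resObj_isStrictlyLE (cover X) (K.truncLE b) b
  let e' : DCoh.toD X K' ≅ E := asIso (DerivedCategory.Q.map (resπ (cover X) (K.truncLE b))) ≪≫
    asIso (DerivedCategory.Q.map (K.ιTruncLE b)) ≪≫ e
  obtain ⟨R, hR, hflat, ⟨eR⟩⟩ := flatAmplitude_of_exact K' a b hab (isAdapted_resObj _).2.2
    fun M i hi =>
      have := hasLTensorMod M
      (isZero_HD_lTensorMod_iff M K' (isAdapted_resObj _) e' i).1 (hE M i (Or.inl hi))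
  exact ⟨R, hR, hflat, ⟨eR ≪≫ e'⟩⟩

theorem exists_flat_resolution (F : X.Modules) :
    ∃ (R : CochainComplex X.Modules ℤ) (_ : R.IsStrictlyLE 0), IsAdapted R ∧
      Nonempty (DCoh.toD X R ≅ DCoh.inD X F) := by
  let S := (CochainComplex.singleFunctor X.Modules 0).obj F
  have h := quasiIso_resπ (cover X) S
  have : IsIso (DerivedCategory.Q.map (resπ (cover X) S)) :=
    Localization.inverts DerivedCategory.Q
      (HomologicalComplex.quasiIso X.Modules (ComplexShape.up ℤ)) _ h
  exact ⟨resObj (cover X) S, resObj_isStrictlyLE (cover X) S 0, isAdapted_resObj S,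
    ⟨@asIso _ _ _ _ (DerivedCategory.Q.map (resπ (cover X) S)) this⟩⟩

theorem flatAmplitude_of_isFlat {F : X.Modules} (hF : FlatMod.IsFlat F) :
    DCoh.HasFlatAmplitudeIn 0 0 (DCoh.inD X F) :=
  ⟨(CochainComplex.singleFunctor X.Modules 0).obj F,
    fun i hi => HomologicalComplex.isZero_single_obj_X _ _ _ _ (by omega),
    fun i => by
      by_cases h : i = 0
      · subst h
        exact (isFlat_iff _).1 (((isFlat_iff F).2 hF).of_iso
          (HomologicalComplex.singleObjXSelf (ComplexShape.up ℤ) 0 F))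
      · exact (isFlat_iff _).1 (isFlat_of_isZero (HomologicalComplex.isZero_single_obj_X _ _ _ _ h)),
    ⟨Iso.refl _⟩⟩

theorem isFlat_of_tor_one_vanishes (F : X.Modules)
    (h : ∀ (G : X.Modules) [DCoh.HasLTensorMod G],
      IsZero (DCoh.HD ((DCoh.LTensorMod G).obj (DCoh.inD X F)) (-1))) : FlatMod.IsFlat F := by
  obtain ⟨R, hR, hRA, ⟨e⟩⟩ := exists_flat_resolution F
  have hex : ∀ M : X.Modules,
      (((DCoh.tensorRightMod M).mapHomologicalComplex (ComplexShape.up ℤ)).obj R).ExactAt (-1) :=
    fun M => by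
      have := hasLTensorMod M
      exact (isZero_HD_lTensorMod_iff M R hRA e (-1)).1 (h M)
  have hcoker := isFlat_cokernel_d R (-1) 0 (by omega) (hRA.2.2 0) hex
  let e1 : R.homology 0 ≅ F :=
    ((DerivedCategory.homologyFunctorFactors X.Modules 0).app R).symm ≪≫
      (DerivedCategory.homologyFunctor X.Modules 0).mapIso e ≪≫
      (DerivedCategory.homologyFunctorFactors X.Modules 0).app _ ≪≫
      HomologicalComplex.singleObjHomologySelfIso (ComplexShape.up ℤ) 0 F
  have hd : R.d 0 (0 + 1) = 0 := (R.isZero_of_isStrictlyLE 0 _ (by omega)).eq_of_tgt _ _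
  have : IsIso (R.homologyι 0) := R.isIso_homologyι 0 (0 + 1) (by simp) hd
  exact (isFlat_iff _).1 (hcoker.of_iso (e1.symm ≪≫ asIso (R.homologyι 0) ≪≫
    (R.opcyclesIsCokernel (-1) 0 (by simp)).coconePointUniqueUpToIso (colimit.isColimit _)))

end Groth.Agent.KFlat.Sch
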