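import Groth.Agent.Lib.KFlat.DTenFormal
import Groth.Agent.Lib.KFlat.LpullTilde
import Groth.Agent.Lib.KFlat.BaseChange
import Groth.Prelude.Def_DTen3

/-!
The derived tensor product of complexes of modules is computed by K-flat complexes.
-/

set_option autoImplicit false
set_option linter.unusedSectionVars false
set_option linter.unusedVariables false

universe u

open CategoryTheory CategoryTheory.Limits MonoidalCategory

attribute [local instance] HasDerivedCategory.standard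

namespace Groth.Agent.KFlat.DT

open Groth.Agent.KFlat.Module

variable {R : Type u} [CommRing R]

variable (R) in
/-- The functorial K-flat resolution of modules. -/
noncomputable abbrev res : DRing.Cx R ⥤ DRing.Cx R := resFunctor (cover (R := R))

variable (R) in
/-- Its augmentation. -/
noncomputable abbrev aug : res R ⟶ 𝟭 (DRing.Cx R) := resNatTrans (cover (R := R))

theorem qis_aug (K : DRing.Cx R) : DTen.qis R ((aug R).app K) := quasiIso_resπ cover K

theorem isKFlat_res (K : DRing.Cx R) : DRing.IsKFlat R ((res R).obj K) :=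
  (isKFlat_iff _).1 (isKFlat_resObj _ K isFlat_cover)

theorem isIso_Q_map {K K' : DRing.Cx R} (f : K ⟶ K') (hf : DTen.qis R f) :
    IsIso (DerivedCategory.Q.map f) :=
  have : QuasiIso f := hf
  inferInstance

/-- Every object of the derived category is the image of a K-flat complex. -/
theorem exists_rep (X : Dual.D R) :
    ∃ K : DRing.Cx R, DRing.IsKFlat R K ∧ Nonempty (DerivedCategory.Q.obj K ≅ X) := by
  have : (DerivedCategory.Q : DRing.Cx R ⥤ Dual.D R).EssSurj :=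
    Localization.essSurj _ (DTen.qis R)
  let K : DRing.Cx R := (DerivedCategory.Q : DRing.Cx R ⥤ Dual.D R).objPreimage X
  have := isIso_Q_map _ (qis_aug K)
  exact ⟨(res R).obj K, isKFlat_res K, ⟨asIso (DerivedCategory.Q.map ((aug R).app K)) ≪≫
    (DerivedCategory.Q : DRing.Cx R ⥤ Dual.D R).objObjPreimageIso X⟩⟩

theorem isIso_mkHom {C D : Type*} [Category* C] [Category* D] {X X' : C} {Y Y' : D} (f : X ⟶ X')
    (g : Y ⟶ Y') [IsIso f] [IsIso g] : IsIso (Prod.mkHom f g) :=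
  ⟨Prod.mkHom (inv f) (inv g), Prod.ext (IsIso.hom_inv_id f) (IsIso.hom_inv_id g),
    Prod.ext (IsIso.inv_hom_id f) (IsIso.inv_hom_id g)⟩

/-! ### Tensor products with K-flat complexes -/

theorem isKFlat_tensor {K L : DRing.Cx R} (hK : DRing.IsKFlat R K) (hL : DRing.IsKFlat R L) :
    DRing.IsKFlat R (K ⊗ L) :=
  (isKFlat_iff _).1 (isKFlat_tcx ((isKFlat_iff _).2 hK) ((isKFlat_iff _).2 hL))

theorem isKFlat_unit : DRing.IsKFlat R (𝟙_ (DRing.Cx R)) := fun M hM i =>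
  (hM i).of_iso ((HomologicalComplex.homologyFunctor _ _ i).mapIso (ρ_ M))

theorem isKFlat_flip {K : DRing.Cx R} (hK : DRing.IsKFlat R K) : IsKFlat (TM R).flip K :=
  (isKFlat_flip_iff K).2 fun L hL =>
    acyclic_of_iso ((isKFlat_iff _).2 hK L hL) (DTen.braidCx L K)

theorem quasiIso_whiskerRight {K K' : DRing.Cx R} (f : K ⟶ K') [QuasiIso f] {L : DRing.Cx R}
    (hL : DRing.IsKFlat R L) : QuasiIso (f ▷ L) :=
  ((isKFlat_iff _).2 hL).quasiIso_map₁ f

theorem quasiIso_whiskerLeft {L L' : DRing.Cx R} (g : L ⟶ L') [QuasiIso g] {K : DRing.Cx R}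
    (hK : DRing.IsKFlat R K) : QuasiIso (K ◁ g) :=
  (isKFlat_flip hK).quasiIso_map₂ g

theorem quasiIso_whiskerLeft' {L L' : DRing.Cx R} (g : L ⟶ L') [QuasiIso g]
    (hL : DRing.IsKFlat R L) (hL' : DRing.IsKFlat R L') (K : DRing.Cx R) : QuasiIso (K ◁ g) :=
  quasiIso_map₂' cover isFlat_cover g ((isKFlat_iff _).2 hL) ((isKFlat_iff _).2 hL') K

theorem qis_tensor {K K' L L' : DRing.Cx R} (f : K ⟶ K') (hf : DTen.qis R f) (g : L ⟶ L')
    (hg : DTen.qis R g) (hL : DRing.IsKFlat R L) (hL' : DRing.IsKFlat R L') :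
    DTen.qis R (f ▷ L ≫ K' ◁ g) :=
  have : QuasiIso f := hf
  have : QuasiIso g := hg
  have := quasiIso_whiskerRight f hL
  have := quasiIso_whiskerLeft' g hL hL' K'
  show QuasiIso _ from inferInstance

/-! ### The derived tensor product -/

/-- Pairs of K-flat complexes. -/
def PP {S : Type u} [CommRing S] (X : DRing.Cx R × DRing.Cx S) : Prop :=
  DRing.IsKFlat R X.1 ∧ DRing.IsKFlat S X.2

/-- Resolution of pairs. -/
noncomputable abbrev res₂ (R S : Type u) [CommRing R] [CommRing S] :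
    DRing.Cx R × DRing.Cx S ⥤ DRing.Cx R × DRing.Cx S := (res R).prod (res S)

/-- Augmentation of pairs. -/
noncomputable def aug₂ (R S : Type u) [CommRing R] [CommRing S] :
    res₂ R S ⟶ 𝟭 (DRing.Cx R × DRing.Cx S) where
  app X := Prod.mkHom ((aug R).app X.1) ((aug S).app X.2)
  naturality X Y f := Prod.ext ((aug R).naturality f.1) ((aug S).naturality f.2)

theorem isIso_tensor₂_map {X Y : DRing.Cx R × DRing.Cx R} (f : X ⟶ Y) (hf : DTen.qis₂ R f)
    (hX : PP X) (hY : PP Y) : IsIso ((DTen.tensor₂ R).map f) :=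
  isIso_Q_map _ (qis_tensor f.1 hf.1 f.2 hf.2 hX.2 hY.2)

theorem isLeftDerivedFunctor_tensor₂ (G : Dual.D R × Dual.D R ⥤ Dual.D R)
    (α : DTen.QQ R ⋙ G ⟶ DTen.tensor₂ R) (hα : ∀ X, PP X → IsIso (α.app X)) :
    G.IsLeftDerivedFunctor α (DTen.qis₂ R) :=
  isLeftDerivedFunctor_of_isIso (W := DTen.qis₂ R) (res₂ R R) (aug₂ R R)
    (fun X => ⟨qis_aug X.1, qis_aug X.2⟩) _ PP (fun X => ⟨isKFlat_res _, isKFlat_res _⟩)
    isIso_tensor₂_map _ G α hα

theorem hasLTen : DTen.HasLTen R :=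
  KFlat.hasLeftDerivedFunctor (W := DTen.qis₂ R) (res₂ R R) (aug₂ R R)
    (fun X => ⟨qis_aug X.1, qis_aug X.2⟩) _ PP (fun X => ⟨isKFlat_res _, isKFlat_res _⟩)
    isIso_tensor₂_map

variable [DTen.HasLTen R]

theorem isIso_ε_of_both {K L : DRing.Cx R} (hK : DRing.IsKFlat R K) (hL : DRing.IsKFlat R L) :
    IsIso ((DTen.ε R).app (K, L)) :=
  KFlat.isIso_counit (W := DTen.qis₂ R) (res₂ R R) (aug₂ R R)
    (fun X => ⟨qis_aug X.1, qis_aug X.2⟩) _ PP (fun X => ⟨isKFlat_res _, isKFlat_res _⟩)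
    isIso_tensor₂_map (DTen.QQ R) (DTen.LTen₂ R) (DTen.ε R) (K, L) ⟨hK, hL⟩

theorem isIso_ε_of_pair {X Y : DRing.Cx R × DRing.Cx R} (f : X ⟶ Y) (hf : DTen.qis₂ R f)
    (hX : IsIso ((DTen.ε R).app X)) (h : IsIso ((DTen.tensor₂ R).map f)) :
    IsIso ((DTen.ε R).app Y) := by
  have : IsIso ((DTen.QQ R).map f) := Localization.inverts (DTen.QQ R) (DTen.qis₂ R) _ hf
  have : IsIso ((DTen.QQ R ⋙ DTen.LTen₂ R).map f) :=
    inferInstanceAs (IsIso ((DTen.LTen₂ R).map ((DTen.QQ R).map f)))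
  have h' := (DTen.ε R).naturality f
  have : IsIso ((DTen.QQ R ⋙ DTen.LTen₂ R).map f ≫ (DTen.ε R).app Y) := by
    rw [h']; infer_instance
  exact IsIso.of_isIso_comp_left ((DTen.QQ R ⋙ DTen.LTen₂ R).map f) _

theorem isIso_ε_right {K L : DRing.Cx R} (hL : DRing.IsKFlat R L) : IsIso ((DTen.ε R).app (K, L)) := by
  refine isIso_ε_of_pair (X := ((res R).obj K, L)) (Prod.mkHom ((aug R).app K) (𝟙 L))
    ⟨qis_aug K, MorphismProperty.id_mem _ _⟩ (isIso_ε_of_both (isKFlat_res K) hL) ?_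
  exact isIso_Q_map _ (qis_tensor _ (qis_aug K) _ (MorphismProperty.id_mem _ _) hL hL)

theorem isIso_ε_left {K L : DRing.Cx R} (hK : DRing.IsKFlat R K) : IsIso ((DTen.ε R).app (K, L)) := by
  refine isIso_ε_of_pair (X := (K, (res R).obj L)) (Prod.mkHom (𝟙 K) ((aug R).app L))
    ⟨MorphismProperty.id_mem _ _, qis_aug L⟩ (isIso_ε_of_both hK (isKFlat_res L)) ?_
  have : QuasiIso ((aug R).app L) := qis_aug L
  have := quasiIso_whiskerLeft ((aug R).app L) hK
  refine isIso_Q_map _ (show QuasiIso (𝟙 K ▷ _ ≫ K ◁ (aug R).app L) from ?_)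
  rw [MonoidalCategory.id_whiskerRight, Category.id_comp]
  infer_instance

variable (R) in
theorem kFlatComputes : DTen.KFlatComputes R :=
  ⟨fun _ _ h => h.elim isIso_ε_left isIso_ε_right⟩

/-! ### Symmetry and units -/

theorem isIso_symm_app (K L : Dual.D R) : IsIso ((DTen.symm R).app (K, L)) := by
  obtain ⟨K', hK, ⟨e⟩⟩ := exists_rep K
  obtain ⟨L', hL, ⟨e'⟩⟩ := exists_rep L
  rw [← NatTrans.isIso_app_iff_of_iso (DTen.symm R) (Iso.prod e e')]
  have := isIso_ε_of_both hK hL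
  have := isIso_ε_of_both hL hK
  have : IsIso ((DTen.symm R).app (DerivedCategory.Q.obj K', DerivedCategory.Q.obj L') ≫
      (DTen.ε R).app (K', L')) := by rw [DTen.symm_fac]; infer_instance
  exact IsIso.of_isIso_comp_right _ ((DTen.ε R).app (K', L'))

theorem isIso_unitR_app (K : Dual.D R) : IsIso ((DTen.unitR R).app K) := by
  obtain ⟨K', hK, ⟨e⟩⟩ := exists_rep K
  rw [← NatTrans.isIso_app_iff_of_iso (DTen.unitR R) e, DTen.unitR_app]
  have := isIso_ε_of_both hK (isKFlat_unit (R := R))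
  infer_instance

theorem isIso_unitL_app (K : Dual.D R) : IsIso ((DTen.unitL R).app K) := by
  obtain ⟨K', hK, ⟨e⟩⟩ := exists_rep K
  rw [← NatTrans.isIso_app_iff_of_iso (DTen.unitL R) e, DTen.unitL_app]
  have := isIso_ε_of_both (isKFlat_unit (R := R)) hK
  infer_instance

/-! ### Associativity -/

omit [DTen.HasLTen R] in
theorem isIso_tensor₃_map {X Y : DRing.Cx R × (DRing.Cx R × DRing.Cx R)} (f : X ⟶ Y)
    (hf : DTen.qis₃ R f) (hX : DRing.IsKFlat R X.1 ∧ PP X.2) (hY : DRing.IsKFlat R Y.1 ∧ PP Y.2) :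
    IsIso ((DTen.tensor₃ R).map f) :=
  isIso_Q_map _ (qis_tensor f.1 hf.1 _ (qis_tensor f.2.1 hf.2.1 f.2.2 hf.2.2 hX.2.2 hY.2.2)
    (isKFlat_tensor hX.2.1 hX.2.2) (isKFlat_tensor hY.2.1 hY.2.2))

omit [DTen.HasLTen R] in
theorem isIso_ε₃ [DTen.HasLTen₃ R] {K L M : DRing.Cx R} (hK : DRing.IsKFlat R K)
    (hL : DRing.IsKFlat R L) (hM : DRing.IsKFlat R M) : IsIso ((DTen.ε₃ R).app (K, (L, M))) :=
  KFlat.isIso_counit (W := DTen.qis₃ R) ((res R).prod (res₂ R R))
    { app := fun X => Prod.mkHom ((aug R).app X.1) ((aug₂ R R).app X.2)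
      naturality := fun X Y f => Prod.ext ((aug R).naturality f.1) ((aug₂ R R).naturality f.2) }
    (fun X => ⟨qis_aug X.1, qis_aug X.2.1, qis_aug X.2.2⟩) _ (fun X => DRing.IsKFlat R X.1 ∧ PP X.2)
    (fun X => ⟨isKFlat_res _, isKFlat_res _, isKFlat_res _⟩)
    isIso_tensor₃_map (DTen.QQQ R) (DTen.LTen₃ R) (DTen.ε₃ R) (K, (L, M)) ⟨hK, hL, hM⟩

omit [DTen.HasLTen R] in
theorem hasLTen₃ : DTen.HasLTen₃ R :=
  KFlat.hasLeftDerivedFunctor (W := DTen.qis₃ R) ((res R).prod (res₂ R R))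
    { app := fun X => Prod.mkHom ((aug R).app X.1) ((aug₂ R R).app X.2)
      naturality := fun X Y f => Prod.ext ((aug R).naturality f.1) ((aug₂ R R).naturality f.2) }
    (fun X => ⟨qis_aug X.1, qis_aug X.2.1, qis_aug X.2.2⟩) _ (fun X => DRing.IsKFlat R X.1 ∧ PP X.2)
    (fun X => ⟨isKFlat_res _, isKFlat_res _, isKFlat_res _⟩)
    isIso_tensor₃_map

theorem isIso_assoc_app [DTen.HasLTen₃ R] (a b c : Dual.D R) :
    IsIso ((DTen.assocL R).app (a, (b, c))) ∧ IsIso ((DTen.assocR R).app (a, (b, c))) := by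
  obtain ⟨K, hK, ⟨e₁⟩⟩ := exists_rep a
  obtain ⟨L, hL, ⟨e₂⟩⟩ := exists_rep b
  obtain ⟨M, hM, ⟨e₃⟩⟩ := exists_rep c
  rw [← NatTrans.isIso_app_iff_of_iso (DTen.assocL R) (Iso.prod e₁ (Iso.prod e₂ e₃)),
    ← NatTrans.isIso_app_iff_of_iso (DTen.assocR R) (Iso.prod e₁ (Iso.prod e₂ e₃))]
  have := isIso_ε₃ hK hL hM
  constructor
  · have := isIso_ε_of_both hK hL
    have := isIso_ε_of_both (isKFlat_tensor hK hL) hM
    have : IsIso ((DTen.assocL R).app ((DTen.QQQ R).obj (K, (L, M))) ≫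
        (DTen.ε₃ R).app (K, (L, M))) := by
      rw [DTen.assocL_fac]
      dsimp only [DTen.βL]
      exact IsIso.comp_isIso'
        (@Functor.map_isIso _ _ _ _ _ _ (DTen.LTen₂ R) _
          (isIso_mkHom ((DTen.ε R).app (K, L)) (𝟙 (DerivedCategory.Q.obj M))))
        (IsIso.comp_isIso' (isIso_ε_of_both (isKFlat_tensor hK hL) hM) inferInstance)
    exact @IsIso.of_isIso_comp_right _ _ _ _ _ ((DTen.assocL R).app ((DTen.QQQ R).obj (K, (L, M))))
      ((DTen.ε₃ R).app (K, (L, M))) (isIso_ε₃ hK hL hM) this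
  · have := isIso_ε_of_both hL hM
    have := isIso_ε_of_both hK (isKFlat_tensor hL hM)
    have : IsIso ((DTen.assocR R).app ((DTen.QQQ R).obj (K, (L, M))) ≫
        (DTen.ε₃ R).app (K, (L, M))) := by
      rw [DTen.assocR_fac]
      dsimp only [DTen.βR]
      have := isIso_mkHom (𝟙 (DerivedCategory.Q.obj K)) ((DTen.ε R).app (L, M))
      infer_instance
    exact @IsIso.of_isIso_comp_right _ _ _ _ _ ((DTen.assocR R).app ((DTen.QQQ R).obj (K, (L, M))))
      ((DTen.ε₃ R).app (K, (L, M))) (isIso_ε₃ hK hL hM) this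

variable (R) in
theorem isSymMonoidal [DTen.HasLTen₃ R] : DTen.IsSymMonoidal R where
  isIso_symm := have := fun X : Dual.D R × Dual.D R => isIso_symm_app X.1 X.2
    NatIso.isIso_of_isIso_app _
  isIso_unitL := have := fun X : Dual.D R => isIso_unitL_app X; NatIso.isIso_of_isIso_app _
  isIso_unitR := have := fun X : Dual.D R => isIso_unitR_app X; NatIso.isIso_of_isIso_app _
  isIso_assocL := have := fun X : Dual.D R × (Dual.D R × Dual.D R) =>
      (isIso_assoc_app X.1 X.2.1 X.2.2).1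
    NatIso.isIso_of_isIso_app _
  isIso_assocR := have := fun X : Dual.D R × (Dual.D R × Dual.D R) =>
      (isIso_assoc_app X.1 X.2.1 X.2.2).2
    NatIso.isIso_of_isIso_app _

end Groth.Agent.KFlat.DT
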