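import Groth.Agent.Lib.KFlat.PullbackQIso
import Groth.Agent.Lib.KFlat.DerivedNat
import Groth.Agent.Lib.KFlat.LTor
import Groth.Agent.Lib.KFlat.Symm
import Groth.Agent.Lib.TensorMod.PullTensor

/-!
Derived pullback of a derived tensor product.
-/

set_option autoImplicit false
set_option linter.unusedSectionVars false

universe u

open CategoryTheory CategoryTheory.Limits AlgebraicGeometry MonoidalCategory

attribute [local instance] HasDerivedCategory.standard

namespace Groth.Agent.KFlat.Sch

open Groth.Agent.M2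

variable {X Y : Scheme.{u}} (f : Y ⟶ X)

theorem pullCmp_natural {M M' N N' : X.Modules} (a : M ⟶ M') (b : N ⟶ N') :
    (Scheme.Modules.pullback f).map (tensorMap a b) ≫ pullCmp f M' N' =
      pullCmp f M N ≫ tensorMap ((Scheme.Modules.pullback f).map a) ((Scheme.Modules.pullback f).map b) := by
  refine ((Scheme.Modules.pullbackPushforwardAdjunction f).homEquiv _ _).injective ?_
  refine tensorMod_hom_ext fun U s t => ?_
  rw [Adjunction.homEquiv_unit, Adjunction.homEquiv_unit]
  change (pullCmp f M' N').app (f ⁻¹ᵁ U) (((Scheme.Modules.pullback f).map (tensorMap a b)).app (f ⁻¹ᵁ U)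
      (pullSec f _ (tsec M N s t))) =
    (tensorMap ((Scheme.Modules.pullback f).map a) ((Scheme.Modules.pullback f).map b)).app (f ⁻¹ᵁ U)
      ((pullCmp f M N).app (f ⁻¹ᵁ U) (pullSec f _ (tsec M N s t)))
  have nat : ∀ {A B : X.Modules} (g : A ⟶ B) (z : Γ(A, U)),
      ((Scheme.Modules.pullback f).map g).app (f ⁻¹ᵁ U) (pullSec f A z) = pullSec f B (g.app U z) :=
    fun g z => (congrArg (fun φ => φ.app U z)
      ((Scheme.Modules.pullbackPushforwardAdjunction f).unit.naturality g)).symm
  rw [nat, tensorMap_tsec, pullCmp_pullSec, pullCmp_pullSec, tensorMap_tsec, nat, nat]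

/-- The comparison. -/
noncomputable def pullTensorIso₂ (M N : X.Modules) :
    (Scheme.Modules.pullback f).obj (((TX X).obj M).obj N) ≅
      ((TX Y).obj ((Scheme.Modules.pullback f).obj M)).obj ((Scheme.Modules.pullback f).obj N) :=
  M2.pullTensorIso f M N

theorem natural_pullTensorIso₂ :
    Natural₂ (TX X) (TX Y) (𝟭 _) (𝟭 _) (Scheme.Modules.pullback f) (Scheme.Modules.pullback f)
      (Scheme.Modules.pullback f) (pullTensorIso₂ f) where
  left {M M'} a N := by
    have h := pullCmp_natural f a (𝟙 N)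
    rw [CategoryTheory.Functor.map_id] at h
    simp only [tensorMap, CategoryTheory.Functor.map_id] at h
    exact h
  right M {N N'} b := by
    have h := pullCmp_natural f (𝟙 M) b
    rw [CategoryTheory.Functor.map_id] at h
    simp only [tensorMap, CategoryTheory.Functor.map_id] at h
    exact h

/-- Pullback of a total tensor product. -/
noncomputable def pullTensorCxIso (L E : CochainComplex X.Modules ℤ) :
    ((Scheme.Modules.pullback f).mapHomologicalComplex (ComplexShape.up ℤ)).obj (((tcx (TX X)).obj L).obj E) ≅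
      ((tcx (TX Y)).obj (((Scheme.Modules.pullback f).mapHomologicalComplex (ComplexShape.up ℤ)).obj L)).obj
        (((Scheme.Modules.pullback f).mapHomologicalComplex (ComplexShape.up ℤ)).obj E) :=
  transferIso (TX X) (TX Y) (𝟭 _) (𝟭 _) (Scheme.Modules.pullback f) (Scheme.Modules.pullback f)
    (Scheme.Modules.pullback f) (natural_pullTensorIso₂ f) L E

/-- `K ⊗^L E` is computed by the tensor product when `K` is K-flat. -/
theorem nonempty_lTensorCxObjIso (E : CochainComplex X.Modules ℤ) [DCoh.HasLTensorCx E]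
    (K : CochainComplex X.Modules ℤ) (hK : IsKFlat (TX X) K) :
    Nonempty ((DCoh.LTensorCx E).obj (DCoh.toD X K) ≅ DCoh.toD X (((tcx (TX X)).obj K).obj E)) := by
  refine ⟨@asIso _ _ _ _ (((DCoh.tensorCxQ E).totalLeftDerivedCounit DerivedCategory.Q
    (HomologicalComplex.quasiIso X.Modules (ComplexShape.up ℤ))).app K) ?_⟩
  refine isIso_counit (W := HomologicalComplex.quasiIso X.Modules (ComplexShape.up ℤ)) (resFunctor (cover X)) (resNatTrans (cover X)) (fun G => quasiIso_resπ (cover X) G) _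
    (fun K => IsKFlat (TX X) K) (fun G => (isAdapted_resObj G).1)
    (fun {A B} φ hφ hA hB => ?_) DerivedCategory.Q _ _ K hK
  have : QuasiIso φ := hφ
  have : QuasiIso (((tcx (TX X)).map φ).app E) := by
    have h := quasiIso_map₂' (T := (TX X).flip) (cover X) (fun M => (isFlat_cover M).flip) φ
      ((isKFlat_flip_iff' _).2 hA) ((isKFlat_flip_iff' _).2 hB) E
    exact (quasiIso_iff_of_arrow_mk_iso _ _ (Arrow.isoMk (flipIso (TX X) E A) (flipIso (TX X) E B)
      (HomologicalComplex.mapBifunctorFlipIso_hom_naturality φ (𝟙 E) (TX X) (ComplexShape.up ℤ)).symm)).1 h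
  exact inferInstanceAs (IsIso (DerivedCategory.Q.map (((tcx (TX X)).map φ).app E)))

theorem nonempty_lpullObjIso_kflat [DCoh.HasLpull f] (K : CochainComplex X.Modules ℤ) (hK : IsKFlat (TX X) K) :
    Nonempty ((DCoh.Lpull f).obj (DCoh.toD X K) ≅
      DCoh.toD Y (((Scheme.Modules.pullback f).mapHomologicalComplex (ComplexShape.up ℤ)).obj K)) :=
  ⟨derivedObjIso (cover X) (Scheme.Modules.pullback f) (fun K => IsKFlat (TX X) K)
    (fun G => (isAdapted_resObj G).1) (fun φ _ hK hK' => quasiIso_pullback_map_kflat f φ hK hK') K hK⟩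

theorem nonempty_lpull_lTensor [DCoh.HasLpull f] (L : CochainComplex X.Modules ℤ) (hL : IsKFlat (TX X) L)
    [DCoh.HasLTensorCx L]
    [DCoh.HasLTensorCx (((Scheme.Modules.pullback f).mapHomologicalComplex (ComplexShape.up ℤ)).obj L)]
    (K : DCoh.D X) :
    Nonempty ((DCoh.Lpull f).obj ((DCoh.LTensorCx L).obj K) ≅
      (DCoh.LTensorCx (((Scheme.Modules.pullback f).mapHomologicalComplex (ComplexShape.up ℤ)).obj L)).obj
        ((DCoh.Lpull f).obj K)) := by
  obtain ⟨K₀, ⟨e₀⟩⟩ := Functor.EssSurj.mem_essImage (F := (DerivedCategory.Q :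
    CochainComplex X.Modules ℤ ⥤ _)) K
  let R := resObj (cover X) K₀
  have hR : IsKFlat (TX X) R := (isAdapted_resObj K₀).1
  have := quasiIso_resπ (cover X) K₀
  let e : DCoh.toD X R ≅ K := asIso (DerivedCategory.Q.map (resπ (cover X) K₀)) ≪≫ e₀
  obtain ⟨a⟩ := nonempty_lTensorCxObjIso L R hR
  obtain ⟨b⟩ := nonempty_lpullObjIso_kflat f _ (isKFlat_tcx hR hL)
  obtain ⟨c⟩ := nonempty_lpullObjIso_kflat f R hR
  obtain ⟨d⟩ := nonempty_lTensorCxObjIso
    (((Scheme.Modules.pullback f).mapHomologicalComplex (ComplexShape.up ℤ)).obj L) _ (isKFlat_pullback f hR)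
  exact ⟨(DCoh.Lpull f).mapIso ((DCoh.LTensorCx L).mapIso e.symm ≪≫ a) ≪≫ b ≪≫
    DerivedCategory.Q.mapIso (pullTensorCxIso f R L) ≪≫ d.symm ≪≫
    (DCoh.LTensorCx (((Scheme.Modules.pullback f).mapHomologicalComplex (ComplexShape.up ℤ)).obj L)).mapIso
      (c.symm ≪≫ (DCoh.Lpull f).mapIso e)⟩

end Groth.Agent.KFlat.Sch
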