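import Groth.Agent.Lib.KFlat.Basic

/-!
The cokernel of the cylinder embedding is the mapping cone.
-/

set_option autoImplicit false
set_option linter.unusedSectionVars false

universe v u

open CategoryTheory CategoryTheory.Limits CochainComplex CochainComplex.HomComplex

namespace Groth.Agent.KFlat

variable {C : Type u} [Category.{v} C] [Abelian C] {P Q : CochainComplex C ℤ} (f : P ⟶ Q)

/-- `Q ⊞ cone (𝟙 P) ⟶ cone f`. -/
noncomputable def cylToCone : Q ⊞ mappingCone (𝟙 P) ⟶ mappingCone f :=
  biprod.desc (mappingCone.inr f) (-mappingCone.map (𝟙 P) f (𝟙 P) f (by simp))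

theorem cylHom_cylToCone : cylHom f ≫ cylToCone f = 0 := by
  simp [cylToCone, mappingCone.map, Preadditive.comp_neg]

/-- The comparison. -/
noncomputable def cylCokerToCone : cylCoker f ⟶ mappingCone f :=
  cokernel.desc _ (cylToCone f) (cylHom_cylToCone f)

@[reassoc (attr := simp)]
theorem π_cylCokerToCone_f (n : ℤ) :
    (cokernel.π (cylHom f)).f n ≫ (cylCokerToCone f).f n = (cylToCone f).f n := by
  rw [← HomologicalComplex.comp_f, cylCokerToCone, cokernel.π_desc]

@[reassoc]
theorem inr_inr_π :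
    mappingCone.inr (𝟙 P) ≫ biprod.inr ≫ cokernel.π (cylHom f) =
      -(f ≫ biprod.inl ≫ cokernel.π (cylHom f)) := by
  have h : cylHom f ≫ cokernel.π (cylHom f) = 0 := cokernel.condition _
  have h2 : cylHom f = f ≫ biprod.inl + mappingCone.inr (𝟙 P) ≫ biprod.inr := by
    ext <;> simp
  have h3 : (f ≫ biprod.inl + mappingCone.inr (𝟙 P) ≫ biprod.inr) ≫ cokernel.π (cylHom f) = 0 :=
    (congrArg (· ≫ cokernel.π (cylHom f)) h2).symm.trans h
  simp only [Preadditive.add_comp, Category.assoc] at h3
  exact eq_neg_of_add_eq_zero_right h3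

/-- The inverse comparison. -/
noncomputable def coneToCylCoker : mappingCone f ⟶ cylCoker f :=
  mappingCone.desc f
    (-(mappingCone.inl (𝟙 P)).comp (Cochain.ofHom (biprod.inr ≫ cokernel.π (cylHom f))) (add_zero _))
    (biprod.inl ≫ cokernel.π (cylHom f))
    (by
      simp only [δ_neg, δ_comp_ofHom, mappingCone.δ_inl, Category.id_comp, ← Cochain.ofHom_comp,
        ← Cochain.ofHom_neg, inr_inr_π f, neg_neg])

/-- The isomorphism. -/
noncomputable def cylCokerIsoCone : cylCoker f ≅ mappingCone f where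
  hom := cylCokerToCone f
  inv := coneToCylCoker f
  hom_inv_id := coequalizer.hom_ext (by
    change cokernel.π _ ≫ cylCokerToCone f ≫ coneToCylCoker f = cokernel.π _ ≫ 𝟙 _
    rw [cylCokerToCone, cokernel.π_desc_assoc, Category.comp_id]
    refine biprod.hom_ext' _ _ ?_ ?_
    · simp [cylToCone, coneToCylCoker]
    · ext n
      have h := congrArg (fun g : P ⟶ cylCoker f => g.f n) (inr_inr_π f)
      simp only [HomologicalComplex.comp_f, HomologicalComplex.neg_f_apply] at h
      simp [cylToCone, coneToCylCoker, mappingCone.map, mappingCone.ext_from_iff _ (n + 1) n rfl, h])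
  inv_hom_id := by
    ext n
    simp [coneToCylCoker, mappingCone.ext_from_iff _ (n + 1) n rfl]
    simp [cylToCone, mappingCone.map]

variable [HasColimitsOfSize.{0, 0} C] {T : C ⥤ C ⥤ C} [T.Additive] [∀ X, (T.obj X).Additive]

theorem isKFlat_mappingCone_two_out_of_three :
    (IsKFlat T P → IsKFlat T Q → IsKFlat T (mappingCone f)) ∧
    (IsKFlat T P → IsKFlat T (mappingCone f) → IsKFlat T Q) ∧
    (IsKFlat T Q → IsKFlat T (mappingCone f) → IsKFlat T P) := by
  have hc := isKFlat_of_contractible (T := T) (mappingCone.homotopyToZeroOfId P)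
  refine ⟨fun hP hQ => (hP.cylCoker f hQ).of_iso (cylCokerIsoCone f), fun hP h => ?_, fun hQ h =>
    IsKFlat.X₁_of_split (S := cylSC f) (cylSC_splitting f) (hQ.biprod hc)
      (h.of_iso (cylCokerIsoCone f).symm)⟩
  have hQc := IsKFlat.X₂_of_split (S := cylSC f) (cylSC_splitting f) hP
    (h.of_iso (cylCokerIsoCone f).symm)
  exact IsKFlat.X₁_of_split
    (S := ShortComplex.mk (biprod.inl : Q ⟶ Q ⊞ mappingCone (𝟙 P)) biprod.snd biprod.inl_snd)
    (fun i => ⟨(ShortComplex.Splitting.ofHasBinaryBiproduct Q (mappingCone (𝟙 P))).map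
      (HomologicalComplex.eval C (ComplexShape.up ℤ) i)⟩) hQc hc

end Groth.Agent.KFlat
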