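import Groth.Agent.Lib.KFlat.DerivedObj
import Mathlib.Algebra.Homology.DerivedCategory.Fractions
import Mathlib.Algebra.Homology.DerivedCategory.HomologySequence
import Mathlib.Algebra.Homology.HomotopyCategory.MappingCone

/-!
Left derived functors on morphisms and distinguished triangles.
-/

set_option autoImplicit false
set_option linter.unusedSectionVars false

universe w w' v v' u u'

open CategoryTheory CategoryTheory.Limits CategoryTheory.Pretriangulated

namespace Groth.Agent.KFlat

variable {C : Type u} [Category.{v} C] [Abelian C] [HasDerivedCategory.{w} C]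
  [HasColimitsOfSize.{0, 0} C] [AB5OfSize.{0, 0} C]
  (Φ : Cover C) (P : CochainComplex C ℤ → Prop) (hP : ∀ K, P (resObj Φ K))

include hP

/-- Morphisms in the derived category come from adapted complexes. -/
theorem exists_adapted_hom {X Y : DerivedCategory C} (α : X ⟶ Y) :
    ∃ (K K' : CochainComplex C ℤ) (φ : K ⟶ K') (eX : DerivedCategory.Q.obj K ≅ X)
      (eY : DerivedCategory.Q.obj K' ≅ Y),
      P K ∧ P K' ∧ DerivedCategory.Q.map φ ≫ eY.hom = eX.hom ≫ α := by
  let e₁ := DerivedCategory.Q.objObjPreimageIso X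
  let e₂ := DerivedCategory.Q.objObjPreimageIso Y
  obtain ⟨Z, s, hs, g, hg⟩ := DerivedCategory.right_fac (e₁.hom ≫ α ≫ e₂.inv)
  have hq : ∀ G, IsIso (DerivedCategory.Q.map (resπ Φ G)) := fun G =>
    have := quasiIso_resπ Φ G
    inferInstance
  refine ⟨resObj Φ Z, resObj Φ (DerivedCategory.Q.objPreimage Y), (resFunctor Φ).map g,
    @asIso _ _ _ _ _ (hq Z) ≪≫ @asIso _ _ _ _ _ hs ≪≫ e₁,
    @asIso _ _ _ _ _ (hq _) ≪≫ e₂, hP _, hP _, ?_⟩
  have hnat : DerivedCategory.Q.map ((resFunctor Φ).map g) ≫ DerivedCategory.Q.map (resπ Φ _) =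
      DerivedCategory.Q.map (resπ Φ Z) ≫ DerivedCategory.Q.map g :=
    (DerivedCategory.Q.map_comp _ _).symm.trans
      ((congrArg DerivedCategory.Q.map ((resNatTrans Φ).naturality g)).trans
        (DerivedCategory.Q.map_comp _ _))
  have hgs : DerivedCategory.Q.map g = DerivedCategory.Q.map s ≫ e₁.hom ≫ α ≫ e₂.inv := by
    rw [hg, IsIso.hom_inv_id_assoc]
  simp only [Iso.trans_hom, asIso_hom, Category.assoc]
  refine (Category.assoc _ _ _).symm.trans ((congrArg (· ≫ e₂.hom) hnat).trans ?_)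
  have aux : ∀ {A B M N : DerivedCategory C} (a : A ⟶ B) (b : B ⟶ M) (c : N ≅ M),
      (a ≫ b ≫ c.inv) ≫ c.hom = a ≫ b := fun a b c => by simp
  rw [hgs]
  exact (congrArg (· ≫ e₂.hom) (show _ = (DerivedCategory.Q.map (resπ Φ Z) ≫ DerivedCategory.Q.map s ≫
    e₁.hom) ≫ α ≫ e₂.inv by simp only [Category.assoc])).trans ((aux _ _ _).trans
      (by simp only [Category.assoc]))

variable {D : Type u'} [Category.{v'} D] [Abelian D] [HasDerivedCategory.{w'} D]
  (G : C ⥤ D) [G.Additive]
  (hF : ∀ {K K' : CochainComplex C ℤ} (f : K ⟶ K') [QuasiIso f], P K → P K' →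
    QuasiIso ((G.mapHomologicalComplex (ComplexShape.up ℤ)).map f))
  [(G.mapHomotopyCategory (ComplexShape.up ℤ) ⋙ DerivedCategory.Qh).HasLeftDerivedFunctor
    (HomotopyCategory.quasiIso C (ComplexShape.up ℤ))]

/-- The derived functor. -/
noncomputable abbrev LG : DerivedCategory C ⥤ DerivedCategory D :=
  (G.mapHomotopyCategory (ComplexShape.up ℤ) ⋙ DerivedCategory.Qh).totalLeftDerived DerivedCategory.Qh
    (HomotopyCategory.quasiIso C (ComplexShape.up ℤ))

include hF

theorem derivedObjIso_naturality {K K' : CochainComplex C ℤ} (φ : K ⟶ K') (hK : P K) (hK' : P K') :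
    (LG G).map (DerivedCategory.Q.map φ) ≫ (derivedObjIso Φ G P hP hF K' hK').hom =
      (derivedObjIso Φ G P hP hF K hK).hom ≫
        DerivedCategory.Q.map ((G.mapHomologicalComplex (ComplexShape.up ℤ)).map φ) := by
  let q := HomotopyCategory.quotient C (ComplexShape.up ℤ)
  let α := (G.mapHomotopyCategory (ComplexShape.up ℤ) ⋙ DerivedCategory.Qh).totalLeftDerivedCounit
    DerivedCategory.Qh (HomotopyCategory.quasiIso C (ComplexShape.up ℤ))
  simp only [derivedObjIso, Iso.trans_hom, Functor.mapIso_hom, Iso.symm_hom, Iso.app_hom, Iso.app_inv,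
    asIso_hom, Category.assoc]
  rw [← Functor.map_comp_assoc, DerivedCategory.quotientCompQhIso_inv_naturality,
    Functor.map_comp_assoc]
  refine congrArg (_ ≫ ·) ?_
  have h1 : (LG G).map (DerivedCategory.Qh.map (q.map φ)) ≫ α.app (q.obj K') =
      α.app (q.obj K) ≫ DerivedCategory.Qh.map
        ((G.mapHomotopyCategory (ComplexShape.up ℤ)).map (q.map φ)) := α.naturality (q.map φ)
  refine ((Category.assoc _ _ _).symm.trans (congrArg (· ≫ _) h1)).trans ?_
  refine (Category.assoc _ _ _).trans (congrArg (_ ≫ ·) ?_)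
  refine ((Category.assoc _ _ _).symm.trans ((congrArg (· ≫ _) ?_).trans (Category.assoc _ _ _))).trans
    (congrArg (_ ≫ ·) (DerivedCategory.quotientCompQhIso_hom_naturality
      ((G.mapHomologicalComplex (ComplexShape.up ℤ)).map φ)))
  rw [← Functor.map_comp, ← Functor.map_comp]
  exact congrArg DerivedCategory.Qh.map
    ((G.mapHomotopyCategoryFactors (ComplexShape.up ℤ)).hom.naturality φ)

/-- A derived functor maps a distinguished triangle to three terms of a distinguished triangle. -/
theorem exists_triangle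
    (hcone : ∀ {K K' : CochainComplex C ℤ} (φ : K ⟶ K'), P K → P K' → P (CochainComplex.mappingCone φ))
    (T : Triangle (DerivedCategory C)) (hT : T ∈ distTriang _) :
    ∃ (T' : Triangle (DerivedCategory D)) (_ : T' ∈ distTriang _)
      (e₁ : T'.obj₁ ≅ (LG G).obj T.obj₁) (e₂ : T'.obj₂ ≅ (LG G).obj T.obj₂)
      (_ : T'.obj₃ ≅ (LG G).obj T.obj₃), T'.mor₁ ≫ e₂.hom = e₁.hom ≫ (LG G).map T.mor₁ := by
  obtain ⟨K, K', φ, eX, eY, hK, hK', hφ⟩ := exists_adapted_hom Φ P hP T.mor₁
  let e : DerivedCategory.Q.mapTriangle.obj (CochainComplex.mappingCone.triangle φ) ≅ T :=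
    isoTriangleOfIso₁₂ _ _ (DerivedCategory.mappingCone_triangle_distinguished φ) hT eX eY hφ
  let j : DerivedCategory.Q.obj
      (CochainComplex.mappingCone ((G.mapHomologicalComplex (ComplexShape.up ℤ)).map φ)) ≅
        DerivedCategory.Q.obj ((G.mapHomologicalComplex (ComplexShape.up ℤ)).obj
          (CochainComplex.mappingCone φ)) :=
    DerivedCategory.Q.mapIso (CochainComplex.mappingCone.mapHomologicalComplexIso φ G).symm
  refine ⟨_, DerivedCategory.mappingCone_triangle_distinguished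
    ((G.mapHomologicalComplex (ComplexShape.up ℤ)).map φ),
    (derivedObjIso Φ G P hP hF K hK).symm ≪≫ (LG G).mapIso eX,
    (derivedObjIso Φ G P hP hF K' hK').symm ≪≫ (LG G).mapIso eY,
    j ≪≫ (derivedObjIso Φ G P hP hF _ (hcone φ hK hK')).symm ≪≫
      (LG G).mapIso (Triangle.π₃.mapIso e), ?_⟩
  change DerivedCategory.Q.map ((G.mapHomologicalComplex (ComplexShape.up ℤ)).map φ) ≫ _ = _
  refine Eq.trans ?_ (Category.assoc _ _ _).symm
  refine Eq.trans ?_ (congrArg (_ ≫ ·) (((LG G).map_comp _ _).symm.trans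
    ((congrArg (LG G).map hφ).trans ((LG G).map_comp _ _))).symm).symm
  refine (Category.assoc _ _ _).symm.trans (Eq.trans ?_ (Category.assoc _ _ _))
  refine congrArg (· ≫ _) ?_
  exact (Iso.eq_inv_comp _).2 (((Category.assoc _ _ _).symm.trans ((Iso.comp_inv_eq _).2
    (derivedObjIso_naturality Φ P hP G hF φ hK hK').symm)))

end Groth.Agent.KFlat
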