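import Groth.Agent.Lib.KFlat.TorCriterion
import Groth.Agent.Lib.KFlat.DerivedTriangle
import Groth.Agent.Lib.KFlat.Cone

/-!
Derived tensor product and pullback on distinguished triangles.
-/

set_option autoImplicit false
set_option linter.unusedSectionVars false

universe u

open CategoryTheory CategoryTheory.Limits CategoryTheory.Pretriangulated AlgebraicGeometry

attribute [local instance] HasDerivedCategory.standard

namespace Groth.Agent.KFlat.Sch

variable {X Y : Scheme.{u}}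

theorem isAdapted_mappingCone {K K' : CochainComplex X.Modules ℤ} (φ : K ⟶ K') (hK : IsAdapted K)
    (hK' : IsAdapted K') : IsAdapted (CochainComplex.mappingCone φ) :=
  ⟨(isKFlat_mappingCone_two_out_of_three φ).1 hK.1 hK'.1,
    (isKFlat_mappingCone_two_out_of_three φ).1 hK.2.1 hK'.2.1,
    fun n => (isFlat_cylCoker_X φ hK.2.2 hK'.2.2 n).of_iso
      ((HomologicalComplex.eval _ _ n).mapIso (cylCokerIsoCone φ).symm)⟩

theorem exists_triangle_lTensorMod (M : X.Modules) [DCoh.HasLTensorMod M] (T : Triangle (DCoh.D X))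
    (hT : T ∈ distTriang _) :
    ∃ (T' : Triangle (DCoh.D X)) (_ : T' ∈ distTriang _)
      (e₁ : T'.obj₁ ≅ (DCoh.LTensorMod M).obj T.obj₁) (e₂ : T'.obj₂ ≅ (DCoh.LTensorMod M).obj T.obj₂)
      (_ : T'.obj₃ ≅ (DCoh.LTensorMod M).obj T.obj₃),
        T'.mor₁ ≫ e₂.hom = e₁.hom ≫ (DCoh.LTensorMod M).map T.mor₁ :=
  exists_triangle (cover X) IsAdapted isAdapted_resObj (DCoh.tensorRightMod M)
    (fun φ _ hK hK' => quasiIso_tensorRightMod_map M φ hK hK') (fun φ => isAdapted_mappingCone φ) T hT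

theorem exists_triangle_lpull (f : Y ⟶ X) [DCoh.HasLpull f] (T : Triangle (DCoh.D X))
    (hT : T ∈ distTriang _) :
    ∃ (T' : Triangle (DCoh.D Y)) (_ : T' ∈ distTriang _)
      (e₁ : T'.obj₁ ≅ (DCoh.Lpull f).obj T.obj₁) (e₂ : T'.obj₂ ≅ (DCoh.Lpull f).obj T.obj₂)
      (_ : T'.obj₃ ≅ (DCoh.Lpull f).obj T.obj₃),
        T'.mor₁ ≫ e₂.hom = e₁.hom ≫ (DCoh.Lpull f).map T.mor₁ :=
  exists_triangle (cover X) IsAdapted isAdapted_resObj (Scheme.Modules.pullback f)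
    (fun φ _ hK hK' => quasiIso_pullback_map f φ hK hK') (fun φ => isAdapted_mappingCone φ) T hT

variable {T : Triangle (DCoh.D X)} (hT : T ∈ distTriang _) {a b : ℤ}

include hT

theorem torAmplitude_triangle₃ (h₁ : DCoh.HasTorAmplitudeIn (a + 1) (b + 1) T.obj₁)
    (h₂ : DCoh.HasTorAmplitudeIn a b T.obj₂) : DCoh.HasTorAmplitudeIn a b T.obj₃ := by
  intro M _ i hi
  obtain ⟨T', hT', e₁, e₂, e₃, -⟩ := exists_triangle_lTensorMod M T hT
  rw [← isZero_HD_iff_of_iso e₃ i]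
  exact (DerivedCategory.HomologySequence.exact₃ T' hT' i (i + 1) rfl).isZero_of_both_zeros
    ((((isZero_HD_iff_of_iso e₂ i).2 (h₂ M i hi))).eq_of_src _ _)
    ((((isZero_HD_iff_of_iso e₁ (i + 1)).2 (h₁ M (i + 1) (by omega)))).eq_of_tgt _ _)

theorem torAmplitude_triangle₂ (h₁ : DCoh.HasTorAmplitudeIn a b T.obj₁)
    (h₃ : DCoh.HasTorAmplitudeIn a b T.obj₃) : DCoh.HasTorAmplitudeIn a b T.obj₂ := by
  intro M _ i hi
  obtain ⟨T', hT', e₁, e₂, e₃, -⟩ := exists_triangle_lTensorMod M T hT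
  rw [← isZero_HD_iff_of_iso e₂ i]
  exact (DerivedCategory.HomologySequence.exact₂ T' hT' i).isZero_of_both_zeros
    ((((isZero_HD_iff_of_iso e₁ i).2 (h₁ M i hi))).eq_of_src _ _)
    ((((isZero_HD_iff_of_iso e₃ i).2 (h₃ M i hi))).eq_of_tgt _ _)

theorem torAmplitude_triangle₁ (h₂ : DCoh.HasTorAmplitudeIn (a + 1) (b + 1) T.obj₂)
    (h₃ : DCoh.HasTorAmplitudeIn a b T.obj₃) : DCoh.HasTorAmplitudeIn (a + 1) (b + 1) T.obj₁ := by
  intro M _ i hi
  obtain ⟨T', hT', e₁, e₂, e₃, -⟩ := exists_triangle_lTensorMod M T hT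
  rw [← isZero_HD_iff_of_iso e₁ i]
  exact (DerivedCategory.HomologySequence.exact₁ T' hT' (i - 1) i (by omega)).isZero_of_both_zeros
    ((((isZero_HD_iff_of_iso e₃ (i - 1)).2 (h₃ M (i - 1) (by omega)))).eq_of_src _ _)
    ((((isZero_HD_iff_of_iso e₂ i).2 (h₂ M i hi))).eq_of_tgt _ _)

end Groth.Agent.KFlat.Sch
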