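import Groth.Agent.Lib.KFlat.RHomCxComp

/-! Iterated Hom complexes. -/

set_option autoImplicit false
set_option linter.unusedSectionVars false
set_option backward.isDefEq.respectTransparency false

universe u

open CategoryTheory CategoryTheory.Limits MonoidalCategory CochainComplex.HomComplex

attribute [local instance] HasDerivedCategory.standard

namespace Groth.Agent.KFlat.HomD

open Groth.Agent.KFlat.HomAdj

variable {R : Type u} [CommRing R]

/-- `Hom•(K, Hom•(L, M)) ≅ Hom•(K ⊗ L, M)`. -/
noncomputable def homCxIterIso (K L M : DRing.Cx R) :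
    DRing.homCx K (DRing.homCx L M) ≅ DRing.homCx (K ⊗ L) M :=
  (Adjunction.rightAdjointUniq ((adj K).comp (adj L))
    ((adj (K ⊗ L)).ofNatIsoLeft (MonoidalCategory.tensorRightTensor K L))).app M

/-- `Hom•` out of a K-flat complex preserves K-injectives. -/
theorem isKInjective_homCx {G : DRing.Cx R} (hG : DRing.IsKFlat R G) (I : DRing.Cx R) [I.IsKInjective] :
    CochainComplex.IsKInjective (DRing.homCx G I) where
  nonempty_homotopy_zero {T} f hT := by
    have hTG : (T ⊗ G : DRing.Cx R).Acyclic := fun j =>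
      (HomologicalComplex.exactAt_iff_isZero_homology _ j).2
        (hG T (fun i => (HomologicalComplex.exactAt_iff_isZero_homology _ i).1 (hT i)) j)
    obtain ⟨h⟩ := CochainComplex.IsKInjective.nonempty_homotopy_zero (((adj G).homEquiv T I).symm f) hTG
    obtain ⟨H⟩ := (splitPres_homCx G).homotopy h
    exact ⟨(Homotopy.ofEq ((((adj G).homEquiv T I).apply_symm_apply f).symm.trans
        ((adj G).homEquiv_unit _ _ _))).trans
      ((H.compLeft _).trans (Homotopy.ofEq ((congrArg (_ ≫ ·) ((DRing.homCxFunctor G).map_zero _ _)).trans comp_zero)))⟩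

/-- Values of `RHomCx` on K-injective complexes. -/
theorem nonempty_rHomCx_Q_iso (E I : DRing.Cx R) [DRing.HasRHomCx E] [I.IsKInjective] :
    Nonempty ((DRing.RHomCx E).obj (DerivedCategory.Q.obj I) ≅ DerivedCategory.Q.obj (DRing.homCx E I)) := by
  haveI : DTen.HasLTen R := DT.hasLTen
  haveI : DTen.HasRHom R := hasRHom R
  obtain ⟨r⟩ := nonempty_rHomCx_iso E
  haveI := isIso_κ_of_isKInjective E I
  exact ⟨r.app _ ≪≫ (asIso (κ E I)).symm⟩

end Groth.Agent.KFlat.HomD
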