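import Groth.Agent.Lib.KFlat.HomAdj
import Mathlib.RingTheory.Finiteness.Projective
import Mathlib.Data.Int.Interval

/-!
`K ⊗ Hom•(M, L) ⟶ Hom•(M, K ⊗ L)` is an isomorphism when `K` or `M` is strictly perfect.
-/

set_option autoImplicit false
set_option linter.unusedSectionVars false
set_option backward.isDefEq.respectTransparency false

universe u

open CategoryTheory CategoryTheory.Limits MonoidalCategory CochainComplex.HomComplex

namespace Groth.Agent.KFlat.HomAdj

variable {R : Type u} [CommRing R]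

/-- The strength of the Hom complex. -/
noncomputable def θ (K M L : DRing.Cx R) : K ⊗ DRing.homCx M L ⟶ DRing.homCx M (K ⊗ L) :=
  (adj M).homEquiv _ _ ((α_ _ _ _).hom ≫ K ◁ ev M L)

theorem θ_fac (K M L : DRing.Cx R) : θ K M L ▷ M ≫ ev M (K ⊗ L) = (α_ _ _ _).hom ≫ K ◁ ev M L :=
  ((adj M).homEquiv_counit _ _ _).symm.trans (((adj M).homEquiv _ _).symm_apply_apply _)

theorem θ_v (K M L : DRing.Cx R) (i j n : ℤ) (h : i + j = n) (k : K.X i) (z : (DRing.homCx M L).X j)
    (p q q' : ℤ) (hpq : p + n = q) (hq' : p + j = q') (x : M.X p) :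
    (coc ((θ K M L).f n (tn i j n h k z))).v p q hpq x =
      tn i q' q (by omega) k ((coc z).v p q' hq' x) := by
  have e := congrArg (fun t => t.f q (tn n p q (by omega) (tn i j n h k z) x)) (θ_fac K M L)
  simp only [HomologicalComplex.comp_f, ModuleCat.comp_apply] at e
  rw [tn_whiskerRight, ev_tn, tn_assoc i j p n q' q h (by omega) (by omega) (by omega),
    tn_whiskerLeft, ev_tn] at e
  exact e

theorem tn_sum_right {K L : DRing.Cx R} {ι : Type*} (s : Finset ι) (p q n : ℤ) (h : p + q = n) (x : K.X p)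
    (y : ι → L.X q) : tn p q n h x (∑ i ∈ s, y i) = ∑ i ∈ s, tn p q n h x (y i) := by
  simp only [tn, TensorProduct.tmul_sum, map_sum]

theorem tn_sum_left {K L : DRing.Cx R} {ι : Type*} (s : Finset ι) (p q n : ℤ) (h : p + q = n) (x : ι → K.X p)
    (y : L.X q) : tn p q n h (∑ i ∈ s, x i) y = ∑ i ∈ s, tn p q n h (x i) y := by
  simp only [tn, TensorProduct.sum_tmul, map_sum]

theorem tn_zero_right {K L : DRing.Cx R} (p q n : ℤ) (h : p + q = n) (x : K.X p) :
    tn (L := L) p q n h x 0 = 0 := by
  simp only [tn, TensorProduct.tmul_zero, map_zero]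

theorem exists_dualBasis (V : ModuleCat.{u} R) (h₁ : Module.Finite R V) (h₂ : Module.Projective R V) :
    ∃ (N : ℕ) (e : Fin N → V) (f : Fin N → (V →ₗ[R] R)), ∀ x, ∑ a, f a x • e a = x := by
  obtain ⟨N, φ, s, -, -, hs⟩ := Module.Finite.exists_comp_eq_id_of_projective R V
  classical
  refine ⟨N, fun a => φ (Pi.single a 1), fun a => (LinearMap.proj a).comp s, fun x => ?_⟩
  refine Eq.trans ?_ (LinearMap.congr_fun hs x)
  rw [LinearMap.comp_apply]
  conv_rhs => rw [← Finset.univ_sum_single (s x)]
  rw [map_sum]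
  refine Finset.sum_congr rfl fun a _ => ?_
  rw [LinearMap.comp_apply, LinearMap.proj_apply, ← map_smul, ← Pi.single_smul, smul_eq_mul, mul_one]

/-- Contraction of the first factor in one summand. -/
noncomputable def contr (E L : DRing.Cx R) (i q m : ℤ) (h : i + q = m) (f : E.X i →ₗ[R] R) :
    (E ⊗ L : DRing.Cx R).X m →ₗ[R] L.X q :=
  (HomologicalComplex.mapBifunctorDesc (K₁ := E) (K₂ := L) (F := curriedTensor (ModuleCat.{u} R))
    (c := ComplexShape.up ℤ) (j := m) fun i' q' (h' : i' + q' = m) =>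
      if hi : i' = i then
        ModuleCat.ofHom (TensorProduct.lift
          (((LinearMap.lsmul R (L.X q)).compl₂ (L.XIsoOfEq (show q' = q by omega)).hom.hom).comp
            (f.comp (E.XIsoOfEq hi).hom.hom)))
      else 0).hom

theorem contr_tn_self (E L : DRing.Cx R) (i q m : ℤ) (h : i + q = m) (f : E.X i →ₗ[R] R) (e : E.X i)
    (y : L.X q) : contr E L i q m h f (tn i q m h e y) = f e • y := by
  refine (desc_tn _ i q h e y).trans ?_
  simp [HomologicalComplex.XIsoOfEq]
  rfl

theorem contr_tn_ne (E L : DRing.Cx R) (i q m : ℤ) (h : i + q = m) (f : E.X i →ₗ[R] R) (i' q' : ℤ)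
    (h' : i' + q' = m) (hi : i' ≠ i) (e : E.X i') (y : L.X q') :
    contr E L i q m h f (tn i' q' m h' e y) = 0 := by
  refine (desc_tn _ i' q' h' e y).trans ?_
  simp [hi]

variable (E : DRing.Cx R) {a b : ℤ} (hb : DRing.VanishesOutside E a b)
  (hE : DRing.TermwiseFiniteProjective E)

include hb hE

/-- `E ⊗ Hom•(M, L) ≅ Hom•(M, E ⊗ L)` for `E` strictly perfect. -/
theorem isIso_θ_left (M L : DRing.Cx R) : IsIso (θ E M L) := by
  choose N e f hef using fun i => exists_dualBasis (E.X i) (hE i).1 (hE i).2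
  have hzero : ∀ (i : ℤ), i ∉ Finset.Icc a b → ∀ x : E.X i, x = 0 := fun i hi x =>
    have := ModuleCat.subsingleton_of_isZero (hb i (by simp only [Finset.mem_Icc] at hi; omega))
    Subsingleton.elim _ _
  have : ∀ n, IsIso ((θ E M L).f n) := fun n => by
    rw [ConcreteCategory.isIso_iff_bijective]
    let w : ∀ (i : ℤ), Fin (N i) → (DRing.homCx M (E ⊗ L)).X n →ₗ[R] (DRing.homCx M L).X (n - i) :=
      fun i c =>
        { toFun := fun z => (Cochain.mk fun p q hpq => ModuleCat.ofHom
            ((contr E L i q (p + n) (by omega) (f i c)).comp ((coc z).v p (p + n) rfl).hom) :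
              Cochain M L (n - i))
          map_add' := fun z z' => Cochain.ext _ _ fun p q hpq => ModuleCat.hom_ext (LinearMap.ext fun x =>
            map_add (contr E L i q (p + n) _ (f i c)) _ _)
          map_smul' := fun r z => Cochain.ext _ _ fun p q hpq => ModuleCat.hom_ext (LinearMap.ext fun x =>
            map_smul (contr E L i q (p + n) _ (f i c)) r _) }
    let Ψ : (DRing.homCx M (E ⊗ L)).X n → (E ⊗ DRing.homCx M L : DRing.Cx R).X n := fun z =>
      ∑ i ∈ Finset.Icc a b, ∑ c : Fin (N i), tn i (n - i) n (by omega) (e i c) (w i c z)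
    have h₁ : ∀ (i j : ℤ) (h : i + j = n) (k : E.X i) (z : (DRing.homCx M L).X j),
        Ψ ((θ E M L).f n (tn i j n h k z)) = tn i j n h k z := by
      intro i₀ j h k z
      by_cases hi₀ : i₀ ∈ Finset.Icc a b
      swap
      · rw [hzero i₀ hi₀ k, tn_zero_left, map_zero]
        exact Finset.sum_eq_zero fun i _ => Finset.sum_eq_zero fun c _ => by rw [map_zero, tn_zero_right]
      obtain rfl : j = n - i₀ := by omega
      have hne : ∀ i, i ≠ i₀ → ∀ c, w i c ((θ E M L).f n (tn i₀ (n - i₀) n h k z)) = 0 := fun i hi c => by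
        refine Cochain.ext (F := M) (G := L) _ _ fun p q hpq => ?_
        ext x
        refine (congrArg _ (θ_v E M L i₀ _ n h k z p (p + n) (p + (n - i₀)) rfl rfl x)).trans ?_
        exact contr_tn_ne _ _ _ _ _ _ _ _ _ _ (Ne.symm hi) _ _
      have heq : ∀ c, w i₀ c ((θ E M L).f n (tn i₀ (n - i₀) n h k z)) = f i₀ c k • z := fun c => by
        refine Cochain.ext (F := M) (G := L) _ _ fun p q hpq => ?_
        ext x
        refine (congrArg _ (θ_v E M L i₀ _ n h k z p (p + n) q rfl hpq x)).trans ?_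
        exact contr_tn_self _ _ _ _ _ _ _ _ _
      change ∑ i ∈ Finset.Icc a b, _ = _
      rw [Finset.sum_eq_single_of_mem i₀ hi₀ fun i _ hi =>
        Finset.sum_eq_zero fun c _ => by rw [hne i hi c, tn_zero_right]]
      simp only [heq, tn_smul_right, ← tn_smul_left]
      rw [← tn_sum_left, hef]
    have h₁' : ∀ t, Ψ ((θ E M L).f n t) = t := by
      let Ψl : (DRing.homCx M (E ⊗ L)).X n ⟶ (E ⊗ DRing.homCx M L : DRing.Cx R).X n := ModuleCat.ofHom
        { toFun := Ψ
          map_add' := fun z z' => by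
            simp only [Ψ, map_add, tn_add_right, Finset.sum_add_distrib]
          map_smul' := fun r z => by
            simp only [Ψ, map_smul, tn_smul_right, Finset.smul_sum, RingHom.id_apply] }
      have : (θ E M L).f n ≫ Ψl = 𝟙 _ := tn_ext fun i j h k z => h₁ i j h k z
      exact fun t => congrArg (fun g => g.hom t) this
    refine ⟨Function.LeftInverse.injective h₁', fun z => ⟨Ψ z, ?_⟩⟩
    refine Cochain.ext (F := M) (G := E ⊗ L) _ _ fun p q hpq => ?_
    subst hpq
    ext x
    have hcomp : ∀ t : (E ⊗ L : DRing.Cx R).X (p + n),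
        ∑ i ∈ Finset.Icc a b, ∑ c : Fin (N i),
          tn i (p + (n - i)) (p + n) (by omega) (e i c) (contr E L i _ (p + n) (by omega) (f i c) t) = t := by
      let Φ : (E ⊗ L : DRing.Cx R).X (p + n) ⟶ (E ⊗ L : DRing.Cx R).X (p + n) := ModuleCat.ofHom
        { toFun := fun t => ∑ i ∈ Finset.Icc a b, ∑ c : Fin (N i),
            tn i (p + (n - i)) (p + n) (by omega) (e i c) (contr E L i _ (p + n) (by omega) (f i c) t)
          map_add' := fun t t' => by simp only [map_add, tn_add_right, Finset.sum_add_distrib]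
          map_smul' := fun r t => by
            simp only [map_smul, tn_smul_right, Finset.smul_sum, RingHom.id_apply] }
      have : Φ = 𝟙 _ := tn_ext fun i₀ q' h k y => by
        change ∑ i ∈ Finset.Icc a b, _ = tn i₀ q' (p + n) h k y
        by_cases hi₀ : i₀ ∈ Finset.Icc a b
        · obtain rfl : q' = p + (n - i₀) := by omega
          rw [Finset.sum_eq_single_of_mem i₀ hi₀ fun i _ hi => Finset.sum_eq_zero fun c _ => by
            rw [contr_tn_ne _ _ _ _ _ _ _ _ _ _ (Ne.symm hi), tn_zero_right]]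
          simp only [contr_tn_self, tn_smul_right, ← tn_smul_left]
          rw [← tn_sum_left, hef]
        · rw [hzero i₀ hi₀ k, tn_zero_left]
          exact Finset.sum_eq_zero fun i _ => Finset.sum_eq_zero fun c _ => by rw [map_zero, tn_zero_right]
      exact fun t => congrArg (fun g => g.hom t) this
    refine Eq.trans ?_ (hcomp ((coc z).v p (p + n) rfl x))
    let evx : (DRing.homCx M (E ⊗ L)).X n →+ (E ⊗ L : DRing.Cx R).X (p + n) :=
      { toFun := fun w => (coc w).v p (p + n) rfl x
        map_zero' := rfl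
        map_add' := fun _ _ => rfl }
    change evx ((θ E M L).f n (Ψ z)) = _
    simp only [Ψ, map_sum]
    exact Finset.sum_congr rfl fun i _ => Finset.sum_congr rfl fun c _ =>
      θ_v E M L i _ n _ _ _ p (p + n) (p + (n - i)) rfl rfl x
  exact HomologicalComplex.Hom.isIso_of_components _

omit hb hE in
/-- A cochain concentrated in one degree. -/
noncomputable def single₁ (E L : DRing.Cx R) (p j q : ℤ) (h : p + j = q) (f : E.X p →ₗ[R] R) :
    L.X q →ₗ[R] (DRing.homCx E L).X j where
  toFun y := (Cochain.mk fun p' q' h' =>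
    if hp : p' = p then (E.XIsoOfEq hp).hom ≫ ModuleCat.ofHom (f.smulRight y) ≫
      (L.XIsoOfEq (show q = q' by omega)).hom
    else 0 : Cochain E L j)
  map_add' y y' := Cochain.ext _ _ fun p' q' h' => by
    rw [Cochain.add_v]
    simp only [Cochain.mk_v]
    split_ifs with hp
    · ext x
      simp [smul_add]
    · rw [add_zero]
  map_smul' r y := Cochain.ext _ _ fun p' q' h' => by
    rw [RingHom.id_apply, Cochain.smul_v]
    simp only [Cochain.mk_v]
    split_ifs with hp
    · refine ModuleCat.hom_ext (LinearMap.ext fun x => ?_)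
      exact (congrArg (L.XIsoOfEq (show q = q' by omega)).hom.hom
        (smul_comm (f ((E.XIsoOfEq hp).hom x)) r y)).trans (map_smul _ _ _)
    · rw [smul_zero]

omit hb hE in
theorem single₁_v_self (E L : DRing.Cx R) (p j q : ℤ) (h : p + j = q) (f : E.X p →ₗ[R] R) (y : L.X q)
    (x : E.X p) : (coc (single₁ E L p j q h f y)).v p q h x = f x • y := by
  simp [single₁, coc, HomologicalComplex.XIsoOfEq]

omit hb hE in
theorem single₁_v_ne (E L : DRing.Cx R) (p j q : ℤ) (h : p + j = q) (f : E.X p →ₗ[R] R) (y : L.X q)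
    (p' q' : ℤ) (h' : p' + j = q') (hp : p' ≠ p) (x : E.X p') :
    (coc (single₁ E L p j q h f y)).v p' q' h' x = 0 := by
  simp [single₁, coc, hp]

omit hb in
/-- `K ⊗ Hom•(E, L) ≅ Hom•(E, K ⊗ L)` for `E` termwise finite projective, when only finitely many
terms of `E` meet each degree. -/
theorem isIso_θ_window (K L : DRing.Cx R) (W : ℤ → Finset ℤ)
    (hW : ∀ n p, p ∉ W n → ∀ i j : ℤ, i + j = n →
      (∀ x : E.X p, x = 0) ∨ (∀ k : K.X i, k = 0) ∨ (∀ y : L.X (p + j), y = 0)) :
    IsIso (θ K E L) := by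
  choose N e f hef using fun i => exists_dualBasis (E.X i) (hE i).1 (hE i).2
  have : ∀ n, IsIso ((θ K E L).f n) := fun n => by
    rw [ConcreteCategory.isIso_iff_bijective]
    let Φ : ∀ (p : ℤ), Fin (N p) →
        ((K ⊗ L : DRing.Cx R).X (p + n) →ₗ[R] (K ⊗ DRing.homCx E L : DRing.Cx R).X n) := fun p c =>
      (HomologicalComplex.mapBifunctorDesc (K₁ := K) (K₂ := L) (F := curriedTensor (ModuleCat.{u} R))
        (c := ComplexShape.up ℤ) (j := p + n) fun i q (h : i + q = p + n) =>
          (K.X i ◁ ModuleCat.ofHom (single₁ E L p (q - p) q (by omega) (f p c))) ≫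
            HomologicalComplex.ιTensorObj K (DRing.homCx E L) i (q - p) n (by omega)).hom
    have hΦ : ∀ (p : ℤ) (c : Fin (N p)) (i q : ℤ) (h : i + q = p + n) (k : K.X i) (y : L.X q)
        (j : ℤ) (hj : i + j = n) (hj' : p + j = q),
        Φ p c (tn i q (p + n) h k y) = tn i j n hj k (single₁ E L p j q hj' (f p c) y) := by
      intro p c i q h k y j hj hj'
      obtain rfl : j = q - p := by omega
      exact desc_tn _ i q h k y
    let Ψ : (DRing.homCx E (K ⊗ L)).X n →ₗ[R] (K ⊗ DRing.homCx E L : DRing.Cx R).X n :=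
      { toFun := fun z => ∑ p ∈ W n, ∑ c : Fin (N p), Φ p c ((coc z).v p (p + n) rfl (e p c))
        map_add' := fun z z' => by
          simp only [← Finset.sum_add_distrib, ← map_add]
          rfl
        map_smul' := fun r z => by
          rw [RingHom.id_apply, Finset.smul_sum]
          refine Finset.sum_congr rfl fun p _ => ?_
          rw [Finset.smul_sum]
          refine Finset.sum_congr rfl fun c _ => ?_
          exact map_smul (Φ p c) r ((coc z).v p (p + n) rfl (e p c)) }
    have h₁ : (θ K E L).f n ≫ ModuleCat.ofHom Ψ = 𝟙 _ := tn_ext fun i j h k z => by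
      change ∑ p ∈ W n, ∑ c : Fin (N p), Φ p c _ = tn i j n h k z
      refine (Finset.sum_congr rfl fun p _ => Finset.sum_congr rfl fun c _ =>
        (congrArg (Φ p c) (θ_v K E L i j n h k z p (p + n) (p + j) rfl rfl (e p c))).trans
          (hΦ p c i (p + j) (show i + (p + j) = p + n by omega) k _ j h rfl)).trans ?_
      simp only [← tn_sum_right]
      by_cases hk : k = 0
      · rw [hk, tn_zero_left, tn_zero_left]
      refine congrArg (tn i j n h k) (Cochain.ext (F := E) (G := L) _ _ fun p₀ q hq => ?_)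
      subst hq
      ext x
      by_cases hp₀ : p₀ ∈ W n
      swap
      · rcases hW n p₀ hp₀ i j h with h0 | h0 | h0
        · rw [h0 x, map_zero, map_zero]
        · exact absurd (h0 k) hk
        · exact (h0 _).trans (h0 _).symm
      let evx : (DRing.homCx E L).X j →+ L.X (p₀ + j) :=
        { toFun := fun w => (coc w).v p₀ (p₀ + j) rfl x
          map_zero' := rfl
          map_add' := fun _ _ => rfl }
      change evx _ = _
      simp only [map_sum]
      rw [Finset.sum_eq_single_of_mem p₀ hp₀ fun p _ hp => Finset.sum_eq_zero fun c _ =>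
        single₁_v_ne _ _ _ _ _ _ _ _ _ _ _ (Ne.symm hp) _]
      refine (Finset.sum_congr rfl fun c _ => single₁_v_self _ _ _ _ _ _ _ _ _).trans ?_
      simp only [← map_smul, ← map_sum, hef]
    refine ⟨Function.LeftInverse.injective (g := Ψ) fun t => congrArg (fun g => g.hom t) h₁, fun z => ⟨Ψ z, ?_⟩⟩
    refine Cochain.ext (F := E) (G := K ⊗ L) _ _ fun p₀ q hpq => ?_
    subst hpq
    ext x
    by_cases hp₀ : p₀ ∈ W n
    swap
    · by_cases hx : x = 0
      · rw [hx, map_zero, map_zero]
      have htot : ∀ t : (K ⊗ L : DRing.Cx R).X (p₀ + n), t = 0 := by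
        have : 𝟙 ((K ⊗ L : DRing.Cx R).X (p₀ + n)) = 0 := tn_ext fun i q h k y => by
          obtain ⟨j, rfl⟩ : ∃ j, q = p₀ + j := ⟨q - p₀, by omega⟩
          rcases hW n p₀ hp₀ i j (by omega) with h0 | h0 | h0
          · exact absurd (h0 x) hx
          · rw [h0 k, tn_zero_left, map_zero, map_zero]
          · rw [h0 y, tn_zero_right, map_zero, map_zero]
        exact fun t => congrArg (fun g => g.hom t) this
      exact (htot _).trans (htot _).symm
    let evx : (DRing.homCx E (K ⊗ L)).X n →ₗ[R] (K ⊗ L : DRing.Cx R).X (p₀ + n) :=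
      { toFun := fun w => (coc w).v p₀ (p₀ + n) rfl x
        map_add' := fun _ _ => rfl
        map_smul' := fun _ _ => rfl }
    have hself : ∀ c, ((evx.comp ((θ K E L).f n).hom).comp (Φ p₀ c)) = (f p₀ c x) • LinearMap.id := by
      intro c
      refine congrArg ModuleCat.Hom.hom (tn_ext (f := ModuleCat.ofHom _) (g := ModuleCat.ofHom _)
        fun i q h k y => ?_)
      change evx ((θ K E L).f n (Φ p₀ c (tn i q (p₀ + n) h k y))) = f p₀ c x • tn i q (p₀ + n) h k y
      rw [hΦ p₀ c i q h k y (q - p₀) (by omega) (by omega)]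
      refine (θ_v K E L i _ n _ k _ p₀ (p₀ + n) q rfl (by omega) x).trans ?_
      rw [single₁_v_self, tn_smul_right]
    have hne : ∀ p, p ≠ p₀ → ∀ c, ((evx.comp ((θ K E L).f n).hom).comp (Φ p c)) = 0 := by
      intro p hp c
      refine congrArg ModuleCat.Hom.hom (tn_ext (f := ModuleCat.ofHom _) (g := ModuleCat.ofHom _)
        fun i q h k y => ?_)
      change evx ((θ K E L).f n (Φ p c (tn i q (p + n) h k y))) = 0
      rw [hΦ p c i q h k y (q - p) (by omega) (by omega)]
      refine (θ_v K E L i _ n _ k _ p₀ (p₀ + n) (p₀ + (q - p)) rfl rfl x).trans ?_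
      rw [single₁_v_ne _ _ _ _ _ _ _ _ _ _ _ (Ne.symm hp), tn_zero_right]
    change evx (((θ K E L).f n).hom (Ψ z)) = (coc z).v p₀ (p₀ + n) rfl x
    simp only [Ψ, LinearMap.coe_mk, AddHom.coe_mk, map_sum]
    refine (Finset.sum_eq_single_of_mem p₀ hp₀ fun p _ hp =>
      Finset.sum_eq_zero fun c _ => LinearMap.congr_fun (hne p hp c) _).trans ?_
    refine (Finset.sum_congr rfl fun c _ => LinearMap.congr_fun (hself c) _).trans ?_
    simp only [LinearMap.smul_apply, LinearMap.id_apply, ← map_smul, ← map_sum, hef]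
  exact HomologicalComplex.Hom.isIso_of_components _

/-- `K ⊗ Hom•(E, L) ≅ Hom•(E, K ⊗ L)` for `E` strictly perfect. -/
theorem isIso_θ_right (K L : DRing.Cx R) : IsIso (θ K E L) :=
  isIso_θ_window E hE K L (fun _ => Finset.Icc a b) fun _ p hp _ _ _ => Or.inl fun x =>
    have := ModuleCat.subsingleton_of_isZero (hb p (by simp only [Finset.mem_Icc] at hp; omega))
    Subsingleton.elim _ _

end Groth.Agent.KFlat.HomAdj
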