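import Groth.Agent.Lib.KFlat.HomD
import Groth.Agent.Lib.KFlat.Strength

/-!
The map `K ⊗^L RHom(M, L) ⟶ RHom(M, K ⊗^L L)` is an isomorphism when `K` or `M` is perfect.
-/

set_option autoImplicit false
set_option linter.unusedSectionVars false
set_option backward.isDefEq.respectTransparency false

universe u

open CategoryTheory CategoryTheory.Limits MonoidalCategory

attribute [local instance] HasDerivedCategory.standard

namespace Groth.Agent.KFlat.HomD

open Groth.Agent.KFlat.HomAdj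

variable {R : Type u} [CommRing R] [DTen.HasLTen R]

/-- The derived tensor product of two maps. -/
noncomputable abbrev TT {X X' Y Y' : Dual.D R} (f : X ⟶ X') (g : Y ⟶ Y') :
    (DTen.LTen₂ R).obj (X, Y) ⟶ (DTen.LTen₂ R).obj (X', Y') :=
  (DTen.LTen₂ R).map (Prod.mkHom f g)

@[reassoc]
theorem TT_comp {X X' X'' Y Y' Y'' : Dual.D R} (f : X ⟶ X') (g : Y ⟶ Y') (f' : X' ⟶ X'')
    (g' : Y' ⟶ Y'') : TT f g ≫ TT f' g' = TT (f ≫ f') (g ≫ g') :=
  ((DTen.LTen₂ R).map_comp _ _).symm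

theorem TT_id (X Y : Dual.D R) : TT (𝟙 X) (𝟙 Y) = 𝟙 _ := (DTen.LTen₂ R).map_id _

theorem isIso_TT {X X' Y Y' : Dual.D R} (f : X ⟶ X') (g : Y ⟶ Y') [IsIso f] [IsIso g] :
    IsIso (TT f g) :=
  @Functor.map_isIso _ _ _ _ _ _ (DTen.LTen₂ R) _ (DT.isIso_mkHom f g)

variable [DTen.HasLTen₃ R] [DTen.IsSymMonoidal R]

theorem associator_naturality {a b c a' b' c' : Dual.D R} (f : a ⟶ a') (g : b ⟶ b') (h : c ⟶ c') :
    TT (TT f g) h ≫ (DTen.associator a' b' c').hom =
      (DTen.associator a b c).hom ≫ TT f (TT g h) := by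
  rw [← cancel_mono ((DTen.assocR R).app (a', (b', c'))), Category.assoc, Category.assoc,
    DTen.associator_hom_assocR]
  have hL := (DTen.assocL R).naturality (Prod.mkHom f (Prod.mkHom g h) : (a, (b, c)) ⟶ (a', (b', c')))
  have hR := (DTen.assocR R).naturality (Prod.mkHom f (Prod.mkHom g h) : (a, (b, c)) ⟶ (a', (b', c')))
  dsimp at hL hR ⊢
  refine hL.trans ?_
  erw [hR, DTen.associator_hom_assocR_assoc]

variable [DTen.HasRHom R]

@[reassoc]
theorem TT_map_ev {M L L' : Dual.D R} (b : L ⟶ L') :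
    TT ((DTen.RHomR R M).map b) (𝟙 M) ≫ DTen.ev M L' = DTen.ev M L ≫ b :=
  (DTen.rhomAdj R M).counit.naturality b

@[reassoc]
theorem RHomMap_ev {L L' : Dual.D R} (g : L' ⟶ L) (M : Dual.D R) :
    TT (DTen.RHomMap g M) (𝟙 L') ≫ DTen.ev L' M = TT (𝟙 _) g ≫ DTen.ev L M :=
  DTen.RHom_map_ev g M

theorem evalTen_naturality {K K' L L' M M' : Dual.D R} (a : K ⟶ K') (b : L ⟶ L') (c : M' ⟶ M) :
    TT a (DTen.RHomMap c L ≫ (DTen.RHomR R M').map b) ≫ DTen.evalTen K' L' M' =
      DTen.evalTen K L M ≫ DTen.RHomMap c ((DTen.LTen₂ R).obj (K, L)) ≫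
        (DTen.RHomR R M').map (TT a b) := by
  apply ((DTen.rhomAdj R M').homEquiv _ _).symm.injective
  rw [Adjunction.homEquiv_counit, Adjunction.homEquiv_counit]
  change TT (_ ≫ _) (𝟙 M') ≫ DTen.ev M' _ = TT (_ ≫ _ ≫ _) (𝟙 M') ≫ DTen.ev M' _
  have hsplit : ∀ {X Y Z : Dual.D R} (p : X ⟶ Y) (q : Y ⟶ Z),
      TT (p ≫ q) (𝟙 M') = TT p (𝟙 M') ≫ TT q (𝟙 M') := fun p q => by rw [TT_comp, Category.id_comp]
  rw [hsplit, hsplit, hsplit, Category.assoc, Category.assoc, Category.assoc, DTen.evalTen_fac,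
    TT_map_ev, RHomMap_ev_assoc, TT_comp_assoc, Category.id_comp, Category.comp_id]
  rw [show TT (DTen.evalTen K L M) c = TT (𝟙 _) c ≫ TT (DTen.evalTen K L M) (𝟙 M) by
      rw [TT_comp, Category.id_comp, Category.comp_id], Category.assoc,
    reassoc_of% (DTen.evalTen_fac K L M)]
  simp only [DTen.evalTenAux, Category.assoc]
  rw [reassoc_of% (associator_naturality a (DTen.RHomMap c L ≫ (DTen.RHomR R M').map b) (𝟙 M')),
    show TT (𝟙 ((DTen.LTen₂ R).obj (K, (DTen.RHomR R M).obj L))) c =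
      TT (TT (𝟙 K) (𝟙 ((DTen.RHomR R M).obj L))) c by rw [TT_id],
    reassoc_of% (associator_naturality (𝟙 K) (𝟙 ((DTen.RHomR R M).obj L)) c)]
  refine congrArg (fun t => (DTen.associator K ((DTen.RHomR R M).obj L) M').hom ≫ t) ?_
  change TT _ _ ≫ TT _ _ = TT _ _ ≫ TT _ _ ≫ TT a b
  rw [TT_comp, TT_comp, TT_comp, hsplit, Category.assoc, TT_map_ev, RHomMap_ev_assoc,
    Category.comp_id]
  simp only [Category.id_comp, Category.assoc]

theorem isIso_evalTen_of_iso {K K' L L' M M' : Dual.D R} (a : K ≅ K') (b : L ≅ L') (c : M' ≅ M)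
    (h : IsIso (DTen.evalTen K L M)) : IsIso (DTen.evalTen K' L' M') := by
  have h₁ : IsIso (DTen.RHomMap c.hom L) := inferInstanceAs (IsIso (((DTen.RHom R).map c.hom.op).app L))
  have h₂ : IsIso (DTen.RHomMap c.hom ((DTen.LTen₂ R).obj (K, L))) :=
    inferInstanceAs (IsIso (((DTen.RHom R).map c.hom.op).app _))
  have := isIso_TT a.hom b.hom
  have := isIso_TT a.hom (DTen.RHomMap c.hom L ≫ (DTen.RHomR R M').map b.hom)
  have := evalTen_naturality a.hom b.hom c.hom
  have : IsIso (TT a.hom (DTen.RHomMap c.hom L ≫ (DTen.RHomR R M').map b.hom) ≫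
      DTen.evalTen K' L' M') := by rw [this]; infer_instance
  exact IsIso.of_isIso_comp_left (TT a.hom (DTen.RHomMap c.hom L ≫ (DTen.RHomR R M').map b.hom)) _

theorem isIso_evalTen_of_rep (K L M : DRing.Cx R) (hK : DRing.IsKFlat R K) [M.IsKProjective]
    (hθ : IsIso (θ K M L)) :
    IsIso (DTen.evalTen (DerivedCategory.Q.obj K) (DerivedCategory.Q.obj L) (DerivedCategory.Q.obj M)) := by
  have := DT.isIso_ε_left (L := L) hK
  have := DT.isIso_ε_left (L := DRing.homCx M L) hK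
  have hκ := isIso_TT (𝟙 (DerivedCategory.Q.obj K)) (κ M L)
  have hkey : TT (𝟙 (DerivedCategory.Q.obj K)) (κ M L) ≫
      DTen.evalTen (DerivedCategory.Q.obj K) (DerivedCategory.Q.obj L) (DerivedCategory.Q.obj M) =
      (DTen.ε R).app (K, DRing.homCx M L) ≫ DerivedCategory.Q.map (θ K M L) ≫ κ M (K ⊗ L) ≫
        (DTen.RHomR R (DerivedCategory.Q.obj M)).map (inv ((DTen.ε R).app (K, L))) := by
    apply ((DTen.rhomAdj R (DerivedCategory.Q.obj M)).homEquiv _ _).symm.injective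
    rw [Adjunction.homEquiv_counit, Adjunction.homEquiv_counit, Functor.map_comp, Functor.map_comp,
      Functor.map_comp, Functor.map_comp, Category.assoc, Category.assoc, Category.assoc, Category.assoc]
    erw [DTen.evalTen_fac, TT_map_ev, reassoc_of% (κ_fac M (K ⊗ L))]
    simp only [DTen.evalTenAux]
    erw [reassoc_of% (associator_naturality (𝟙 (DerivedCategory.Q.obj K)) (κ M L)
      (𝟙 (DerivedCategory.Q.obj M)))]
    rw [TT_comp, Category.comp_id, κ_fac, ← cancel_mono ((DTen.ε R).app (K, L))]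
    simp only [Category.assoc, IsIso.inv_hom_id, Category.comp_id]
    have n₁ := (DTen.ε R).naturality (Prod.mkHom (θ K M L) (𝟙 M))
    have n₂ := (DTen.ε R).naturality (Prod.mkHom (𝟙 K) (ev M L))
    dsimp at n₁ n₂
    simp only [MonoidalCategory.whiskerLeft_id, MonoidalCategory.id_whiskerRight, Category.id_comp,
      Category.comp_id, CategoryTheory.Functor.map_id] at n₁ n₂
    have hb : (DTen.associator (DerivedCategory.Q.obj K) (DerivedCategory.Q.obj (DRing.homCx M L))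
        (DerivedCategory.Q.obj M)).hom ≫ (DTen.βR R).app (K, (DRing.homCx M L, M)) =
          (DTen.βL R).app (K, (DRing.homCx M L, M)) := by
      rw [← DTen.assocR_fac, ← DTen.assocL_fac]
      exact DTen.associator_hom_assocR_assoc _ _ _ _
    dsimp [DTen.βR, DTen.βL] at hb
    rw [show TT (𝟙 (DerivedCategory.Q.obj K))
          ((DTen.ε R).app (DRing.homCx M L, M) ≫ DerivedCategory.Q.map (ev M L)) =
        TT (𝟙 (DerivedCategory.Q.obj K)) ((DTen.ε R).app (DRing.homCx M L, M)) ≫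
          TT (𝟙 (DerivedCategory.Q.obj K)) (DerivedCategory.Q.map (ev M L)) by
        rw [TT_comp, Category.id_comp], Category.assoc]
    erw [n₂]
    rw [reassoc_of% hb, ← DerivedCategory.Q.map_comp, ← θ_fac, DerivedCategory.Q.map_comp]
    erw [reassoc_of% n₁]
    rfl
  have : IsIso (TT (𝟙 (DerivedCategory.Q.obj K)) (κ M L) ≫
      DTen.evalTen (DerivedCategory.Q.obj K) (DerivedCategory.Q.obj L) (DerivedCategory.Q.obj M)) := by
    rw [hkey]; infer_instance
  exact IsIso.of_isIso_comp_left (TT (𝟙 (DerivedCategory.Q.obj K)) (κ M L)) _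

theorem exists_strictlyPerfect_rep {K : Dual.D R} (hK : DRing.IsPerfect R K) :
    ∃ (E : DRing.Cx R) (a b : ℤ), DRing.VanishesOutside E a b ∧ DRing.TermwiseFiniteProjective E ∧
      E.IsKProjective ∧ Nonempty (DerivedCategory.Q.obj E ≅ K) := by
  obtain ⟨E, a, b, hb, hE, he⟩ := hK
  have : E.IsStrictlyLE b := (CochainComplex.isStrictlyLE_iff E b).2 fun i hi => hb i (Or.inr hi)
  exact ⟨E, a, b, hb, hE, Groth.Agent.DMod.isKProjective b fun i => (hE i).2, he⟩

theorem isIso_evalTen_of_isPerfect_hom_source (K L M : Dual.D R) (hM : DRing.IsPerfect R M) :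
    IsIso (DTen.evalTen K L M) := by
  obtain ⟨E, a, b, hb, hE, hP, ⟨e⟩⟩ := exists_strictlyPerfect_rep hM
  obtain ⟨K', hK, ⟨eK⟩⟩ := DT.exists_rep K
  obtain ⟨L', -, ⟨eL⟩⟩ := DT.exists_rep L
  exact isIso_evalTen_of_iso eK eL e.symm
    (isIso_evalTen_of_rep K' L' E hK (isIso_θ_right E hb hE K' L'))

theorem isIso_evalTen_of_isPerfect_tensor_left (K L M : Dual.D R) (hK : DRing.IsPerfect R K) :
    IsIso (DTen.evalTen K L M) := by
  obtain ⟨E, a, b, hb, hE, hP, ⟨e⟩⟩ := exists_strictlyPerfect_rep hK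
  obtain ⟨M', hM, ⟨eM⟩⟩ := exists_rep M
  obtain ⟨L', -, ⟨eL⟩⟩ := DT.exists_rep L
  exact isIso_evalTen_of_iso e eL eM.symm
    (isIso_evalTen_of_rep E L' M' (isKFlat E) (isIso_θ_left E hb hE M' L'))

end Groth.Agent.KFlat.HomD
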