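import Groth.Agent.Lib.KFlat.EvalHomPC
import Groth.Agent.Lib.KFlat.EvalTen
import Groth.Agent.Lib.KInj.DerivedAdj

/-! `RHomCx E` is the internal hom out of the class of `E`. -/

set_option autoImplicit false
set_option linter.unusedSectionVars false
set_option backward.isDefEq.respectTransparency false

universe u

open CategoryTheory CategoryTheory.Limits MonoidalCategory CochainComplex.HomComplex

attribute [local instance] HasDerivedCategory.standard

namespace Groth.Agent.KFlat.HomD

open Groth.Agent.KFlat.HomAdj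

variable {R : Type u} [CommRing R] [DTen.HasLTen R] [DTen.HasRHom R]

theorem κ_naturality (M : DRing.Cx R) {L L' : DRing.Cx R} (f : L ⟶ L') :
    DerivedCategory.Q.map ((DRing.homCxFunctor M).map f) ≫ κ M L' =
      κ M L ≫ (DTen.RHomR R (DerivedCategory.Q.obj M)).map (DerivedCategory.Q.map f) := by
  let E := (DTen.rhomAdj R (DerivedCategory.Q.obj M)).homEquiv
  refine (E _ _).symm.injective ?_
  rw [Adjunction.homEquiv_naturality_left_symm, Adjunction.homEquiv_naturality_right_symm]
  have h : ∀ L : DRing.Cx R, (E _ _).symm (κ M L) =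
      (DTen.ε R).app (DRing.homCx M L, M) ≫ DerivedCategory.Q.map (ev M L) := fun L => Equiv.symm_apply_apply _ _
  refine (congrArg (_ ≫ ·) (h L')).trans (Eq.trans ?_ (congrArg (· ≫ _) (h L)).symm)
  have hn := (DTen.ε R).naturality (Prod.mkHom ((DRing.homCxFunctor M).map f) (𝟙 M))
  dsimp at hn
  simp only [CategoryTheory.Functor.map_id, MonoidalCategory.whiskerLeft_id, Category.comp_id] at hn
  refine Eq.trans ?_ (Category.assoc _ _ _).symm
  rw [← Functor.map_comp]
  refine Eq.trans ((Category.assoc _ _ _).symm.trans (congrArg (· ≫ _) hn)) ?_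
  refine (Category.assoc _ _ _).trans (congrArg ((DTen.ε R).app (DRing.homCx M L, M) ≫ ·) ?_)
  rw [← Functor.map_comp]
  refine congrArg DerivedCategory.Q.map ?_
  exact (adj M).counit.naturality f

/-- `RHomCx E` is the internal hom out of `Q E`. -/
theorem nonempty_rHomCx_iso (E : DRing.Cx R) [DRing.HasRHomCx E] :
    Nonempty (DRing.RHomCx E ≅ DTen.RHomR R (DerivedCategory.Q.obj E)) := by
  let α : DRing.homCxQ E ⟶ DerivedCategory.Q ⋙ DTen.RHomR R (DerivedCategory.Q.obj E) :=
    { app := fun L => κ E L, naturality := fun _ _ f => κ_naturality E f }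
  have := KInjLib.isRightDerivedFunctor_of_isIso (W := HomologicalComplex.quasiIso (ModuleCat.{u} R) (ComplexShape.up ℤ))
    (KInjLib.derivingClass_Q (A := ModuleCat.{u} R) KInjLib.enoughKInj_of_grothendieck) α
    fun L hL => isIso_κ_of_isKInjective E L
  exact ⟨Functor.rightDerivedUnique _ _ ((DRing.homCxQ E).totalRightDerivedUnit DerivedCategory.Q _) α
    (HomologicalComplex.quasiIso (ModuleCat.{u} R) (ComplexShape.up ℤ))⟩

/-- The dual of a strictly perfect complex. -/
theorem nonempty_rHomR_unit_iso {K : Dual.D R} (E : DRing.Cx R) [E.IsKProjective] (e : DerivedCategory.Q.obj E ≅ K)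
    (L : DRing.Cx R) :
    Nonempty ((DTen.RHomR R K).obj (DerivedCategory.Q.obj L) ≅ DerivedCategory.Q.obj (DRing.homCx E L)) :=
  ⟨(Adjunction.rightAdjointUniq
      ((DTen.rhomAdj R K).ofNatIsoLeft ((DTen.LTen R).flip.mapIso e.symm))
      (DTen.rhomAdj R (DerivedCategory.Q.obj E))).app _ ≪≫ (asIso (κ E L)).symm⟩

end Groth.Agent.KFlat.HomD
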