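import Groth.Agent.Lib.KFlat.Basic
import Mathlib.Algebra.Homology.Embedding.CochainComplex
import Mathlib.Algebra.Homology.ShortComplex.ExactFunctor

/-!
Flat objects; bounded above complexes of flat objects are K-flat.
-/

set_option autoImplicit false
set_option linter.unusedSectionVars false

universe v u

open CategoryTheory CategoryTheory.Limits

namespace Groth.Agent.KFlat

variable {C : Type u} [Category.{v} C] [Abelian C] [HasColimitsOfSize.{0, 0} C]
  (T : C ⥤ C ⥤ C) [T.Additive] [∀ X, (T.obj X).Additive]

instance preservesColimits_flip_flip (X : C) [PreservesColimitsOfSize.{0, 0} (T.obj X)] :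
    PreservesColimitsOfSize.{0, 0} (T.flip.flip.obj X) :=
  inferInstanceAs (PreservesColimitsOfSize.{0, 0} (T.obj X))

variable {T} [∀ X, PreservesColimitsOfSize.{0, 0} (T.obj X)]
  [∀ X, PreservesColimitsOfSize.{0, 0} (T.flip.obj X)]

theorem IsFlat.preservesHomology_right {X : C} (h : IsFlat T X) :
    (T.flip.obj X).PreservesHomology := by
  have := h.right
  exact Functor.preservesHomology_of_preservesMonos_and_cokernels _

theorem IsFlat.preservesHomology_left {X : C} (h : IsFlat T X) :
    (T.obj X).PreservesHomology := by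
  have := h.left
  exact Functor.preservesHomology_of_preservesMonos_and_cokernels _

theorem IsFlat.of_retract {X Y : C} (i : X ⟶ Y) (p : Y ⟶ X) (hip : i ≫ p = 𝟙 X) (h : IsFlat T Y) :
    IsFlat T X where
  left := ⟨fun {A B} f _ => by
    have := h.left
    refine Preadditive.mono_of_cancel_zero _ fun {W} z hz => ?_
    have h0 : z ≫ (T.map i).app A = 0 := by
      rw [← cancel_mono ((T.obj Y).map f), Category.assoc, zero_comp, ← (T.map i).naturality f,
        reassoc_of% hz, zero_comp]
    calc z = z ≫ (T.map i).app A ≫ (T.map p).app A := by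
          rw [← NatTrans.comp_app, ← T.map_comp, hip, CategoryTheory.Functor.map_id, NatTrans.id_app,
            Category.comp_id]
      _ = 0 := by rw [reassoc_of% h0, zero_comp]⟩
  right := ⟨fun {A B} f _ => by
    have := h.right
    refine Preadditive.mono_of_cancel_zero _ fun {W} z hz => ?_
    have h0 : z ≫ (T.flip.map i).app A = 0 := by
      rw [← cancel_mono ((T.flip.obj Y).map f), Category.assoc, zero_comp,
        ← (T.flip.map i).naturality f, reassoc_of% hz, zero_comp]
    calc z = z ≫ (T.flip.map i).app A ≫ (T.flip.map p).app A := by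
          rw [← NatTrans.comp_app, ← T.flip.map_comp, hip, CategoryTheory.Functor.map_id,
            NatTrans.id_app, Category.comp_id]
      _ = 0 := by rw [reassoc_of% h0, zero_comp]⟩

theorem IsFlat.of_iso {X Y : C} (h : IsFlat T Y) (e : X ≅ Y) : IsFlat T X :=
  h.of_retract e.hom e.inv e.hom_inv_id

theorem isFlat_of_isZero {X : C} (h : IsZero X) : IsFlat T X where
  left := ⟨fun _ _ => ⟨fun _ _ _ => (Functor.map_isZero T h).obj _ |>.eq_of_tgt _ _⟩⟩
  right := ⟨fun _ _ => ⟨fun _ _ _ => ((T.obj _).map_isZero h).eq_of_tgt _ _⟩⟩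

theorem IsFlat.biprod {X Y : C} (hX : IsFlat T X) (hY : IsFlat T Y) : IsFlat T (X ⊞ Y) where
  left := ⟨fun {A B} f _ => by
    have := hX.left
    have := hY.left
    refine Preadditive.mono_of_cancel_zero _ fun {W} z hz => ?_
    have h1 : z ≫ (T.map (biprod.fst : X ⊞ Y ⟶ X)).app A = 0 := by
      rw [← cancel_mono ((T.obj X).map f), Category.assoc, zero_comp, ← NatTrans.naturality,
        reassoc_of% hz, zero_comp]
    have h2 : z ≫ (T.map (biprod.snd : X ⊞ Y ⟶ Y)).app A = 0 := by
      rw [← cancel_mono ((T.obj Y).map f), Category.assoc, zero_comp, ← NatTrans.naturality,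
        reassoc_of% hz, zero_comp]
    have h3 : (T.map (biprod.fst : X ⊞ Y ⟶ X)).app A ≫ (T.map biprod.inl).app A +
        (T.map (biprod.snd : X ⊞ Y ⟶ Y)).app A ≫ (T.map biprod.inr).app A = 𝟙 _ := by
      rw [← NatTrans.comp_app, ← NatTrans.comp_app, ← T.map_comp, ← T.map_comp, ← NatTrans.app_add,
        ← T.map_add, biprod.total, CategoryTheory.Functor.map_id, NatTrans.id_app]
    rw [← Category.comp_id z, ← h3, Preadditive.comp_add, reassoc_of% h1, reassoc_of% h2, zero_comp,
      zero_comp, zero_add]⟩
  right := ⟨fun {A B} f _ => by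
    have := hX.right
    have := hY.right
    refine Preadditive.mono_of_cancel_zero _ fun {W} z hz => ?_
    have h1 : z ≫ (T.flip.map (biprod.fst : X ⊞ Y ⟶ X)).app A = 0 := by
      rw [← cancel_mono ((T.flip.obj X).map f), Category.assoc, zero_comp, ← NatTrans.naturality,
        reassoc_of% hz, zero_comp]
    have h2 : z ≫ (T.flip.map (biprod.snd : X ⊞ Y ⟶ Y)).app A = 0 := by
      rw [← cancel_mono ((T.flip.obj Y).map f), Category.assoc, zero_comp, ← NatTrans.naturality,
        reassoc_of% hz, zero_comp]
    have h3 : (T.flip.map (biprod.fst : X ⊞ Y ⟶ X)).app A ≫ (T.flip.map biprod.inl).app A +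
        (T.flip.map (biprod.snd : X ⊞ Y ⟶ Y)).app A ≫ (T.flip.map biprod.inr).app A = 𝟙 _ := by
      rw [← NatTrans.comp_app, ← NatTrans.comp_app, ← T.flip.map_comp, ← T.flip.map_comp,
        ← NatTrans.app_add, ← T.flip.map_add, biprod.total, CategoryTheory.Functor.map_id,
        NatTrans.id_app]
    rw [← Category.comp_id z, ← h3, Preadditive.comp_add, reassoc_of% h1, reassoc_of% h2, zero_comp,
      zero_comp, zero_add]⟩

section Colimit

variable {J : Type} [SmallCategory J] [HasExactColimitsOfShape J C]

theorem isFlat_colimit {F : J ⥤ C} {c : Cocone F} (hc : IsColimit c)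
    (h : ∀ j, IsFlat T (F.obj j)) : IsFlat T c.pt where
  left := ⟨fun {A B} f _ => by
    refine MorphismProperty.colimitsOfShape_le (W := MorphismProperty.monomorphisms C) (J := J) _
      (MorphismProperty.colimitsOfShape.mk' (F ⋙ T.flip.obj A) (F ⋙ T.flip.obj B)
        ((T.flip.obj A).mapCocone c) ((T.flip.obj B).mapCocone c)
        (isColimitOfPreserves _ hc) (isColimitOfPreserves _ hc)
        (Functor.whiskerLeft F (T.flip.map f)) (fun j => ?_) _ fun j => ?_)
    · have := (h j).left
      exact MorphismProperty.monomorphisms.infer_property ((T.obj (F.obj j)).map f)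
    · exact (T.map (c.ι.app j)).naturality f |>.symm⟩
  right := ⟨fun {A B} f _ => by
    refine MorphismProperty.colimitsOfShape_le (W := MorphismProperty.monomorphisms C) (J := J) _
      (MorphismProperty.colimitsOfShape.mk' (F ⋙ T.obj A) (F ⋙ T.obj B)
        ((T.obj A).mapCocone c) ((T.obj B).mapCocone c)
        (isColimitOfPreserves _ hc) (isColimitOfPreserves _ hc)
        (Functor.whiskerLeft F (T.map f)) (fun j => ?_) _ fun j => ?_)
    · have := (h j).right
      exact MorphismProperty.monomorphisms.infer_property ((T.flip.obj (F.obj j)).map f)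
    · exact (T.flip.map (c.ι.app j)).naturality f |>.symm⟩

end Colimit

theorem ιt_d (L E : CochainComplex C ℤ) (p q n n' : ℤ) (h : p + q = n) :
    ιt T L E p q n h ≫ (((tcx T).obj L).obj E).d n n' =
      HomologicalComplex.mapBifunctor.d₁ L E T (ComplexShape.up ℤ) p q n' +
        HomologicalComplex.mapBifunctor.d₂ L E T (ComplexShape.up ℤ) p q n' := by
  refine (congrArg (ιt T L E p q n h ≫ ·)
    (HomologicalComplex.mapBifunctor.d_eq L E T (ComplexShape.up ℤ) n n')).trans ?_
  refine (Preadditive.comp_add _ _ _ _ _ _).trans ?_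
  exact congrArg₂ _ (HomologicalComplex.mapBifunctor.ι_D₁ L E T (ComplexShape.up ℤ) n n' p q h)
    (HomologicalComplex.mapBifunctor.ι_D₂ L E T (ComplexShape.up ℤ) n n' p q h)

section Single

variable (L : CochainComplex C ℤ) (a : ℤ) (X : C)

/-- The only summand of `L ⊗ X[-a]` in degree `n`. -/
noncomputable def singleTotalHom {p n : ℤ} (h : p + a = n) :
    (((tcx T).obj L).obj ((HomologicalComplex.single C (ComplexShape.up ℤ) a).obj X)).X n ⟶
      (T.obj (L.X p)).obj X :=
  HomologicalComplex.mapBifunctorDesc fun p' q h' =>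
    if hq : q = a then (T.map (L.XIsoOfEq (show p' = p by
        have : p' + q = n := h'
        omega)).hom).app _ ≫
      (T.obj (L.X p)).map (HomologicalComplex.singleObjXIsoOfEq (ComplexShape.up ℤ) a X q hq).hom
    else 0

/-- The isomorphism with the only summand. -/
noncomputable def singleTotalIso {p n : ℤ} (h : p + a = n) :
    (T.obj (L.X p)).obj X ≅
      (((tcx T).obj L).obj ((HomologicalComplex.single C (ComplexShape.up ℤ) a).obj X)).X n where
  hom := (T.obj (L.X p)).map
      (HomologicalComplex.singleObjXSelf (ComplexShape.up ℤ) a X).inv ≫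
    ιt T L _ p a n h
  inv := singleTotalHom L a X h
  hom_inv_id := by
    rw [Category.assoc, singleTotalHom, ι_desc, dif_pos rfl]
    simp only [HomologicalComplex.XIsoOfEq_rfl, Iso.refl_hom, CategoryTheory.Functor.map_id,
      NatTrans.id_app, Category.id_comp]
    rw [← Functor.map_comp]
    exact (congrArg _ (Iso.inv_hom_id _)).trans ((T.obj _).map_id _)
  inv_hom_id := by
    refine tcx_hom_ext T fun p' q h' => ?_
    by_cases hq : q = a
    · subst hq
      obtain rfl : p' = p := by omega
      rw [singleTotalHom, ι_desc_assoc, dif_pos rfl]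
      simp only [HomologicalComplex.XIsoOfEq_rfl, Iso.refl_hom, CategoryTheory.Functor.map_id,
        NatTrans.id_app, Category.id_comp, Category.comp_id]
      rw [← Functor.map_comp_assoc]
      refine (congrArg (· ≫ _) ((congrArg _ (Iso.hom_inv_id _)).trans ((T.obj _).map_id _))).trans ?_
      exact Category.id_comp _
    · exact ((T.obj (L.X p')).map_isZero
        (HomologicalComplex.isZero_single_obj_X (ComplexShape.up ℤ) a X q hq)).eq_of_src _ _

theorem singleTotalIso_d {p p' n n' : ℤ} (h : p + a = n) (h' : p' + a = n') (hp : p + 1 = p') :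
    (T.map (L.d p p')).app X ≫ (singleTotalIso L a X h').hom =
      (singleTotalIso (T := T) L a X h).hom ≫
        (((tcx T).obj L).obj ((HomologicalComplex.single C (ComplexShape.up ℤ) a).obj X)).d n n' := by
  change _ ≫ _ ≫ _ = (_ ≫ _) ≫ _
  rw [Category.assoc, ιt_d,
    HomologicalComplex.mapBifunctor.d₁_eq _ _ _ _ (show (ComplexShape.up ℤ).Rel p p' from hp) _ _ h',
    HomologicalComplex.mapBifunctor.d₂_eq' _ _ _ _ p (show (ComplexShape.up ℤ).Rel a (a + 1) from rfl),
    HomologicalComplex.single_obj_d, CategoryTheory.Functor.map_zero, zero_comp, smul_zero, add_zero,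
    show ComplexShape.ε₁ (ComplexShape.up ℤ) (ComplexShape.up ℤ) (ComplexShape.up ℤ) (p, a) = 1
      from rfl, one_smul]
  exact ((T.map (L.d p p')).naturality_assoc _ _).symm

/-- The short complexes of `L ⊗ X[-a]` are those of `L ⊗ X`. -/
noncomputable def singleScIso (n m : ℤ) (h : m + a = n) :
    (L.sc' (m - 1) m (m + 1)).map (T.flip.obj X) ≅
      (((tcx T).obj L).obj ((HomologicalComplex.single C (ComplexShape.up ℤ) a).obj X)).sc'
        (n - 1) n (n + 1) :=
  ShortComplex.isoMk
    (singleTotalIso (T := T) L a X (by omega)) (singleTotalIso L a X h)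
    (singleTotalIso L a X (by omega)) (singleTotalIso_d L a X _ _ (by omega)).symm
    (singleTotalIso_d L a X _ _ (by omega)).symm

theorem exactAt_tcx_single_iff (n m : ℤ) (h : m + a = n) :
    (((tcx T).obj L).obj ((HomologicalComplex.single C (ComplexShape.up ℤ) a).obj X)).ExactAt n ↔
      ((L.sc' (m - 1) m (m + 1)).map (T.flip.obj X)).Exact := by
  rw [HomologicalComplex.exactAt_iff' _ (n - 1) n (n + 1) (by simp) (by simp)]
  exact (ShortComplex.exact_iff_of_iso (singleScIso L a X n m h)).symm

theorem acyclic_tcx_single (hX : IsFlat T X) (hL : L.Acyclic) :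
    (((tcx T).obj L).obj ((HomologicalComplex.single C (ComplexShape.up ℤ) a).obj X)).Acyclic := by
  intro n
  have := hX.preservesHomology_right
  refine (exactAt_tcx_single_iff L a X n (n - a) (by omega)).2 ?_
  exact ((HomologicalComplex.exactAt_iff' L (n - a - 1) (n - a) (n - a + 1) (by simp) (by simp)).1
    (hL (n - a))).map (T.flip.obj X)

theorem isKFlat_single (hX : IsFlat T X) :
    IsKFlat T ((HomologicalComplex.single C (ComplexShape.up ℤ) a).obj X) :=
  fun L hL => acyclic_tcx_single L a X hX hL

end Single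

theorem isKFlat_of_bounded_flat (b : ℤ) (m : ℕ) :
    ∀ (K : CochainComplex C ℤ) [K.IsStrictlyLE b] [K.IsStrictlyGE (b + 1 - m)],
      (∀ n, IsFlat T (K.X n)) → IsKFlat T K := by
  induction m with
  | zero =>
    intro K _ hGE _
    refine isKFlat_of_isZero ((IsZero.iff_id_eq_zero K).2 ?_)
    ext i
    rcases lt_or_ge i (b + 1) with h | h
    · exact (K.isZero_of_isStrictlyGE (b + 1 - ((0 : ℕ) : ℤ)) i (by simpa using h)).eq_of_src _ _
    · exact (K.isZero_of_isStrictlyLE b i (by omega)).eq_of_src _ _
  | succ m ih =>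
    intro K _ hGE hK
    obtain ⟨a, ha⟩ : ∃ a, a = b + 1 - ((m + 1 : ℕ) : ℤ) := ⟨_, rfl⟩
    let π : K ⟶ (HomologicalComplex.single C (ComplexShape.up ℤ) a).obj (K.X a) :=
      HomologicalComplex.mkHomToSingle (𝟙 _) fun i hi =>
        (K.isZero_of_isStrictlyGE (b + 1 - ((m + 1 : ℕ) : ℤ)) i
          (by have : i + 1 = a := hi; omega)).eq_of_src _ _
    have hπ : ∀ i, ∃ s, s ≫ π.f i = 𝟙 _ := fun i => by
      by_cases hi : i = a
      · subst hi
        exact ⟨(HomologicalComplex.singleObjXSelf (ComplexShape.up ℤ) i (K.X i)).hom,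
          by simp [π]⟩
      · exact ⟨0, (HomologicalComplex.isZero_single_obj_X _ a _ i hi).eq_of_tgt _ _⟩
    have : ∀ i, Epi (π.f i) := fun i =>
      have : IsSplitEpi (π.f i) := ⟨⟨⟨(hπ i).choose, (hπ i).choose_spec⟩⟩⟩
      inferInstance
    have : Epi π := HomologicalComplex.epi_of_epi_f _ this
    let S : ShortComplex (CochainComplex C ℤ) :=
      ShortComplex.mk (kernel.ι π) π (kernel.condition π)
    have hS : S.ShortExact := { exact := ShortComplex.exact_kernel π }
    have hSp : ∀ i : ℤ, Nonempty ((S.map (HomologicalComplex.eval C (ComplexShape.up ℤ) i)).Splitting) :=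
      fun i => by
        have h := hS.map_of_exact (HomologicalComplex.eval C (ComplexShape.up ℤ) i)
        exact ⟨ShortComplex.Splitting.ofExactOfSection _ h.exact (hπ i).choose (hπ i).choose_spec
          h.mono_f⟩
    have hker : ∀ i, i ≠ a → IsIso ((kernel.ι π).f i) := fun i hi => by
      have h := hS.map_of_exact (HomologicalComplex.eval C (ComplexShape.up ℤ) i)
      have hz : (S.map (HomologicalComplex.eval C (ComplexShape.up ℤ) i)).g = 0 :=
        (HomologicalComplex.isZero_single_obj_X (ComplexShape.up ℤ) a (K.X a) i hi).eq_of_tgt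
          (π.f i) 0
      have := h.exact.epi_f hz
      have := h.mono_f
      exact isIso_of_mono_of_epi (S.map (HomologicalComplex.eval C (ComplexShape.up ℤ) i)).f
    have hzero : IsZero (S.X₁.X a) := by
      have h := hS.map_of_exact (HomologicalComplex.eval C (ComplexShape.up ℤ) a)
      have := h.mono_f
      have hπa : Mono (π.f a) := by
        simp only [π, HomologicalComplex.mkHomToSingle_f, Category.id_comp]
        infer_instance
      have h0 : (kernel.ι π).f a = 0 := by
        rw [← cancel_mono (π.f a), zero_comp]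
        exact (S.map (HomologicalComplex.eval C (ComplexShape.up ℤ) a)).zero
      have : Mono ((kernel.ι π).f a) := h.mono_f
      exact IsZero.of_mono_eq_zero ((kernel.ι π).f a) h0
    have h1 : ∀ i, i ≠ a → Nonempty (S.X₁.X i ≅ K.X i) := fun i hi =>
      have := hker i hi
      ⟨asIso ((kernel.ι π).f i)⟩
    have : CochainComplex.IsStrictlyLE S.X₁ b := by
      rw [CochainComplex.isStrictlyLE_iff]
      intro i hi
      exact (K.isZero_of_isStrictlyLE b i hi).of_iso (h1 i (by omega)).some
    have : CochainComplex.IsStrictlyGE S.X₁ (b + 1 - (m : ℤ)) := by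
      rw [CochainComplex.isStrictlyGE_iff]
      intro i hi
      by_cases hia : i = a
      · subst hia
        exact hzero
      · exact (K.isZero_of_isStrictlyGE (b + 1 - ((m + 1 : ℕ) : ℤ)) i (by omega)).of_iso (h1 i hia).some
    refine IsKFlat.X₂_of_split hSp (ih S.X₁ fun i => ?_) (isKFlat_single a _ (hK a))
    by_cases hia : i = a
    · subst hia
      exact isFlat_of_isZero hzero
    · exact (hK i).of_iso (h1 i hia).some

variable [HasExactColimitsOfShape ℕ C]

theorem isKFlat_of_boundedAbove_flat (K : CochainComplex C ℤ) (b : ℤ) [K.IsStrictlyLE b]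
    (hK : ∀ n, IsFlat T (K.X n)) : IsKFlat T K := by
  refine IsKFlat.colimit (isColimitBrutCocone K (b + 1)) fun n => ?_
  have := brutGE_isStrictlyLE K (b + 1 - (n : ℤ)) b
  refine isKFlat_of_bounded_flat b n (brutGE K (b + 1 - (n : ℤ))) fun i => ?_
  by_cases h : b + 1 - (n : ℤ) ≤ i
  · exact (hK i).of_iso (brutIso K h)
  · exact isFlat_of_isZero (brutGE_isZero K (by omega))

end Groth.Agent.KFlat
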