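import Groth.Agent.Lib.KFlat.DTen
import Groth.Prelude.Def_DRing4
import Mathlib.Algebra.Homology.BifunctorAssociator

/-!
The tensor-Hom adjunction for cochain complexes of modules, on elements.
-/

set_option autoImplicit false
set_option linter.unusedSectionVars false
set_option backward.isDefEq.respectTransparency false

universe u

open CategoryTheory CategoryTheory.Limits MonoidalCategory CochainComplex.HomComplex

namespace Groth.Agent.KFlat.HomAdj

variable {R : Type u} [CommRing R]

/-- The element `x ⊗ y` of the total complex. -/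
noncomputable def tn {K L : DRing.Cx R} (p q n : ℤ) (h : p + q = n) (x : K.X p) (y : L.X q) :
    ((K ⊗ L : DRing.Cx R)).X n :=
  (HomologicalComplex.ιTensorObj K L p q n h).hom (x ⊗ₜ[R] y)

theorem tn_ext {K L : DRing.Cx R} {n : ℤ} {M : ModuleCat.{u} R} {f g : (K ⊗ L : DRing.Cx R).X n ⟶ M}
    (h : ∀ (p q : ℤ) (h : p + q = n) (x : K.X p) (y : L.X q), f (tn p q n h x y) = g (tn p q n h x y)) :
    f = g :=
  HomologicalComplex.mapBifunctor.hom_ext fun p q hpq =>
    ModuleCat.hom_ext (TensorProduct.ext' fun x y => h p q hpq x y)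

theorem tn_whiskerRight {K K' : DRing.Cx R} (f : K ⟶ K') (L : DRing.Cx R) (p q n : ℤ) (h : p + q = n)
    (x : K.X p) (y : L.X q) : (f ▷ L).f n (tn p q n h x y) = tn p q n h (f.f p x) y := by
  have := HomologicalComplex.ι_mapBifunctorMap f (𝟙 L) (curriedTensor (ModuleCat.{u} R))
    (ComplexShape.up ℤ) p q n h
  have := congrArg (fun t => t.hom (x ⊗ₜ[R] y)) this
  exact this

theorem tn_whiskerLeft (K : DRing.Cx R) {L L' : DRing.Cx R} (g : L ⟶ L') (p q n : ℤ) (h : p + q = n)
    (x : K.X p) (y : L.X q) : (K ◁ g).f n (tn p q n h x y) = tn p q n h x (g.f q y) := by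
  have := HomologicalComplex.ι_mapBifunctorMap (𝟙 K) g (curriedTensor (ModuleCat.{u} R))
    (ComplexShape.up ℤ) p q n h
  have := congrArg (fun t => t.hom (x ⊗ₜ[R] y)) this
  exact this

theorem tn_d {K L : DRing.Cx R} (p p' q q' n n' : ℤ) (h : p + q = n) (hp : p + 1 = p') (hq : q + 1 = q')
    (hn : n + 1 = n') (x : K.X p) (y : L.X q) :
    (K ⊗ L : DRing.Cx R).d n n' (tn p q n h x y) =
      tn p' q n' (by omega) (K.d p p' x) y + p.negOnePow • tn p q' n' (by omega) x (L.d q q' y) := by
  have e : HomologicalComplex.ιTensorObj K L p q n h ≫ (HomologicalComplex.tensorObj K L).d n n' =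
      ((curriedTensor (ModuleCat.{u} R)).map (K.d p p')).app (L.X q) ≫
          HomologicalComplex.ιTensorObj K L p' q n' (by omega) +
        p.negOnePow • (((curriedTensor (ModuleCat.{u} R)).obj (K.X p)).map (L.d q q') ≫
          HomologicalComplex.ιTensorObj K L p q' n' (by omega)) := by
    rw [HomologicalComplex.mapBifunctor.d_eq, Preadditive.comp_add,
      HomologicalComplex.mapBifunctor.ι_D₁, HomologicalComplex.mapBifunctor.ι_D₂,
      HomologicalComplex.mapBifunctor.d₁_eq _ _ _ _ (show (ComplexShape.up ℤ).Rel p p' from hp) _ _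
        (show p' + q = n' by omega),
      HomologicalComplex.mapBifunctor.d₂_eq _ _ _ _ _ (show (ComplexShape.up ℤ).Rel q q' from hq) _
        (show p + q' = n' by omega)]
    dsimp [ComplexShape.ε₁, ComplexShape.ε₂]
    rw [one_smul]
  exact congrArg (fun t => t.hom (x ⊗ₜ[R] y)) e

theorem tn_assoc {K L M : DRing.Cx R} (p q r s t n : ℤ) (hs : p + q = s) (h : s + r = n) (ht : q + r = t)
    (h' : p + t = n) (x : K.X p) (y : L.X q) (z : M.X r) :
    (α_ K L M).hom.f n (tn s r n h (tn p q s hs x y) z) = tn p t n h' x (tn q r t ht y z) := by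
  subst hs ht
  have e := HomologicalComplex.ι_mapBifunctorAssociatorX_hom
    (curriedAssociatorNatIso (ModuleCat.{u} R)) K L M (ComplexShape.up ℤ) (ComplexShape.up ℤ)
    (ComplexShape.up ℤ) p q r n (by simpa [ComplexShape.r] using h)
  exact congrArg (fun t => t.hom ((x ⊗ₜ[R] y) ⊗ₜ[R] z)) e

theorem tn_zero_left {K L : DRing.Cx R} (p q n : ℤ) (h : p + q = n) (y : L.X q) :
    tn (K := K) p q n h 0 y = 0 := by
  simp only [tn, TensorProduct.zero_tmul, map_zero]

theorem tn_add_left {K L : DRing.Cx R} (p q n : ℤ) (h : p + q = n) (x x' : K.X p) (y : L.X q) :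
    tn p q n h (x + x') y = tn p q n h x y + tn p q n h x' y := by
  simp only [tn, TensorProduct.add_tmul, map_add]

theorem tn_add_right {K L : DRing.Cx R} (p q n : ℤ) (h : p + q = n) (x : K.X p) (y y' : L.X q) :
    tn p q n h x (y + y') = tn p q n h x y + tn p q n h x y' := by
  simp only [tn, TensorProduct.tmul_add, map_add]

theorem tn_smul_left {K L : DRing.Cx R} (p q n : ℤ) (h : p + q = n) (r : R) (x : K.X p) (y : L.X q) :
    tn p q n h (r • x) y = r • tn p q n h x y := by
  rw [tn, tn, ← TensorProduct.smul_tmul', map_smul]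

theorem tn_smul_right {K L : DRing.Cx R} (p q n : ℤ) (h : p + q = n) (r : R) (x : K.X p) (y : L.X q) :
    tn p q n h x (r • y) = r • tn p q n h x y := by
  simp only [tn, TensorProduct.tmul_smul, map_smul]

theorem tn_units_smul_right {K L : DRing.Cx R} (p q n : ℤ) (h : p + q = n) (r : ℤˣ) (x : K.X p)
    (y : L.X q) : tn p q n h x (r • y) = r • tn p q n h x y := by
  simp only [Units.smul_def, tn, TensorProduct.tmul_smul, map_zsmul]

theorem negOnePow_smul_cancel {M : Type*} [AddCommGroup M] (p q : ℤ) (h : q = p + 1) (a : M) :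
    p.negOnePow • a + q.negOnePow • a = 0 := by
  subst h
  simp [Int.negOnePow_succ]

theorem desc_tn {K L : DRing.Cx R} {n : ℤ} {A : ModuleCat.{u} R}
    (g : ∀ (p q : ℤ), p + q = n → (K.X p ⊗ L.X q ⟶ A)) (p q : ℤ) (h : p + q = n) (x : K.X p) (y : L.X q) :
    HomologicalComplex.mapBifunctorDesc (K₁ := K) (K₂ := L) (F := curriedTensor (ModuleCat.{u} R))
      (c := ComplexShape.up ℤ) g (tn p q n h x y) = g p q h (x ⊗ₜ[R] y) :=
  congrArg (fun t => t.hom (x ⊗ₜ[R] y))
    (HomologicalComplex.ι_mapBifunctorDesc (K₁ := K) (K₂ := L)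
      (F := curriedTensor (ModuleCat.{u} R)) (c := ComplexShape.up ℤ) g p q h)

/-! ### Evaluation and coevaluation -/

/-- An element of the Hom complex, as a cochain. -/
abbrev coc {M L : DRing.Cx R} {j : ℤ} (z : (DRing.homCx M L).X j) : Cochain M L j := z

/-- Evaluation of cochains, bilinearly. -/
noncomputable def evComp (M L : DRing.Cx R) (j p n : ℤ) (h : j + p = n) :
    (DRing.homCx M L).X j ⊗ M.X p ⟶ L.X n :=
  ModuleCat.ofHom (TensorProduct.lift
    { toFun := fun (z : Cochain M L j) => (z.v p n (by omega)).hom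
      map_add' := fun z z' => rfl
      map_smul' := fun r z => rfl })

/-- Evaluation. -/
noncomputable def ev (M L : DRing.Cx R) : DRing.homCx M L ⊗ M ⟶ L where
  f n := HomologicalComplex.mapBifunctorDesc fun j p h => evComp M L j p n h
  comm' := by
    rintro n n' (rfl : n + 1 = n')
    refine tn_ext fun j p h z x => ?_
    change L.d n (n + 1) ((HomologicalComplex.mapBifunctorDesc (K₁ := DRing.homCx M L) (K₂ := M)
        (F := curriedTensor (ModuleCat.{u} R)) (c := ComplexShape.up ℤ)
        (fun j p h => evComp M L j p n h)) (tn j p n h z x)) = _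
    refine (congrArg _ (desc_tn _ j p h z x)).trans ?_
    refine Eq.trans ?_ (congrArg _ (tn_d j (j + 1) p (p + 1) n (n + 1) h rfl rfl rfl z x)).symm
    refine Eq.trans ?_ ((map_add (HomologicalComplex.mapBifunctorDesc (K₁ := DRing.homCx M L) (K₂ := M)
        (F := curriedTensor (ModuleCat.{u} R)) (c := ComplexShape.up ℤ)
        (fun j p h => evComp M L j p (n + 1) h)).hom _ _).trans
      (congrArg₂ (· + ·) (desc_tn (fun j p h => evComp M L j p (n + 1) h) (j + 1) p _ _ _)
        ((map_zsmul (HomologicalComplex.mapBifunctorDesc (K₁ := DRing.homCx M L) (K₂ := M)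
          (F := curriedTensor (ModuleCat.{u} R)) (c := ComplexShape.up ℤ)
          (fun j p h => evComp M L j p (n + 1) h)).hom _ _).trans
          (congrArg (j.negOnePow • ·)
            (desc_tn (fun j p h => evComp M L j p (n + 1) h) j (p + 1) _ _ _))))).symm
    change L.d n (n + 1) ((coc z).v p n (by omega) x) =
      (δ j (j + 1) (coc z)).v p (n + 1) (by omega) x +
        j.negOnePow • (coc z).v (p + 1) (n + 1) (by omega) (M.d p (p + 1) x)
    rw [δ_v j (j + 1) rfl (coc z) p (n + 1) (by omega) n (p + 1) (by omega) rfl]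
    change _ = L.d n (n + 1) ((coc z).v p n (by omega) x) +
      (j + 1).negOnePow • (coc z).v (p + 1) (n + 1) (by omega) (M.d p (p + 1) x) +
        j.negOnePow • (coc z).v (p + 1) (n + 1) (by omega) (M.d p (p + 1) x)
    rw [add_assoc, add_comm ((j + 1).negOnePow • _), negOnePow_smul_cancel j (j + 1) rfl, add_zero]

theorem ev_tn (M L : DRing.Cx R) (j p n : ℤ) (h : j + p = n) (z : (DRing.homCx M L).X j) (x : M.X p) :
    (ev M L).f n (tn j p n h z x) = (coc z).v p n (by omega) x :=
  desc_tn _ j p h z x

/-- Coevaluation, on elements. -/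
noncomputable def coevLin (M K : DRing.Cx R) (i : ℤ) : K.X i →ₗ[R] Cochain M (K ⊗ M) i where
  toFun k := Cochain.mk fun p q h => ModuleCat.ofHom
    { toFun := fun x => tn i p q (by omega) k x
      map_add' := fun x x' => tn_add_right _ _ _ _ _ _ _
      map_smul' := fun r x => tn_smul_right _ _ _ _ _ _ _ }
  map_add' k k' := by
    ext p q h x
    exact tn_add_left _ _ _ _ _ _ _
  map_smul' r k := by
    ext p q h x
    exact tn_smul_left _ _ _ _ _ _ _

/-- Coevaluation. -/
noncomputable def coev (M K : DRing.Cx R) : K ⟶ DRing.homCx M (K ⊗ M) where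
  f i := ModuleCat.ofHom (coevLin M K i)
  comm' := by
    rintro i i' (rfl : i + 1 = i')
    ext k
    change δ i (i + 1) (coevLin M K i k) = coevLin M K (i + 1) (K.d i (i + 1) k)
    ext p q h x
    rw [δ_v i (i + 1) rfl _ p q h (q - 1) (p + 1) rfl rfl]
    change (K ⊗ M : DRing.Cx R).d (q - 1) q (tn i p (q - 1) _ k x) +
      (i + 1).negOnePow • tn i (p + 1) q _ k (M.d p (p + 1) x) = tn (i + 1) p q _ (K.d i (i + 1) k) x
    rw [tn_d i (i + 1) p (p + 1) (q - 1) q _ rfl rfl (by omega), add_assoc,
      negOnePow_smul_cancel i (i + 1) rfl, add_zero]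

theorem coev_v (M K : DRing.Cx R) (i : ℤ) (k : K.X i) (p q : ℤ) (h : p + i = q) (x : M.X p) :
    (coc ((coev M K).f i k)).v p q h x = tn i p q (by omega) k x := rfl

theorem homCxMap_v (M : DRing.Cx R) {L L' : DRing.Cx R} (f : L ⟶ L') (n : ℤ)
    (z : (DRing.homCx M L).X n) (p q : ℤ) (h : p + n = q) (x : M.X p) :
    (coc (((DRing.homCxFunctor M).map f).f n z)).v p q h x = f.f q ((coc z).v p q h x) := by
  change ((coc z).comp (Cochain.ofHom f) (add_zero n)).v p q h x = _
  rw [Cochain.comp_zero_cochain_v, Cochain.ofHom_v]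
  rfl

/-- `- ⊗ M` is left adjoint to `Hom•(M, -)`. -/
noncomputable def adj (M : DRing.Cx R) : tensorRight M ⊣ DRing.homCxFunctor M :=
  Adjunction.mkOfUnitCounit
    { unit :=
        { app := fun K => coev M K
          naturality := fun K K' f => by
            ext i k
            refine Cochain.ext _ _ fun p q h => ?_
            ext x
            exact ((homCxMap_v M (f ▷ M) i (coevLin M K i k) p q h x).trans
              (tn_whiskerRight f M i p q _ k x)).symm }
      counit :=
        { app := fun L => ev M L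
          naturality := fun L L' f => by
            ext n : 1
            refine tn_ext fun j p h z x => ?_
            change (ev M L').f n ((((DRing.homCxFunctor M).map f) ▷ M).f n (tn _ _ _ h z x)) =
              f.f n ((ev M L).f n (tn _ _ _ h z x))
            refine (congrArg _ (tn_whiskerRight _ M j p n h z x)).trans ?_
            refine (ev_tn M L' j p n h _ x).trans ?_
            refine (homCxMap_v M f j z p n _ x).trans ?_
            exact congrArg _ (ev_tn M L j p n h z x).symm }
      left_triangle := by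
        ext K n : 3
        refine tn_ext fun i p h k x => ?_
        dsimp only [NatTrans.comp_app, Functor.whiskerRight_app, Functor.whiskerLeft_app,
          Functor.associator_hom_app, NatTrans.id_app]
        rw [Category.id_comp]
        exact ((congrArg _ (tn_whiskerRight (coev M K) M i p n h k x)).trans
          (ev_tn M _ i p n h _ x)).trans (coev_v M K i k p n _ x)
      right_triangle := by
        ext L i z
        refine Cochain.ext (F := M) (G := L) _ _ fun p q h => ?_
        ext x
        dsimp only [NatTrans.comp_app, Functor.whiskerRight_app, Functor.whiskerLeft_app,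
          Functor.associator_inv_app, NatTrans.id_app]
        rw [Category.id_comp]
        exact (homCxMap_v M (ev M L) i _ p q h x).trans (ev_tn M L i p q _ z x) }

end Groth.Agent.KFlat.HomAdj
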