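import Groth.Agent.Lib.KFlat.DTen
import Groth.Prelude.Def_DTen4

/-!
Derived base change of modules is computed by K-flat complexes, and is left adjoint to restriction.
-/

set_option autoImplicit false
set_option linter.unusedSectionVars false
set_option linter.unusedVariables false

universe u

open CategoryTheory CategoryTheory.Limits MonoidalCategory

attribute [local instance] HasDerivedCategory.standard

namespace Groth.Agent.KFlat.DT

open Groth.Agent.KFlat.Module

variable {R A : Type u} [CommRing R] [CommRing A] (φ : R →+* A)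

/-- Extension and restriction of scalars on complexes are adjoint. -/
noncomputable def cxAdj : DTen.extCx φ ⊣ DTen.resCx φ where
  unit := DTen.unitCx φ
  counit :=
    { app := fun N =>
        { f := fun i => (ModuleCat.extendRestrictScalarsAdj.{u, u, u} φ).counit.app (N.X i)
          comm' := fun i j _ =>
            ((ModuleCat.extendRestrictScalarsAdj.{u, u, u} φ).counit.naturality (N.d i j)).symm }
      naturality := fun N N' f => HomologicalComplex.hom_ext _ _ fun i =>
        (ModuleCat.extendRestrictScalarsAdj.{u, u, u} φ).counit.naturality (f.f i) }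
  left_triangle_components K := HomologicalComplex.hom_ext _ _ fun i =>
    (ModuleCat.extendRestrictScalarsAdj.{u, u, u} φ).left_triangle_components (K.X i)
  right_triangle_components N := HomologicalComplex.hom_ext _ _ fun i =>
    (ModuleCat.extendRestrictScalarsAdj.{u, u, u} φ).right_triangle_components (N.X i)

theorem qis_extCx {K K' : DRing.Cx R} (f : K ⟶ K') (hf : DTen.qis R f) (hK : DRing.IsKFlat R K)
    (hK' : DRing.IsKFlat R K') : DTen.qis A ((DTen.extCx φ).map f) :=
  have : QuasiIso f := hf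
  quasiIso_extendScalars_map φ f ((isKFlat_iff _).2 hK) ((isKFlat_iff _).2 hK')

theorem isKFlat_extCx {K : DRing.Cx R} (hK : DRing.IsKFlat R K) :
    DRing.IsKFlat A ((DTen.extCx φ).obj K) :=
  (isKFlat_iff _).1 (isKFlat_extendScalars φ ((isKFlat_iff _).2 hK))

theorem exists_derived_extCx :
    ∃ (G : Dual.D R ⥤ Dual.D A) (α : DerivedCategory.Q ⋙ G ⟶ DTen.extCx φ ⋙ DerivedCategory.Q)
      (adj : G ⊣ DRing.restrictD φ), (∀ K, DRing.IsKFlat R K → IsIso (α.app K)) ∧
        ∀ K, adj.unit.app (DerivedCategory.Q.obj K) ≫ (DRing.restrictD φ).map (α.app K) =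
          DerivedCategory.Q.map ((DTen.unitCx φ).app K) ≫
            (DTen.resFactors φ).inv.app ((DTen.extCx φ).obj K) := by
  have hF : ∀ {K K' : DRing.Cx R} (f : K ⟶ K'), DTen.qis R f → DRing.IsKFlat R K →
      DRing.IsKFlat R K' → IsIso ((DTen.extCx φ ⋙ DerivedCategory.Q).map f) :=
    fun f hf hK hK' => isIso_Q_map _ (qis_extCx φ f hf hK hK')
  obtain ⟨G, α, hG, hα⟩ := KFlat.exists_isRightKanExtension (W := DTen.qis R) (res R) (aug R)
    qis_aug _ (DRing.IsKFlat R) isKFlat_res hF DerivedCategory.Q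
  have : G.IsLeftDerivedFunctor α (DTen.qis R) := ⟨hG⟩
  let β : DTen.resCx φ ⋙ DerivedCategory.Q ⟶ DerivedCategory.Q ⋙ DRing.restrictD φ :=
    (DTen.resFactors φ).inv
  have : (DRing.restrictD φ).IsRightDerivedFunctor β (DTen.qis A) :=
    isRightDerivedFunctor_of_iso _ _ _ β
  have : (G ⋙ DRing.restrictD φ).IsLeftDerivedFunctor
      ((Functor.associator _ _ _).inv ≫ Functor.whiskerRight α (DRing.restrictD φ)) (DTen.qis R) := by
    refine isLeftDerivedFunctor_of_isIso (W := DTen.qis R) (res R) (aug R) qis_aug _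
      (DRing.IsKFlat R) isKFlat_res (fun f hf hK hK' => ?_) _ _ _ (fun K hK => ?_)
    · have := hF f hf hK hK'
      exact inferInstanceAs (IsIso ((DRing.restrictD φ).map _))
    · have := hα K hK
      simp only [NatTrans.comp_app, Functor.whiskerRight_app, Functor.associator_inv_app]
      infer_instance
  have : (DRing.restrictD φ ⋙ G).IsRightDerivedFunctor
      (Functor.whiskerRight β G ≫ (Functor.associator _ _ _).hom) (DTen.qis A) :=
    isRightDerivedFunctor_of_iso _ _ _ _
  exact ⟨G, α, (cxAdj φ).derived (DTen.qis R) (DTen.qis A) α β, hα,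
    fun K => (cxAdj φ).derivedη_fac_app (DTen.qis R) α β K⟩

theorem hasLBase : DTen.HasLBase φ :=
  have ⟨G, α, adj, _⟩ := exists_derived_extCx φ
  ⟨⟨G, ⟨adj⟩⟩⟩

theorem isIso_baseCmp_app [DTen.HasLBase φ] {K : DRing.Cx R} (hK : DRing.IsKFlat R K) :
    IsIso ((DTen.baseCmp φ).app K) := by
  obtain ⟨G, α, adj, hα, hfac⟩ := exists_derived_extCx φ
  have := hα K hK
  have h : (DTen.baseCmp φ).app K =
      (Adjunction.leftAdjointUniq (DTen.baseAdj φ) adj).hom.app (DerivedCategory.Q.obj K) ≫ α.app K := by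
    apply ((DTen.baseAdj φ).homEquiv _ _).injective
    rw [Adjunction.homEquiv_unit, Adjunction.homEquiv_unit]
    erw [DTen.baseCmp_fac]
    rw [Functor.map_comp, ← Category.assoc]
    erw [Adjunction.unit_leftAdjointUniq_hom_app]
    exact (hfac K).symm
  rw [h]
  infer_instance

/-! ### The mixed tensor product -/

theorem qis_mixT {X Y : DRing.Cx R × DRing.Cx A} (f : X ⟶ Y) (hf : DTen.qisMix R A f) (hX : PP X)
    (hY : PP Y) : DTen.qis A ((DTen.mixT φ).map f) :=
  qis_tensor _ (qis_extCx φ f.1 hf.1 hX.1 hY.1) f.2 hf.2 hX.2 hY.2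

theorem isKFlat_mixT {K : DRing.Cx R} {N : DRing.Cx A} (hK : DRing.IsKFlat R K)
    (hN : DRing.IsKFlat A N) : DRing.IsKFlat A ((DTen.mixT φ).obj (K, N)) :=
  isKFlat_tensor (isKFlat_extCx φ hK) hN

theorem isIso_εMix [DTen.HasLTenMix φ] {K : DRing.Cx R} {N : DRing.Cx A} (hK : DRing.IsKFlat R K)
    (hN : DRing.IsKFlat A N) : IsIso ((DTen.εMix φ).app (K, N)) :=
  KFlat.isIso_counit (W := DTen.qisMix R A) (res₂ R A) (aug₂ R A)
    (fun X => ⟨qis_aug X.1, qis_aug X.2⟩) _ PP (fun X => ⟨isKFlat_res _, isKFlat_res _⟩)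
    (fun f hf hX hY => isIso_Q_map _ (qis_mixT φ f hf hX hY)) (DTen.QMix R A) (DTen.LTenMix φ)
    (DTen.εMix φ) (K, N) ⟨hK, hN⟩

theorem hasLTenMix : DTen.HasLTenMix φ :=
  KFlat.hasLeftDerivedFunctor (W := DTen.qisMix R A) (res₂ R A) (aug₂ R A)
    (fun X => ⟨qis_aug X.1, qis_aug X.2⟩) _ PP (fun X => ⟨isKFlat_res _, isKFlat_res _⟩)
    (fun f hf hX hY => isIso_Q_map _ (qis_mixT φ f hf hX hY))

theorem isIso_split_app [DTen.HasLTen A] [DTen.HasLBase φ] [DTen.HasLTenMix φ] (E : Dual.D R)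
    (N : Dual.D A) : IsIso ((DTen.split φ).app (E, N)) := by
  obtain ⟨K, hK, ⟨e⟩⟩ := exists_rep E
  obtain ⟨M, hM, ⟨e'⟩⟩ := exists_rep N
  rw [← NatTrans.isIso_app_iff_of_iso (DTen.split φ) (Iso.prod e e')]
  have := isIso_baseCmp_app φ hK
  have hs : IsIso ((DTen.splitβ φ).app (K, M)) := IsIso.comp_isIso'
    (@Functor.map_isIso _ _ _ _ _ _ (DTen.LTen₂ A) _
      (isIso_mkHom ((DTen.baseCmp φ).app K) (𝟙 (DerivedCategory.Q.obj M))))
    (isIso_ε_of_both (isKFlat_extCx φ hK) hM)
  have h : IsIso ((DTen.split φ).app ((DTen.QMix R A).obj (K, M)) ≫ (DTen.εMix φ).app (K, M)) :=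
    (DTen.split_fac φ (K, M)).symm ▸ hs
  exact @IsIso.of_isIso_comp_right _ _ _ _ _ ((DTen.split φ).app ((DTen.QMix R A).obj (K, M))) _
    (isIso_εMix φ hK hM) h

end Groth.Agent.KFlat.DT
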