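import Mathlib.CategoryTheory.Functor.Derived.LeftDerived
import Mathlib.CategoryTheory.MorphismProperty.Composition
import Mathlib.CategoryTheory.Localization.Predicate

/-!
Left derived functors from functorial resolutions.
-/

set_option autoImplicit false

universe v₁ v₂ v₃ u₁ u₂ u₃

open CategoryTheory

namespace Groth.Agent.KFlat

variable {C : Type u₁} [Category.{v₁} C] {D : Type u₂} [Category.{v₂} D] {H : Type u₃}
  [Category.{v₃} H] {W : MorphismProperty C} [W.HasTwoOutOfThreeProperty]
  (ρ : C ⥤ C) (ψ : ρ ⟶ 𝟭 C) (hψ : ∀ K, W (ψ.app K))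
  (F : C ⥤ H) (P : C → Prop) (hρ : ∀ K, P (ρ.obj K))
  (hF : ∀ {K K' : C} (f : K ⟶ K'), W f → P K → P K' → IsIso (F.map f))

include hψ hρ hF

theorem isInvertedBy : W.IsInvertedBy (ρ ⋙ F) := fun K K' f hf => by
  refine hF (ρ.map f) ?_ (hρ K) (hρ K')
  have h : W (ρ.map f ≫ ψ.app K') := by
    rw [ψ.naturality f]
    exact W.comp_mem _ _ (hψ K) hf
  exact W.of_postcomp _ _ (hψ K') h

variable (L : C ⥤ D) [L.IsLocalization W]

theorem exists_isRightKanExtension :
    ∃ (LF : D ⥤ H) (α : L ⋙ LF ⟶ F), LF.IsRightKanExtension α ∧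
      ∀ K, P K → IsIso (α.app K) := by
  let LF := Localization.lift (ρ ⋙ F) (isInvertedBy ρ ψ hψ F P hρ hF) L
  let e : L ⋙ LF ≅ ρ ⋙ F := Localization.fac (ρ ⋙ F) (isInvertedBy ρ ψ hψ F P hρ hF) L
  let α : L ⋙ LF ⟶ F := e.hom ≫ Functor.whiskerRight ψ F ≫ F.leftUnitor.hom
  have hα : ∀ K, α.app K = e.hom.app K ≫ F.map (ψ.app K) := fun K => by simp [α]
  have hiso : ∀ K, IsIso (L.map (ψ.app K)) := fun K => Localization.inverts L W _ (hψ K)
  have hα' : ∀ K, IsIso (α.app (ρ.obj K)) := fun K => by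
    rw [hα]
    have := hF (ψ.app (ρ.obj K)) (hψ _) (hρ _) (hρ K)
    infer_instance
  refine ⟨LF, α, ⟨⟨Limits.IsTerminal.ofUniqueHom (fun Y => ?_) fun Y m => ?_⟩⟩, fun K hK => ?_⟩
  · let γ : L ⋙ Y.left ⟶ L ⋙ LF :=
      { app := fun K => Y.left.map (inv (L.map (ψ.app K))) ≫ Y.hom.app (ρ.obj K) ≫ e.inv.app K
        naturality := fun K K' f => by
          have h := Y.hom.naturality (ρ.map f)
          have hn := e.inv.naturality f
          have hs : L.map f ≫ inv (L.map (ψ.app K')) = inv (L.map (ψ.app K)) ≫ L.map (ρ.map f) := by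
            rw [IsIso.comp_inv_eq, Category.assoc, IsIso.eq_inv_comp, ← L.map_comp, ← L.map_comp]
            exact congrArg L.map (ψ.naturality f).symm
          dsimp at h hn ⊢
          rw [← Y.left.map_comp_assoc, hs, Y.left.map_comp_assoc, reassoc_of% h]
          simp only [Category.assoc]
          rw [hn] }
    refine CostructuredArrow.homMk (Localization.liftNatTrans L W (L ⋙ Y.left) (L ⋙ LF) Y.left LF γ) ?_
    ext K
    have h := Y.hom.naturality (ψ.app K)
    dsimp at h ⊢
    change (Localization.liftNatTrans L W (L ⋙ Y.left) (L ⋙ LF) Y.left LF γ).app (L.obj K) ≫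
      α.app K = Y.hom.app K
    rw [Localization.liftNatTrans_app, hα]
    simp only [γ]
    dsimp
    simp only [Category.assoc, Category.id_comp, Category.comp_id, Iso.inv_hom_id_app_assoc]
    rw [← h, ← Y.left.map_comp_assoc, IsIso.inv_hom_id, CategoryTheory.Functor.map_id,
      Category.id_comp]
  · apply CostructuredArrow.hom_ext
    refine Localization.natTrans_ext L W fun K => ?_
    have hm : ∀ (n : Y ⟶ Functor.RightExtension.mk LF α) (K : C),
        n.left.app (L.obj K) ≫ α.app K = Y.hom.app K := fun n K =>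
      congrArg (fun t => t.app K) (CostructuredArrow.w n)
    have := hiso K
    rw [← cancel_epi (Y.left.map (L.map (ψ.app K)))]
    refine ((m.left.naturality (L.map (ψ.app K))).trans ?_).trans
      (NatTrans.naturality _ (L.map (ψ.app K))).symm
    refine congrArg (· ≫ _) ?_
    have := hα' K
    exact (cancel_mono (α.app (ρ.obj K))).1 ((hm m _).trans (hm _ _).symm)
  · rw [hα]
    have := hF (ψ.app K) (hψ K) (hρ K) hK
    infer_instance

theorem hasLeftDerivedFunctor : F.HasLeftDerivedFunctor W := by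
  obtain ⟨LF, α, h, -⟩ := exists_isRightKanExtension ρ ψ hψ F P hρ hF W.Q
  exact ⟨Functor.HasRightKanExtension.mk LF α⟩

/-- The counit of any total left derived functor is an isomorphism on adapted objects. -/
theorem isIso_counit (LF : D ⥤ H) (α : L ⋙ LF ⟶ F) [LF.IsLeftDerivedFunctor α W] (K : C)
    (hK : P K) : IsIso (α.app K) := by
  obtain ⟨LF', α', h, hiso⟩ := exists_isRightKanExtension ρ ψ hψ F P hρ hF L
  have : LF'.IsLeftDerivedFunctor α' W := ⟨h⟩
  have := Functor.leftDerived_fac_app LF' α' W LF α K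
  rw [← this]
  have := hiso K hK
  have : IsIso (LF'.leftDerivedLift α' W LF α) := by
    refine ⟨LF.leftDerivedLift α W LF' α', ?_, ?_⟩
    · apply LF.leftDerived_ext α W; simp
    · apply LF'.leftDerived_ext α' W; simp
  infer_instance

end Groth.Agent.KFlat
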