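import Groth.Agent.Lib.KFlat.Functorial
import Groth.Agent.Lib.KFlat.Derived
import Mathlib.Algebra.Homology.DerivedCategory.Basic

/-!
The standard results on K-flat complexes, for a bifunctor with enough flat objects.
-/

set_option autoImplicit false
set_option linter.unusedSectionVars false

universe v u

open CategoryTheory CategoryTheory.Limits

namespace Groth.Agent.KFlat

variable {C : Type u} [Category.{v} C] [Abelian C] [HasColimitsOfSize.{0, 0} C] [AB5OfSize.{0, 0} C]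
  {T : C ⥤ C ⥤ C} [T.Additive] [∀ X, (T.obj X).Additive]
  [∀ X, PreservesColimitsOfSize.{0, 0} (T.obj X)]
  [∀ X, PreservesColimitsOfSize.{0, 0} (T.flip.obj X)]
  (Φ : Cover C) (hΦ : ∀ X, IsFlat T (Φ.F.obj X))

include hΦ

theorem exists_resolution (G : CochainComplex C ℤ) :
    ∃ (K : CochainComplex C ℤ) (q : K ⟶ G), IsKFlat T K ∧ IsKFlat T.flip K ∧
      (∀ n, IsFlat T (K.X n)) ∧ QuasiIso q ∧ ∀ n, Epi (q.f n) :=
  ⟨resObj Φ G, resπ Φ G, isKFlat_resObj Φ G hΦ, isKFlat_flip_resObj Φ G hΦ,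
    isFlat_resObj_X Φ G hΦ, quasiIso_resπ Φ G, epi_resπ_f Φ G⟩

theorem exists_resolution_left (F : CochainComplex C ℤ) :
    ∃ (K : CochainComplex C ℤ) (q : K ⟶ F), IsKFlat T.flip K ∧ QuasiIso q :=
  ⟨resObj Φ F, resπ Φ F, isKFlat_flip_resObj Φ F hΦ, quasiIso_resπ Φ F⟩

theorem quasiIso_map₂' {P Q : CochainComplex C ℤ} (f : P ⟶ Q) [QuasiIso f]
    (hP : IsKFlat T P) (hQ : IsKFlat T Q) (F : CochainComplex C ℤ) :
    QuasiIso (((tcx T).obj F).map f) :=
  quasiIso_map₂_of_isKFlat f hP hQ F (exists_resolution_left Φ hΦ F)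

theorem acyclic_tcx_obj {L : CochainComplex C ℤ} (hL : L.Acyclic) (hk : IsKFlat T L)
    (F : CochainComplex C ℤ) : (((tcx T).obj F).obj L).Acyclic := by
  obtain ⟨K, q, hK, hq⟩ := exists_resolution_left Φ hΦ F
  have := hk.quasiIso_map₁ q
  exact acyclic_of_quasiIso (((tcx T).map q).app L) ((isKFlat_flip_iff K).1 hK _ hL)

theorem exact_sc_map {L : CochainComplex C ℤ} (hL : L.Acyclic) (hk : IsKFlat T L) (M : C) (k : ℤ) :
    ((L.sc' (k - 1) k (k + 1)).map (T.obj M)).Exact := by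
  have h : (((tcx T.flip).obj L).obj
      ((HomologicalComplex.single C (ComplexShape.up ℤ) 0).obj M)).ExactAt k :=
    acyclic_of_iso (acyclic_tcx_obj Φ hΦ hL hk _) (flipIso T L _).symm k
  exact (exactAt_tcx_single_iff (T := T.flip) L 0 M k k (add_zero k)).1 h

theorem isFlat_cycles {L : CochainComplex C ℤ} (hL : L.Acyclic) (hk : IsKFlat T L)
    (hk' : IsKFlat T.flip L) (hX : ∀ n, IsFlat T (L.X n)) (m : ℤ) :
    IsFlat T (kernel (L.d m (m + 1))) := by
  obtain ⟨n, rfl⟩ : ∃ n, m = n + 1 := ⟨m - 1, by omega⟩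
  exact isFlat_X₃ (cyclesSC_shortExact hL n (n + 1) rfl) (hX n)
    (fun M => mono_map_cyclesι hL (T.flip.obj M) n
      (exact_sc_map (T := T.flip) Φ (fun X => (hΦ X).flip) hL hk' M))
    (fun M => mono_map_cyclesι hL (T.obj M) n (exact_sc_map Φ hΦ hL hk M))

/-- The cycles are flat, when monomorphy of `M ⊗ f` implies that of `f ⊗ M`. -/
theorem isFlat_cycles_of_symm {L : CochainComplex C ℤ} (hL : L.Acyclic) (hk : IsKFlat T L)
    (hsym : ∀ (M : C) {A B : C} (f : A ⟶ B), Mono ((T.obj M).map f) → Mono ((T.map f).app M))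
    (hX : ∀ n, IsFlat T (L.X n)) (m : ℤ) : IsFlat T (kernel (L.d m (m + 1))) := by
  obtain ⟨n, rfl⟩ : ∃ n, m = n + 1 := ⟨m - 1, by omega⟩
  have h : ∀ M, Mono ((T.obj M).map (kernel.ι (L.d n (n + 1)))) := fun M =>
    mono_map_cyclesι hL (T.obj M) n (exact_sc_map Φ hΦ hL hk M)
  exact isFlat_X₃ (cyclesSC_shortExact hL n (n + 1) rfl) (hX n) (fun M => hsym M _ (h M)) h

theorem exists_factor {K L : CochainComplex C ℤ} (a : K ⟶ L) (hK : IsKFlat T K) :
    ∃ (N : CochainComplex C ℤ) (b : K ⟶ N) (c : N ⟶ L), IsKFlat T N ∧ QuasiIso c ∧ a = b ≫ c ∧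
      (∀ n, Epi (c.f n)) ∧ ((∀ n, IsFlat T (K.X n)) → ∀ n, IsFlat T (N.X n)) := by
  obtain ⟨R, r, hR, -, hRX, -, hr⟩ := exists_resolution Φ hΦ L
  let p : K ⊞ R ⟶ L := biprod.desc a r
  have hp : ∀ n, Epi (p.f n) := fun n => by
    have h : Epi ((biprod.inr : R ⟶ K ⊞ R).f n ≫ p.f n) := by
      rw [← HomologicalComplex.comp_f, biprod.inr_desc]
      exact hr n
    exact @epi_of_epi _ _ _ _ _ ((biprod.inr : R ⟶ K ⊞ R).f n) (p.f n) h
  have : Epi p := HomologicalComplex.epi_of_epi_f _ hp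
  obtain ⟨E, e, hE, -, hEX, he, -⟩ := exists_resolution Φ hΦ (kernel p)
  let m : E ⟶ K ⊞ R := e ≫ kernel.ι p
  let c : cylCoker m ⟶ L := cokernel.desc _ (biprod.fst ≫ p) (by simp [m])
  have hc : cokernel.π (cylHom m) ≫ c = biprod.fst ≫ p := cokernel.π_desc _ _ _
  have hS : (ShortComplex.mk (kernel.ι p) p (kernel.condition p)).ShortExact :=
    { exact := ShortComplex.exact_kernel p }
  let ψ : cylSC m ⟶ ShortComplex.mk (kernel.ι p) p (kernel.condition p) :=
    { τ₁ := e, τ₂ := biprod.fst, τ₃ := c, comm₁₂ := (biprod.lift_fst _ _).symm, comm₂₃ := hc.symm }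
  have : QuasiIso ψ.τ₂ := homotopyEquivalences_le_quasiIso _ _ _
    ⟨fstHomotopyEquiv (X := K ⊞ R) (CochainComplex.mappingCone.homotopyToZeroOfId E), rfl⟩
  refine ⟨cylCoker m, biprod.inl ≫ biprod.inl ≫ cokernel.π (cylHom m), c,
    IsKFlat.cylCoker m hE (hK.biprod hR),
    HomologicalComplex.HomologySequence.quasiIso_τ₃ ψ (cylSC_shortExact m) hS he this, ?_,
    fun n => ?_, fun hKX => isFlat_cylCoker_X m hEX fun n =>
      ((hKX n).biprod (hRX n)).of_iso (HomologicalComplex.biprodXIso K R n)⟩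
  · simp [hc, p]
  · have h : Epi ((biprod.fst ≫ p :
        (K ⊞ R) ⊞ CochainComplex.mappingCone (𝟙 E) ⟶ L).f n) := by
      rw [HomologicalComplex.comp_f]
      have := hp n
      infer_instance
    rw [← hc, HomologicalComplex.comp_f] at h
    exact @epi_of_epi _ _ _ _ _ ((cokernel.π (cylHom m)).f n) (c.f n) h

section Adapted

variable {D : Type*} [Category* D] [Abelian D] (G : C ⥤ D) [G.Additive] [PreservesFiniteColimits G]
  (hG : ∀ (S : ShortComplex C), S.ShortExact → IsFlat T S.X₃ → Mono (G.map S.f))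

include hG

theorem acyclic_map {L : CochainComplex C ℤ} (hL : L.Acyclic) (hk : IsKFlat T L)
    (hk' : IsKFlat T.flip L) (hX : ∀ n, IsFlat T (L.X n)) :
    ((G.mapHomologicalComplex (ComplexShape.up ℤ)).obj L).Acyclic := fun k => by
  have hmono : ∀ n, Mono (G.map (kernel.ι (L.d n (n + 1)))) := fun n =>
    hG _ (cyclesSC_shortExact hL n (n + 1) rfl) (isFlat_cycles Φ hΦ hL hk hk' hX (n + 1))
  obtain ⟨n, rfl⟩ : ∃ n, k = n + 1 := ⟨k - 1, by omega⟩
  rw [HomologicalComplex.exactAt_iff' _ n (n + 1) (n + 1 + 1) (by simp) (by simp),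
    ShortComplex.exact_iff_exact_up_to_refinements]
  intro W x hx
  change W ⟶ G.obj (L.X (n + 1)) at x
  change x ≫ G.map (L.d (n + 1) (n + 1 + 1)) = 0 at hx
  change ∃ (A' : D) (π : A' ⟶ W) (_ : Epi π) (x₁ : A' ⟶ G.obj (L.X n)),
    π ≫ x = x₁ ≫ G.map (L.d n (n + 1))
  have hfac : ∀ i, (cyclesSC L i (i + 1)).g ≫ kernel.ι (L.d (i + 1) (i + 1 + 1)) = L.d i (i + 1) :=
    fun i => kernel.lift_ι _ _ _
  have h1 : x ≫ G.map (cyclesSC L (n + 1) (n + 1 + 1)).g = 0 := by
    have := hmono (n + 1 + 1)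
    rw [← cancel_mono (G.map (kernel.ι (L.d (n + 1 + 1) (n + 1 + 1 + 1)))), zero_comp,
      Category.assoc, ← G.map_comp, hfac, hx]
  have hS := cyclesSC_shortExact hL (n + 1) (n + 1 + 1) rfl
  have := hS.epi_g
  obtain ⟨W₁, e₁, _, y, hy⟩ := (exact_map_of_epi G hS.exact).exact_up_to_refinements x h1
  change W₁ ⟶ G.obj (kernel (L.d (n + 1) (n + 1 + 1))) at y
  change e₁ ≫ x = y ≫ G.map (kernel.ι _) at hy
  have := (cyclesSC_shortExact hL n (n + 1) rfl).epi_g
  obtain ⟨W₂, e₂, _, w, hw⟩ := surjective_up_to_refinements_of_epi (G.map (cyclesSC L n (n + 1)).g) y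
  refine ⟨W₂, e₂ ≫ e₁, inferInstance, w, ?_⟩
  rw [Category.assoc, hy, ← Category.assoc, hw, Category.assoc, ← G.map_comp, hfac]

/-- An adapted functor preserves quasi-isomorphisms between K-flat complexes of flat objects. -/
theorem quasiIso_map {P Q : CochainComplex C ℤ} (f : P ⟶ Q) [QuasiIso f]
    (hP : IsKFlat T P ∧ IsKFlat T.flip P ∧ ∀ n, IsFlat T (P.X n))
    (hQ : IsKFlat T Q ∧ IsKFlat T.flip Q ∧ ∀ n, IsFlat T (Q.X n))
    (hsp : SplitPres (G.mapHomologicalComplex (ComplexShape.up ℤ))) :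
    QuasiIso ((G.mapHomologicalComplex (ComplexShape.up ℤ)).map f) :=
  hsp.quasiIso_map_of_acyclic f (acyclic_map Φ hΦ G hG (acyclic_cylCoker f)
    (IsKFlat.cylCoker f hP.1 hQ.1) (IsKFlat.cylCoker f hP.2.1 hQ.2.1)
    (isFlat_cylCoker_X f hP.2.2 hQ.2.2))

end Adapted

end Groth.Agent.KFlat

namespace Groth.Agent.KFlat

/-- Additive functors applied termwise preserve homotopies and degreewise split sequences. -/
theorem splitPres_map {C : Type u} [Category.{v} C] [Abelian C] {D : Type*} [Category* D] [Abelian D]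
    (G : C ⥤ D) [G.Additive] : SplitPres (G.mapHomologicalComplex (ComplexShape.up ℤ)) where
  homotopy h := ⟨G.mapHomotopy h⟩
  shortExact S hS := by
    refine HomologicalComplex.shortExact_of_degreewise_shortExact _ fun i => ?_
    obtain ⟨s⟩ := hS i
    exact (s.map G).shortExact

attribute [local instance] HasDerivedCategory.standard

/-- A functor sending quasi-isomorphisms between resolving complexes to quasi-isomorphisms is left derivable. -/
theorem hasLeftDerivedFunctor_comp_Q {C : Type u} [Category.{v} C] [Abelian C] [HasColimitsOfSize.{0, 0} C]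
    [AB5OfSize.{0, 0} C] {D : Type*} [Category* D] [Abelian D]
    (Φ : Cover C) (F : CochainComplex C ℤ ⥤ CochainComplex D ℤ) (P : CochainComplex C ℤ → Prop)
    (hP : ∀ G, P (resObj Φ G))
    (hF : ∀ {K K' : CochainComplex C ℤ} (f : K ⟶ K') [QuasiIso f], P K → P K' → QuasiIso (F.map f)) :
    (F ⋙ DerivedCategory.Q).HasLeftDerivedFunctor
      (HomologicalComplex.quasiIso C (ComplexShape.up ℤ)) :=
  hasLeftDerivedFunctor (resFunctor Φ) (resNatTrans Φ) (fun G => quasiIso_resπ Φ G) _ P hP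
    fun f hf hK hK' =>
      have : QuasiIso f := hf
      have := hF f hK hK'
      inferInstanceAs (IsIso (DerivedCategory.Q.map (F.map f)))

end Groth.Agent.KFlat
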