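import Mathlib.Algebra.Homology.HomologicalComplexLimits
import Mathlib.Algebra.Homology.HomologicalComplexAbelian
import Mathlib.Algebra.Homology.QuasiIso
import Mathlib.Algebra.Homology.ShortComplex.PreservesHomology
import Mathlib.CategoryTheory.Abelian.FunctorCategory
import Mathlib.CategoryTheory.Abelian.GrothendieckAxioms.Basic
import Mathlib.CategoryTheory.Limits.Constructions.EventuallyConstant
import Mathlib.CategoryTheory.Limits.FunctorCategory.Basic

/-!
Homology commutes with exact colimits.
-/

set_option autoImplicit false

universe v u w w'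

open CategoryTheory CategoryTheory.Limits

namespace Groth.Agent.KFlat

variable {C : Type u} [Category.{v} C] [Abelian C] {J : Type w} [Category.{w'} J]
  [HasColimitsOfShape J C] [HasExactColimitsOfShape J C]
  {ι : Type} {cs : ComplexShape ι}


theorem homologyMap_comp_eq {S₁ S₂ S₂' S₃ : ShortComplex C} (a : S₁ ⟶ S₂) (b : S₂ ⟶ S₃)
    (a' : S₁ ⟶ S₂') (b' : S₂' ⟶ S₃) (h : a ≫ b = a' ≫ b') :
    ShortComplex.homologyMap a ≫ ShortComplex.homologyMap b =
      ShortComplex.homologyMap a' ≫ ShortComplex.homologyMap b' := by
  rw [← ShortComplex.homologyMap_comp, ← ShortComplex.homologyMap_comp, h]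

section

variable (F : J ⥤ HomologicalComplex C cs) (i : ι)

/-- The short complex of functors in degree `i`. -/
noncomputable def scFun : ShortComplex (J ⥤ C) :=
  ShortComplex.mk (Functor.whiskerLeft F (HomologicalComplex.dNatTrans C cs (cs.prev i) i))
    (Functor.whiskerLeft F (HomologicalComplex.dNatTrans C cs i (cs.next i)))
    (by ext j; exact (F.obj j).d_comp_d _ _ _)

/-- Its evaluations. -/
noncomputable def scEvalIso (j : J) :
    (scFun F i).map ((evaluation J C).obj j) ≅ (F.obj j).sc i :=
  ShortComplex.isoMk (Iso.refl _) (Iso.refl _) (Iso.refl _)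
    ((Category.id_comp _).trans (Category.comp_id _).symm)
    ((Category.id_comp _).trans (Category.comp_id _).symm)

/-- Its colimit is the short complex of the colimit. -/
noncomputable def scColimIso :
    (scFun F i).map colim ≅ (colimit F).sc i := by
  refine ShortComplex.isoMk (preservesColimitIso (HomologicalComplex.eval C cs (cs.prev i)) F).symm
    (preservesColimitIso (HomologicalComplex.eval C cs i) F).symm
    (preservesColimitIso (HomologicalComplex.eval C cs (cs.next i)) F).symm (comm _ _) (comm _ _)
where
  comm (p q : ι) :
      (preservesColimitIso (HomologicalComplex.eval C cs p) F).inv ≫ (colimit F).d p q =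
        colimMap (Functor.whiskerLeft F (HomologicalComplex.dNatTrans C cs p q)) ≫
          (preservesColimitIso (HomologicalComplex.eval C cs q) F).inv := by
    refine colimit.hom_ext fun j => ?_
    refine (Category.assoc _ _ _).symm.trans ?_
    refine (congrArg (· ≫ (colimit F).d p q)
      (ι_preservesColimitIso_inv (HomologicalComplex.eval C cs p) F j)).trans ?_
    refine ((colimit.ι F j).comm p q).trans ?_
    refine (congrArg ((F.obj j).d p q ≫ ·)
      (ι_preservesColimitIso_inv (HomologicalComplex.eval C cs q) F j)).symm.trans ?_
    exact (ι_colimMap_assoc (Functor.whiskerLeft F (HomologicalComplex.dNatTrans C cs p q)) j _).symm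

/-- The objectwise homology. -/
noncomputable def homologyFunIso :
    (scFun F i).homology ≅ F ⋙ HomologicalComplex.homologyFunctor C cs i :=
  NatIso.ofComponents (fun j => ((scFun F i).mapHomologyIso ((evaluation J C).obj j)).symm ≪≫
    ShortComplex.homologyMapIso (scEvalIso F i j))
    (fun {j k} f => by
      have h := NatTrans.app_homology ((evaluation J C).map f) (scFun F i)
      dsimp at h ⊢
      rw [h]
      simp only [Category.assoc, Iso.hom_inv_id_assoc, ShortComplex.homologyMapIso_hom]
      change _ = _ ≫ _ ≫ ShortComplex.homologyMap
        ((HomologicalComplex.shortComplexFunctor C cs i).map (F.map f))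
      refine congrArg (_ ≫ ·) (homologyMap_comp_eq _ _ _ _ ?_)
      ext <;> exact (Category.comp_id _).trans (Category.id_comp _).symm)

/-- Homology commutes with exact colimits. -/
noncomputable def isColimitHomology :
    IsColimit ((HomologicalComplex.homologyFunctor C cs i).mapCocone (colimit.cocone F)) := by
  refine (IsColimit.precomposeHomEquiv (homologyFunIso F i) _).1
    (IsColimit.ofIsoColimit (colimit.isColimit (scFun F i).homology)
      (Cocone.ext (((scFun F i).mapHomologyIso colim).symm ≪≫
        ShortComplex.homologyMapIso (scColimIso F i)) fun j => ?_))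
  have h := NatTrans.app_homology (F := (evaluation J C).obj j) (G := colim)
    { app := fun G => colimit.ι G j, naturality := fun G G' α => (ι_colimMap α j).symm } (scFun F i)
  dsimp at h ⊢
  rw [h]
  simp only [Category.assoc, Iso.hom_inv_id_assoc, homologyFunIso]
  dsimp
  change _ = (_ ≫ _) ≫ ShortComplex.homologyMap
    ((HomologicalComplex.shortComplexFunctor C cs i).map (colimit.ι F j))
  refine (congrArg (_ ≫ ·) (homologyMap_comp_eq _ _ (scEvalIso F i j).hom _ ?_)).trans
    (Category.assoc _ _ _).symm
  ext <;> exact (ι_preservesColimitIso_inv (HomologicalComplex.eval C cs _) F j).trans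
    (Category.id_comp _).symm

theorem isColimit_homology_nonempty :
    PreservesColimit F (HomologicalComplex.homologyFunctor C cs i) :=
  preservesColimit_of_preserves_colimit_cocone (colimit.isColimit F) (isColimitHomology F i)

end

instance preservesColimitsOfShape_homologyFunctor (i : ι) :
    PreservesColimitsOfShape J (HomologicalComplex.homologyFunctor C cs i) :=
  ⟨fun {F} => isColimit_homology_nonempty F i⟩

/-- A colimit of acyclic complexes is acyclic. -/
theorem exactAt_colimit {F : J ⥤ HomologicalComplex C cs} {c : Cocone F} (hc : IsColimit c) (i : ι)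
    (h : ∀ j, (F.obj j).ExactAt i) : c.pt.ExactAt i := by
  rw [HomologicalComplex.exactAt_iff_isZero_homology, IsZero.iff_id_eq_zero]
  refine (isColimitOfPreserves (HomologicalComplex.homologyFunctor C cs i) hc).hom_ext fun j => ?_
  exact ((HomologicalComplex.exactAt_iff_isZero_homology _ _).1 (h j)).eq_of_src _ _

end Groth.Agent.KFlat
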