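import Groth.Agent.Lib.KFlat.FlatSeq
import Mathlib.CategoryTheory.Abelian.GrothendieckAxioms.Basic

/-!
Short exact sequences of complexes with flat quotient, and acyclic K-flat complexes of flat objects.
-/

set_option autoImplicit false
set_option linter.unusedSectionVars false

universe v u

open CategoryTheory CategoryTheory.Limits

namespace Groth.Agent.KFlat

variable {C : Type u} [Category.{v} C] [Abelian C] [HasColimitsOfSize.{0, 0} C] [AB5OfSize.{0, 0} C]

theorem ab4 : AB4OfSize.{0} C :=
  have : HasFiniteBiproducts C := Abelian.hasFiniteBiproducts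
  AB4.of_AB5 C

variable (T : C ⥤ C ⥤ C) [T.Additive] [∀ X, (T.obj X).Additive]

/-- The summands of `(L ⊗ E)^n`. -/
noncomputable def summands (L E : CochainComplex C ℤ) (n : ℤ) : Discrete ℤ ⥤ C :=
  Discrete.functor fun p => (T.obj (L.X p)).obj (E.X (n - p))

/-- `(L ⊗ E)^n` as the sum of its summands. -/
noncomputable def summandsCocone (L E : CochainComplex C ℤ) (n : ℤ) : Cocone (summands T L E n) :=
  Cofan.mk ((((tcx T).obj L).obj E).X n) fun p => ιt T L E p (n - p) n (by omega)

/-- It is a coproduct. -/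
noncomputable def isColimitSummandsCocone (L E : CochainComplex C ℤ) (n : ℤ) :
    IsColimit (summandsCocone T L E n) :=
  Cofan.IsColimit.mk _
    (fun s => HomologicalComplex.mapBifunctorDesc fun p q h =>
      (T.obj (L.X p)).map (E.XIsoOfEq (show q = n - p by
        have : p + q = n := h
        omega)).hom ≫ s.inj p)
    (fun s p => by
      refine (ι_desc T L E _ p (n - p) (by omega)).trans ?_
      simp)
    (fun s m hm => by
      refine tcx_hom_ext T fun p q h => ?_
      obtain rfl : q = n - p := by omega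
      rw [ι_desc, ← hm p]
      simp [summandsCocone])

theorem mono_tcx_map₂ (L : CochainComplex C ℤ) {E E' : CochainComplex C ℤ} (f : E ⟶ E')
    (hf : ∀ p q, Mono ((T.obj (L.X p)).map (f.f q))) : Mono (((tcx T).obj L).map f) := by
  have := ab4 (C := C)
  have : ∀ n, Mono ((((tcx T).obj L).map f).f n) := fun n => by
    let φ : summands T L E n ⟶ summands T L E' n :=
      Discrete.natTrans fun p => (T.obj (L.X p.as)).map (f.f (n - p.as))
    have : ∀ p, Mono (φ.app p) := fun p => hf _ _
    have := NatTrans.mono_of_mono_app φ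
    exact colim.map_mono' φ (isColimitSummandsCocone T L E n) (isColimitSummandsCocone T L E' n) _
      fun p => ι_tcx_map₂ T L f p.as (n - p.as) n (by omega)
  exact HomologicalComplex.mono_of_mono_f _ this

variable {T} [∀ X, PreservesColimitsOfSize.{0, 0} (T.obj X)]
  [∀ X, PreservesColimitsOfSize.{0, 0} (T.flip.obj X)]

theorem shortExact_tcx_map (hT : EnoughFlat T) {S : ShortComplex (CochainComplex C ℤ)}
    (hS : S.ShortExact) (h₃ : ∀ n, IsFlat T (S.X₃.X n)) (L : CochainComplex C ℤ) :
    (S.map ((tcx T).obj L)).ShortExact := by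
  have := hS.epi_g
  have hmono : Mono (S.map ((tcx T).obj L)).f := mono_tcx_map₂ T L S.f fun p q =>
    mono_map_of_flat hT (hS.map_of_exact (HomologicalComplex.eval C (ComplexShape.up ℤ) q)) (h₃ q) _
  have := preservesColimitsOfShape_left (T := T) (J := WalkingParallelPair) L
  have := preservesColimitsOfShape_left (T := T) (J := WalkingSpan) L
  exact
    { exact := ShortComplex.exact_of_g_is_cokernel _
        (CokernelCofork.mapIsColimit _ hS.exact.gIsCokernel ((tcx T).obj L))
      mono_f := hmono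
      epi_g := inferInstanceAs (Epi (((tcx T).obj L).map S.g)) }

theorem isKFlat_two_out_of_three (hT : EnoughFlat T) {S : ShortComplex (CochainComplex C ℤ)}
    (hS : S.ShortExact) (h₃ : ∀ n, IsFlat T (S.X₃.X n)) :
    (IsKFlat T S.X₁ → IsKFlat T S.X₂ → IsKFlat T S.X₃) ∧
    (IsKFlat T S.X₁ → IsKFlat T S.X₃ → IsKFlat T S.X₂) ∧
    (IsKFlat T S.X₂ → IsKFlat T S.X₃ → IsKFlat T S.X₁) :=
  ⟨fun a b L hL => acyclic_X₃ (shortExact_tcx_map hT hS h₃ L) (a L hL) (b L hL),
    fun a b L hL => (shortExact_tcx_map hT hS h₃ L).acyclic_X₂ (a L hL) (b L hL),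
    fun a b L hL => acyclic_X₁ (shortExact_tcx_map hT hS h₃ L) (a L hL) (b L hL)⟩

section Cycles

variable {L : CochainComplex C ℤ} (hL : L.Acyclic)

/-- `0 → Z^n → L^n → Z^{n+1} → 0`. -/
noncomputable abbrev cyclesSC (L : CochainComplex C ℤ) (n m : ℤ) : ShortComplex C :=
  ShortComplex.mk (kernel.ι (L.d n m))
    (kernel.lift (L.d m (m + 1)) (L.d n m) (L.d_comp_d _ _ _))
    (by rw [← cancel_mono (kernel.ι (L.d m (m + 1))), Category.assoc, kernel.lift_ι,
      kernel.condition, zero_comp])

include hL in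
theorem cyclesSC_shortExact (n m : ℤ) (h : n + 1 = m) : (cyclesSC L n m).ShortExact := by
  have h1 : (L.sc' n m (m + 1)).Exact :=
    (HomologicalComplex.exactAt_iff' L n m (m + 1) (by simp; omega) (by simp)).1 (hL m)
  have h2 : Epi (cyclesSC L n m).g := (ShortComplex.exact_iff_epi_kernel_lift _).1 h1
  refine { exact := ShortComplex.exact_of_f_is_kernel _ ?_, epi_g := h2,
           mono_f := inferInstanceAs (Mono (kernel.ι (L.d n m))) }
  exact KernelFork.IsLimit.ofι _ _
      (fun g hg => kernel.lift (L.d n m) g (by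
        have : g ≫ kernel.lift (L.d m (m + 1)) (L.d n m) (L.d_comp_d _ _ _) ≫
            kernel.ι (L.d m (m + 1)) = 0 := by rw [reassoc_of% hg, zero_comp]
        rwa [kernel.lift_ι] at this))
      (fun g hg => kernel.lift_ι _ _ _)
      (fun g hg b hb => by
        rw [← cancel_mono (kernel.ι (L.d n m)), kernel.lift_ι]
        exact hb)

include hL in
theorem mono_map_cyclesι {D : Type*} [Category* D] [Abelian D] (G : C ⥤ D) [G.Additive] [PreservesFiniteColimits G] (n : ℤ)
    (hG : ∀ k : ℤ, ((L.sc' (k - 1) k (k + 1)).map G).Exact) :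
    Mono (G.map (kernel.ι (L.d n (n + 1)))) := by
  have := (cyclesSC_shortExact hL (n - 1) n (by omega)).epi_g
  refine Preadditive.mono_of_cancel_zero _ fun {W} z hz => ?_
  have hfac : (cyclesSC L (n - 1) n).g ≫ kernel.ι (L.d n (n + 1)) = L.d (n - 1) n :=
    kernel.lift_ι _ _ _
  obtain ⟨W₁, e₁, _, y, hy⟩ :=
    surjective_up_to_refinements_of_epi (G.map (cyclesSC L (n - 1) n).g) z
  change W₁ ⟶ G.obj (L.X (n - 1)) at y
  have h1 : y ≫ G.map (L.d (n - 1) (n - 1 + 1)) = 0 := by
    have h2 : y ≫ G.map (L.d (n - 1) n) = 0 := by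
      rw [← hfac, G.map_comp, ← Category.assoc, ← hy, Category.assoc, hz, comp_zero]
    have hn : n - 1 + 1 = n := by omega
    rw [← L.d_comp_XIsoOfEq_hom hn.symm (n - 1), G.map_comp, reassoc_of% h2, zero_comp]
  obtain ⟨W₂, e₂, _, w, hw⟩ := (hG (n - 1)).exact_up_to_refinements y h1
  change W₂ ⟶ G.obj (L.X (n - 1 - 1)) at w
  change e₂ ≫ y = w ≫ G.map (L.d (n - 1 - 1) (n - 1)) at hw
  have h3 : L.d (n - 1 - 1) (n - 1) ≫ (cyclesSC L (n - 1) n).g = 0 := by
    rw [← cancel_mono (kernel.ι (L.d n (n + 1))), Category.assoc, hfac, L.d_comp_d, zero_comp]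
  rw [← cancel_epi e₁, comp_zero, hy, ← cancel_epi e₂, comp_zero, reassoc_of% hw, ← G.map_comp, h3,
    G.map_zero, comp_zero]

end Cycles

end Groth.Agent.KFlat
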