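import Groth.Agent.Lib.KFlat.PullbackKFlat
import Mathlib.Algebra.Homology.Monoidal

/-!
Pullback preserves quasi-isomorphisms between K-flat complexes; tensor products of K-flat complexes.
-/

set_option autoImplicit false
set_option linter.unusedSectionVars false

universe u

open CategoryTheory CategoryTheory.Limits AlgebraicGeometry MonoidalCategory

namespace Groth.Agent.KFlat

namespace Module

variable {R S : Type u} [CommRing R] [CommRing S] (φ : R →+* S)

/-- Extension of scalars, over `R`. -/
noncomputable def extResIso :
    ModuleCat.extendScalars φ ⋙ ModuleCat.restrictScalars φ ≅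
      (TM R).obj ((ModuleCat.restrictScalars φ).obj (ModuleCat.of S S)) :=
  NatIso.ofComponents
    (fun M =>
      letI := φ.toAlgebra
      LinearEquiv.toModuleIso
        (show (ModuleCat.restrictScalars φ).obj ((ModuleCat.extendScalars φ).obj M) ≃ₗ[R]
          ((((TM R).obj ((ModuleCat.restrictScalars φ).obj (ModuleCat.of S S))).obj M) : ModuleCat.{u} R) from
          { AddEquiv.refl _ with
            map_smul' := fun r z => by
              induction z using TensorProduct.induction_on with
              | zero =>
                exact (smul_zero (A := (ModuleCat.extendScalars φ).obj M) (φ r)).trans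
                  (smul_zero (A := (((TM R).obj ((ModuleCat.restrictScalars φ).obj (ModuleCat.of S S))).obj M :
                    ModuleCat.{u} R)) r).symm
              | tmul s m => rfl
              | add a b ha hb =>
                exact ((smul_add (A := (ModuleCat.extendScalars φ).obj M) (φ r) a b).trans
                  (congrArg₂ (· + ·) ha hb)).trans
                  (smul_add (A := (((TM R).obj ((ModuleCat.restrictScalars φ).obj (ModuleCat.of S S))).obj M :
                    ModuleCat.{u} R)) r a b).symm }))
    fun {M N} g => ModuleCat.hom_ext (LinearMap.ext fun z => by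
      induction z using TensorProduct.induction_on with
      | zero => exact (map_zero _).trans (map_zero _).symm
      | tmul s m => rfl
      | add a b ha hb => exact ((map_add _ _ _).trans (congrArg₂ (· + ·) ha hb)).trans (map_add _ _ _).symm)

theorem acyclic_extendScalars {L : DRing.Cx R} (hL : L.Acyclic) (hk : IsKFlat (TM R) L) :
    (((ModuleCat.extendScalars φ).mapHomologicalComplex (ComplexShape.up ℤ)).obj L).Acyclic := fun k => by
  rw [HomologicalComplex.exactAt_iff' _ (k - 1) k (k + 1) (by simp) (by simp)]
  exact (((L.sc' (k - 1) k (k + 1)).map (ModuleCat.extendScalars φ)).exact_map_iff_of_faithful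
    (ModuleCat.restrictScalars φ)).1
      ((ShortComplex.exact_iff_of_iso ((L.sc' (k - 1) k (k + 1)).mapNatIso (extResIso φ))).2
        (exact_sc_map cover isFlat_cover hL hk _ k))

theorem isKFlat_tcx {K L : CochainComplex (ModuleCat.{u} R) ℤ} (hK : IsKFlat (TM R) K)
    (hL : IsKFlat (TM R) L) : IsKFlat (TM R) (((tcx (TM R)).obj K).obj L) := fun M hM =>
  acyclic_of_iso (hL _ (hK M hM))
    (α_ (M : DRing.Cx R) (K : DRing.Cx R) (L : DRing.Cx R))

end Module

namespace Sch

variable {X Y : Scheme.{u}} (f : Y ⟶ X)

theorem acyclic_pullback {L : CochainComplex X.Modules ℤ} (hL : L.Acyclic) (hk : IsKFlat (TX X) L) :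
    (((Scheme.Modules.pullback f).mapHomologicalComplex (ComplexShape.up ℤ)).obj L).Acyclic :=
  (acyclic_iff_stF _).2 fun y =>
    acyclic_of_iso (Module.acyclic_extendScalars (f.stalkMap y).hom ((acyclic_iff_stF L).1 hL (f y))
      (isKFlat_stF hk (f y)))
      ((NatIso.mapHomologicalComplex (pullStalkNatIso f y) (ComplexShape.up ℤ)).symm.app L)

theorem quasiIso_pullback_map_kflat {K K' : CochainComplex X.Modules ℤ} (φ : K ⟶ K') [QuasiIso φ]
    (hK : IsKFlat (TX X) K) (hK' : IsKFlat (TX X) K') :
    QuasiIso (((Scheme.Modules.pullback f).mapHomologicalComplex (ComplexShape.up ℤ)).map φ) :=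
  (splitPres_map (Scheme.Modules.pullback f)).quasiIso_map_of_acyclic φ
    (acyclic_pullback f (acyclic_cylCoker φ) (IsKFlat.cylCoker φ hK hK'))

theorem isKFlat_tcx {K L : CochainComplex X.Modules ℤ} (hK : IsKFlat (TX X) K) (hL : IsKFlat (TX X) L) :
    IsKFlat (TX X) (((tcx (TX X)).obj K).obj L) :=
  isKFlat_of_stalks fun x =>
    (Module.isKFlat_tcx (isKFlat_stF hK x) (isKFlat_stF hL x)).of_iso (stTensorCxIso x K L).symm

end Sch

end Groth.Agent.KFlat
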