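import Groth.Agent.Lib.KFlat.Derived
import Mathlib.CategoryTheory.Functor.Derived.Adjunction
import Mathlib.CategoryTheory.Localization.Prod
import Mathlib.CategoryTheory.Adjunction.Unique

/-!
Derived functors detected on adapted objects; pairs.
-/

set_option autoImplicit false
set_option linter.unusedSectionVars false
set_option linter.unusedVariables false

universe v₁ v₂ v₃ u₁ u₂ u₃

open CategoryTheory

namespace Groth.Agent.KFlat

instance prod_hasTwoOutOfThreeProperty {C : Type u₁} [Category.{v₁} C] {D : Type u₂} [Category.{v₂} D]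
    (W₁ : MorphismProperty C) (W₂ : MorphismProperty D) [W₁.HasTwoOutOfThreeProperty]
    [W₂.HasTwoOutOfThreeProperty] : (W₁.prod W₂).HasTwoOutOfThreeProperty where
  comp_mem f g hf hg := ⟨W₁.comp_mem _ _ hf.1 hg.1, W₂.comp_mem _ _ hf.2 hg.2⟩
  of_postcomp f g hg hfg := ⟨W₁.of_postcomp _ _ hg.1 hfg.1, W₂.of_postcomp _ _ hg.2 hfg.2⟩
  of_precomp f g hf hfg := ⟨W₁.of_precomp _ _ hf.1 hfg.1, W₂.of_precomp _ _ hf.2 hfg.2⟩

variable {C : Type u₁} [Category.{v₁} C] {D : Type u₂} [Category.{v₂} D] {H : Type u₃}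
  [Category.{v₃} H] {W : MorphismProperty C} [W.HasTwoOutOfThreeProperty]
  (ρ : C ⥤ C) (ψ : ρ ⟶ 𝟭 C) (hψ : ∀ K, W (ψ.app K))
  (F : C ⥤ H) (P : C → Prop) (hρ : ∀ K, P (ρ.obj K))
  (hF : ∀ {K K' : C} (f : K ⟶ K'), W f → P K → P K' → IsIso (F.map f))
  (L : C ⥤ D) [L.IsLocalization W]

include hψ hρ hF

/-- A natural transformation which is an isomorphism on adapted objects exhibits a left derived functor. -/
theorem isLeftDerivedFunctor_of_isIso (LF : D ⥤ H) (α : L ⋙ LF ⟶ F)
    (hα : ∀ K, P K → IsIso (α.app K)) : LF.IsLeftDerivedFunctor α W := by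
  obtain ⟨LF', α', h, hiso⟩ := exists_isRightKanExtension ρ ψ hψ F P hρ hF L
  have : LF'.IsLeftDerivedFunctor α' W := ⟨h⟩
  rw [Functor.isLeftDerivedFunctor_iff_isIso_leftDerivedLift LF' α' W]
  have key : ∀ X : D, IsIso ((LF'.leftDerivedLift α' W LF α).app X) := fun X => by
    have := Localization.essSurj L W
    have hi : IsIso (L.map (ψ.app (L.objPreimage X))) := Localization.inverts L W _ (hψ _)
    rw [← NatTrans.isIso_app_iff_of_iso (LF'.leftDerivedLift α' W LF α)
      (asIso (L.map (ψ.app (L.objPreimage X))) ≪≫ L.objObjPreimageIso X)]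
    have := hiso _ (hρ (L.objPreimage X))
    have := hα _ (hρ (L.objPreimage X))
    have hfac := Functor.leftDerived_fac_app LF' α' W LF α (ρ.obj (L.objPreimage X))
    have : IsIso ((LF'.leftDerivedLift α' W LF α).app (L.obj (ρ.obj (L.objPreimage X))) ≫
        α'.app (ρ.obj (L.objPreimage X))) := by rw [hfac]; infer_instance
    exact IsIso.of_isIso_comp_right _ (α'.app (ρ.obj (L.objPreimage X)))
  exact NatIso.isIso_of_isIso_app _

omit hψ hρ hF [W.HasTwoOutOfThreeProperty] in
/-- A functor through which another one factors is its right derived functor. -/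
theorem isRightDerivedFunctor_of_iso (RF : D ⥤ H) (β : F ⟶ L ⋙ RF) [IsIso β] :
    RF.IsRightDerivedFunctor β W := by
  refine ⟨⟨⟨Limits.IsInitial.ofUniqueHom (X := Functor.LeftExtension.mk RF β) (fun Y => StructuredArrow.homMk
    (Localization.liftNatTrans L W (L ⋙ RF) (L ⋙ Y.right) RF Y.right (inv β ≫ Y.hom)) ?_) fun Y m => ?_⟩⟩⟩
  · ext K
    change β.app K ≫ (Localization.liftNatTrans L W (L ⋙ RF) (L ⋙ Y.right) RF Y.right
      (inv β ≫ Y.hom)).app (L.obj K) = Y.hom.app K
    rw [Localization.liftNatTrans_app]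
    simp [Localization.Lifting.iso]
  · apply StructuredArrow.hom_ext
    refine Localization.natTrans_ext L W fun K => ?_
    change m.right.app (L.obj K) = (Localization.liftNatTrans L W (L ⋙ RF) (L ⋙ Y.right) RF Y.right
      (inv β ≫ Y.hom)).app (L.obj K)
    rw [Localization.liftNatTrans_app]
    have h : β.app K ≫ m.right.app (L.obj K) = Y.hom.app K :=
      congrArg (fun t => t.app K) (StructuredArrow.w m)
    simp [Localization.Lifting.iso, ← h]

end Groth.Agent.KFlat
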