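import Groth.Agent.Lib.KFlat.SplitPres
import Mathlib.Algebra.Homology.Bifunctor
import Mathlib.Algebra.Homology.BifunctorHomotopy
import Mathlib.Algebra.Homology.BifunctorFlip
import Mathlib.Algebra.Homology.HomologicalComplexLimits
import Mathlib.CategoryTheory.Limits.Preserves.Basic

/-!
Total tensor products of complexes for a biadditive bifunctor: additivity, homotopies, degreewise split
sequences, colimits, flip.
-/

set_option autoImplicit false
set_option linter.unusedSectionVars false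

universe v u w w'

open CategoryTheory CategoryTheory.Limits

namespace Groth.Agent.KFlat

variable {C : Type u} [Category.{v} C] [Abelian C] [HasColimitsOfSize.{0, 0} C]
  (T : C ⥤ C ⥤ C) [T.Additive] [∀ X, (T.obj X).Additive]

instance flip_additive : T.flip.Additive := { }

instance flip_obj_additive (X : C) : (T.flip.obj X).Additive := { }

/-- The total tensor product bifunctor. -/
noncomputable abbrev tcx : CochainComplex C ℤ ⥤ CochainComplex C ℤ ⥤ CochainComplex C ℤ :=
  T.map₂CochainComplex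

/-- The summand inclusion. -/
noncomputable abbrev ιt (L E : CochainComplex C ℤ) (p q n : ℤ) (h : p + q = n) :
    (T.obj (L.X p)).obj (E.X q) ⟶ (((tcx T).obj L).obj E).X n :=
  HomologicalComplex.ιMapBifunctor L E T (ComplexShape.up ℤ) p q n h

theorem tcx_hom_ext {L E : CochainComplex C ℤ} {n : ℤ} {Y : C}
    {f g : (((tcx T).obj L).obj E).X n ⟶ Y}
    (h : ∀ p q (hpq : p + q = n), ιt T L E p q n hpq ≫ f = ιt T L E p q n hpq ≫ g) : f = g :=
  HomologicalComplex.mapBifunctor.hom_ext h

theorem ι_tcx_map₂ (L : CochainComplex C ℤ) {E E' : CochainComplex C ℤ} (f : E ⟶ E') (p q n : ℤ)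
    (h : p + q = n) :
    ιt T L E p q n h ≫ (((tcx T).obj L).map f).f n =
      (T.obj (L.X p)).map (f.f q) ≫ ιt T L E' p q n h := by
  refine (HomologicalComplex.ι_mapBifunctorMap (𝟙 L) f T (ComplexShape.up ℤ) p q n h).trans ?_
  simp
  rfl

theorem ι_tcx_map₁ {L L' : CochainComplex C ℤ} (f : L ⟶ L') (E : CochainComplex C ℤ) (p q n : ℤ)
    (h : p + q = n) :
    ιt T L E p q n h ≫ (((tcx T).map f).app E).f n =
      (T.map (f.f p)).app (E.X q) ≫ ιt T L' E p q n h := by
  refine (HomologicalComplex.ι_mapBifunctorMap f (𝟙 E) T (ComplexShape.up ℤ) p q n h).trans ?_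
  simp
  rfl

@[reassoc]
theorem ι_desc (L E : CochainComplex C ℤ) {n : ℤ} {Y : C}
    (f : ∀ p q : ℤ, p + q = n → ((T.obj (L.X p)).obj (E.X q) ⟶ Y)) (p q : ℤ) (h : p + q = n) :
    ιt T L E p q n h ≫ HomologicalComplex.mapBifunctorDesc (K₁ := L) (K₂ := E) (F := T)
      (c := ComplexShape.up ℤ) (j := n) f = f p q h :=
  HomologicalComplex.ι_mapBifunctorDesc (K₁ := L) (K₂ := E) (F := T) (c := ComplexShape.up ℤ) f p q h

/-- The map in degree `n` induced by a graded map of the second argument. -/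
noncomputable def degMap₂ (L : CochainComplex C ℤ) {E E' : CochainComplex C ℤ}
    (g : ∀ q, E.X q ⟶ E'.X q) (n : ℤ) :
    (((tcx T).obj L).obj E).X n ⟶ (((tcx T).obj L).obj E').X n :=
  HomologicalComplex.mapBifunctorDesc fun p q h => (T.obj (L.X p)).map (g q) ≫ ιt T L E' p q n h

/-- The map in degree `n` induced by a graded map of the first argument. -/
noncomputable def degMap₁ {L L' : CochainComplex C ℤ} (g : ∀ p, L.X p ⟶ L'.X p)
    (E : CochainComplex C ℤ) (n : ℤ) :
    (((tcx T).obj L).obj E).X n ⟶ (((tcx T).obj L').obj E).X n :=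
  HomologicalComplex.mapBifunctorDesc fun p q h => (T.map (g p)).app (E.X q) ≫ ιt T L' E p q n h

section

variable (L : CochainComplex C ℤ) {E E' E'' : CochainComplex C ℤ}

@[reassoc]
theorem ι_degMap₂ (g : ∀ q, E.X q ⟶ E'.X q) (p q n : ℤ) (h : p + q = n) :
    ιt T L E p q n h ≫ degMap₂ T L g n = (T.obj (L.X p)).map (g q) ≫ ιt T L E' p q n h :=
  ι_desc T L E _ p q h

theorem map₂_f_eq (f : E ⟶ E') (n : ℤ) : (((tcx T).obj L).map f).f n = degMap₂ T L f.f n :=
  tcx_hom_ext T fun p q h => by rw [ι_tcx_map₂, ι_degMap₂]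

theorem degMap₂_comp (g : ∀ q, E.X q ⟶ E'.X q) (g' : ∀ q, E'.X q ⟶ E''.X q) (n : ℤ) :
    degMap₂ T L g n ≫ degMap₂ T L g' n = degMap₂ T L (fun q => g q ≫ g' q) n :=
  tcx_hom_ext T fun p q h => by
    rw [ι_degMap₂_assoc, ι_degMap₂, ι_degMap₂, ← Functor.map_comp_assoc]

theorem degMap₂_id (E : CochainComplex C ℤ) (n : ℤ) :
    degMap₂ T L (fun q => 𝟙 (E.X q)) n = 𝟙 _ :=
  tcx_hom_ext T fun p q h => by
    rw [ι_degMap₂, CategoryTheory.Functor.map_id, Category.id_comp, Category.comp_id]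

theorem degMap₂_add (g g' : ∀ q, E.X q ⟶ E'.X q) (n : ℤ) :
    degMap₂ T L g n + degMap₂ T L g' n = degMap₂ T L (fun q => g q + g' q) n :=
  tcx_hom_ext T fun p q h => by
    rw [Preadditive.comp_add, ι_degMap₂, ι_degMap₂, ι_degMap₂, Functor.map_add, Preadditive.add_comp]

theorem degMap₂_congr {g g' : ∀ q, E.X q ⟶ E'.X q} (hg : ∀ q, g q = g' q) (n : ℤ) :
    degMap₂ T L g n = degMap₂ T L g' n := by
  rw [funext hg]

end

section

variable {L L' L'' : CochainComplex C ℤ} (E : CochainComplex C ℤ)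

@[reassoc]
theorem ι_degMap₁ (g : ∀ p, L.X p ⟶ L'.X p) (p q n : ℤ) (h : p + q = n) :
    ιt T L E p q n h ≫ degMap₁ T g E n = (T.map (g p)).app (E.X q) ≫ ιt T L' E p q n h :=
  ι_desc T L E _ p q h

theorem map₁_f_eq (f : L ⟶ L') (n : ℤ) : (((tcx T).map f).app E).f n = degMap₁ T f.f E n :=
  tcx_hom_ext T fun p q h => by rw [ι_tcx_map₁, ι_degMap₁]

theorem degMap₁_comp (g : ∀ p, L.X p ⟶ L'.X p) (g' : ∀ p, L'.X p ⟶ L''.X p) (n : ℤ) :
    degMap₁ T g E n ≫ degMap₁ T g' E n = degMap₁ T (fun p => g p ≫ g' p) E n :=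
  tcx_hom_ext T fun p q h => by
    rw [ι_degMap₁_assoc, ι_degMap₁, ι_degMap₁, ← NatTrans.comp_app_assoc, ← Functor.map_comp]

theorem degMap₁_id (L : CochainComplex C ℤ) (n : ℤ) :
    degMap₁ T (fun p => 𝟙 (L.X p)) E n = 𝟙 _ :=
  tcx_hom_ext T fun p q h => by
    rw [ι_degMap₁, CategoryTheory.Functor.map_id, NatTrans.id_app, Category.id_comp, Category.comp_id]

theorem degMap₁_add (g g' : ∀ p, L.X p ⟶ L'.X p) (n : ℤ) :
    degMap₁ T g E n + degMap₁ T g' E n = degMap₁ T (fun p => g p + g' p) E n :=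
  tcx_hom_ext T fun p q h => by
    rw [Preadditive.comp_add, ι_degMap₁, ι_degMap₁, ι_degMap₁, Functor.map_add, NatTrans.app_add,
      Preadditive.add_comp]

end

omit [HasColimitsOfSize.{0, 0} C] in
/-- Retraction, section and their identities for a degreewise split short complex. -/
theorem exists_split_data {S : ShortComplex (CochainComplex C ℤ)}
    (hS : ∀ i : ℤ, Nonempty ((S.map (HomologicalComplex.eval C (ComplexShape.up ℤ) i)).Splitting)) (i : ℤ) :
    ∃ (r : S.X₂.X i ⟶ S.X₁.X i) (σ : S.X₃.X i ⟶ S.X₂.X i), S.f.f i ≫ r = 𝟙 _ ∧ σ ≫ S.g.f i = 𝟙 _ ∧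
      r ≫ S.f.f i + S.g.f i ≫ σ = 𝟙 _ :=
  ⟨(hS i).some.r, (hS i).some.s, (hS i).some.f_r, (hS i).some.s_g, (hS i).some.id⟩

instance additive_tcx_obj (L : CochainComplex C ℤ) : ((tcx T).obj L).Additive where
  map_add {E E' f g} := by
    ext n : 1
    refine tcx_hom_ext T fun p q h => ?_
    rw [HomologicalComplex.add_f_apply, Preadditive.comp_add, ι_tcx_map₂, ι_tcx_map₂, ι_tcx_map₂,
      HomologicalComplex.add_f_apply, Functor.map_add, Preadditive.add_comp]

instance additive_tcx_flip_obj (E : CochainComplex C ℤ) : ((tcx T).flip.obj E).Additive where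
  map_add {L L' f g} := by
    ext n : 1
    refine tcx_hom_ext T fun p q h => ?_
    change _ ≫ (((tcx T).map (f + g)).app E).f n = _ ≫ ((((tcx T).map f).app E).f n + (((tcx T).map g).app E).f n)
    rw [Preadditive.comp_add, ι_tcx_map₁, ι_tcx_map₁, ι_tcx_map₁,
      HomologicalComplex.add_f_apply, Functor.map_add, NatTrans.app_add, Preadditive.add_comp]

theorem splitPres_left (L : CochainComplex C ℤ) : SplitPres ((tcx T).obj L) where
  homotopy {E E' f g} h :=
    ⟨HomologicalComplex.mapBifunctorMapHomotopy₂ (𝟙 L) h T (ComplexShape.up ℤ)⟩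
  shortExact S hS := by
    refine HomologicalComplex.shortExact_of_degreewise_shortExact _ fun n => ?_
    choose r σ hr hσ hid using exists_split_data hS
    refine ShortComplex.Splitting.shortExact (S := ((S.map ((tcx T).obj L)).map
      (HomologicalComplex.eval C (ComplexShape.up ℤ) n)))
      { r := degMap₂ T L r n
        s := degMap₂ T L σ n
        f_r := ?_, s_g := ?_, id := ?_ }
    · change (((tcx T).obj L).map S.f).f n ≫ degMap₂ T L r n = 𝟙 _
      rw [map₂_f_eq, degMap₂_comp, funext hr, degMap₂_id]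
    · change degMap₂ T L σ n ≫ (((tcx T).obj L).map S.g).f n = 𝟙 _
      rw [map₂_f_eq, degMap₂_comp, funext hσ, degMap₂_id]
    · change degMap₂ T L r n ≫ (((tcx T).obj L).map S.f).f n +
        (((tcx T).obj L).map S.g).f n ≫ degMap₂ T L σ n = 𝟙 _
      rw [map₂_f_eq, map₂_f_eq, degMap₂_comp, degMap₂_comp, degMap₂_add, funext hid, degMap₂_id]

theorem splitPres_right (E : CochainComplex C ℤ) : SplitPres ((tcx T).flip.obj E) where
  homotopy {L L' f g} h :=
    ⟨HomologicalComplex.mapBifunctorMapHomotopy₁ h (𝟙 E) T (ComplexShape.up ℤ)⟩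
  shortExact S hS := by
    refine HomologicalComplex.shortExact_of_degreewise_shortExact _ fun n => ?_
    choose r σ hr hσ hid using exists_split_data hS
    refine ShortComplex.Splitting.shortExact (S := ((S.map ((tcx T).flip.obj E)).map
      (HomologicalComplex.eval C (ComplexShape.up ℤ) n)))
      { r := degMap₁ T r E n
        s := degMap₁ T σ E n
        f_r := ?_, s_g := ?_, id := ?_ }
    · change (((tcx T).map S.f).app E).f n ≫ degMap₁ T r E n = 𝟙 _
      rw [map₁_f_eq, degMap₁_comp, funext hr, degMap₁_id]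
    · change degMap₁ T σ E n ≫ (((tcx T).map S.g).app E).f n = 𝟙 _
      rw [map₁_f_eq, degMap₁_comp, funext hσ, degMap₁_id]
    · change degMap₁ T r E n ≫ (((tcx T).map S.f).app E).f n +
        (((tcx T).map S.g).app E).f n ≫ degMap₁ T σ E n = 𝟙 _
      rw [map₁_f_eq, map₁_f_eq, degMap₁_comp, degMap₁_comp, degMap₁_add, funext hid, degMap₁_id]

section Colimit

variable {J : Type w} [Category.{w'} J] [HasColimitsOfShape J C]
  [∀ X, PreservesColimitsOfShape J (T.obj X)] [∀ X, PreservesColimitsOfShape J (T.flip.obj X)]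

theorem preservesColimitsOfShape_left (L : CochainComplex C ℤ) :
    PreservesColimitsOfShape J ((tcx T).obj L) := by
  refine ⟨fun {F} => ⟨fun {c} hc => ⟨HomologicalComplex.isColimitOfEval _ _ fun n => ?_⟩⟩⟩
  let cq := fun p q => isColimitOfPreserves
    (HomologicalComplex.eval C (ComplexShape.up ℤ) q ⋙ T.obj (L.X p)) hc
  refine
    { desc := fun s => HomologicalComplex.mapBifunctorDesc fun p q h => (cq p q).desc
        { pt := s.pt
          ι :=
            { app := fun j => ιt T L (F.obj j) p q n h ≫ s.ι.app j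
              naturality := fun j k f => ?_ } }
      fac := fun s j => ?_
      uniq := fun s m hm => ?_ }
  · dsimp
    rw [Category.comp_id, ← s.w f]
    exact (reassoc_of% (ι_tcx_map₂ T L (F.map f) p q n h)) (s.ι.app k) |>.symm
  · refine tcx_hom_ext T fun p q h => ?_
    change ιt T L (F.obj j) p q n h ≫ (((tcx T).obj L).map (c.ι.app j)).f n ≫ _ = _
    refine (reassoc_of% (ι_tcx_map₂ T L (c.ι.app j) p q n h)) _ |>.trans ?_
    refine (congrArg (_ ≫ ·) (ι_desc T L c.pt _ p q h)).trans ?_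
    exact (cq p q).fac _ j
  · refine tcx_hom_ext T fun p q h => (cq p q).hom_ext fun j => ?_
    refine Eq.trans ?_ (congrArg (_ ≫ ·) (ι_desc T L c.pt _ p q h)).symm
    refine Eq.trans ?_ (IsColimit.fac (cq p q) { pt := s.pt, ι := _ } j).symm
    refine Eq.trans ?_ (congrArg (ιt T L (F.obj j) p q n h ≫ ·) (hm j))
    exact ((reassoc_of% (ι_tcx_map₂ T L (c.ι.app j) p q n h)) m).symm

theorem preservesColimitsOfShape_right (E : CochainComplex C ℤ) :
    PreservesColimitsOfShape J ((tcx T).flip.obj E) := by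
  refine ⟨fun {F} => ⟨fun {c} hc => ⟨HomologicalComplex.isColimitOfEval _ _ fun n => ?_⟩⟩⟩
  let cq := fun p q => isColimitOfPreserves
    (HomologicalComplex.eval C (ComplexShape.up ℤ) p ⋙ T.flip.obj (E.X q)) hc
  refine
    { desc := fun s => HomologicalComplex.mapBifunctorDesc fun p q h => (cq p q).desc
        { pt := s.pt
          ι :=
            { app := fun j => ιt T (F.obj j) E p q n h ≫ s.ι.app j
              naturality := fun j k f => ?_ } }
      fac := fun s j => ?_
      uniq := fun s m hm => ?_ }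
  · dsimp
    rw [Category.comp_id, ← s.w f]
    exact (reassoc_of% (ι_tcx_map₁ T (F.map f) E p q n h)) (s.ι.app k) |>.symm
  · refine tcx_hom_ext T fun p q h => ?_
    change ιt T (F.obj j) E p q n h ≫ (((tcx T).map (c.ι.app j)).app E).f n ≫ _ = _
    refine (reassoc_of% (ι_tcx_map₁ T (c.ι.app j) E p q n h)) _ |>.trans ?_
    refine (congrArg (_ ≫ ·) (ι_desc T c.pt E _ p q h)).trans ?_
    exact (cq p q).fac _ j
  · refine tcx_hom_ext T fun p q h => (cq p q).hom_ext fun j => ?_
    refine Eq.trans ?_ (congrArg (_ ≫ ·) (ι_desc T c.pt E _ p q h)).symm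
    refine Eq.trans ?_ (IsColimit.fac (cq p q) { pt := s.pt, ι := _ } j).symm
    refine Eq.trans ?_ (congrArg (ιt T (F.obj j) E p q n h ≫ ·) (hm j))
    exact ((reassoc_of% (ι_tcx_map₁ T (c.ι.app j) E p q n h)) m).symm

end Colimit

/-- `L ⊗_{Tᵒᵖ} E ≅ E ⊗_T L`. -/
noncomputable def flipIso (L E : CochainComplex C ℤ) :
    ((tcx T.flip).obj L).obj E ≅ ((tcx T).obj E).obj L :=
  HomologicalComplex.mapBifunctorFlipIso E L T (ComplexShape.up ℤ)

end Groth.Agent.KFlat
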