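import Groth.Agent.Lib.KFlat.DTen
import Groth.Agent.Lib.DMod.Basic
import Mathlib.Algebra.Category.ModuleCat.Products
import Mathlib.Algebra.Homology.HomotopyCategory.ShortExact
import Mathlib.CategoryTheory.Triangulated.Orthogonal

/-!
Every complex of modules has a K-projective resolution.
-/

set_option autoImplicit false
set_option linter.unusedSectionVars false
set_option backward.isDefEq.respectTransparency false

universe u

open CategoryTheory CategoryTheory.Limits CochainComplex.HomComplex

namespace Groth.Agent.KFlat.KP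

open Groth.Agent.KFlat.Module

variable {R : Type u} [CommRing R]

theorem projective_coverF (X : ModuleCat.{u} R) : Projective ((cover (R := R)).F.obj X) :=
  @Retract.projective _ _ _ _
    { i := redSection (forget (ModuleCat.{u} R) ⋙ ModuleCat.free R) X
      r := cokernel.π _
      retract := redSection_π _ X }
    (ModuleCat.projective_of_free (R := R) (M := (forget (ModuleCat.{u} R) ⋙ ModuleCat.free R).obj X)
      Finsupp.basisSingleOne)

theorem projective_cylCoker_X {P Q : DRing.Cx R} (f : P ⟶ Q) (hP : ∀ i, Projective (P.X i))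
    (hQ : ∀ i, Projective (Q.X i)) (i : ℤ) : Projective ((cylCoker f).X i) := by
  have : ∀ j, Projective (P.X j) := hP
  have : ∀ j, Projective (Q.X j) := hQ
  have hc : Projective ((CochainComplex.mappingCone (𝟙 P)).X i) :=
    @Retract.projective _ _ _ _
      { i := biprod.lift ((CochainComplex.mappingCone.fst (𝟙 P)).1.v i (i + 1) rfl)
          ((CochainComplex.mappingCone.snd (𝟙 P)).v i i (add_zero i))
        r := biprod.desc ((CochainComplex.mappingCone.inl (𝟙 P)).v (i + 1) i (by omega))
          ((CochainComplex.mappingCone.inr (𝟙 P)).f i)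
        retract := by rw [biprod.lift_desc]; exact CochainComplex.mappingCone.id_X _ i (i + 1) rfl }
      (inferInstanceAs (Projective (P.X (i + 1) ⊞ P.X i)))
  have hb : Projective ((Q ⊞ CochainComplex.mappingCone (𝟙 P)).X i) :=
    Projective.of_iso (HomologicalComplex.biprodXIso Q (CochainComplex.mappingCone (𝟙 P)) i).symm
      inferInstance
  obtain ⟨s⟩ := cylSC_splitting f i
  exact @Retract.projective _ _ _ _ { i := s.s, r := _, retract := s.s_g } hb

theorem projective_stage_X : ∀ (k : ℕ) (G : DRing.Cx R) (i : ℤ),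
    Projective (((stage (cover (R := R)) k).obj G).X i)
  | 0, G, i => projective_coverF (G.X i)
  | k + 1, G, i => projective_cylCoker_X _ (projective_stage_X k _) (fun j => projective_coverF (G.X j)) i

theorem isKProjective_resTerm (G : DRing.Cx R) (n : ℕ) : (resTerm cover G n).IsKProjective := by
  have := stage_isStrictlyLE (cover (R := R)) (2 * n) (G.truncLE (n : ℤ)) (n : ℤ)
  have : ∀ i, Projective ((resTerm cover G n).X i) := projective_stage_X _ _
  exact CochainComplex.isKProjective_of_projective _ (n : ℤ)

/-- A coproduct of K-projective complexes is K-projective. -/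
theorem isKProjective_sigma (P : ℕ → DRing.Cx R) (hP : ∀ n, (P n).IsKProjective) :
    (∐ P).IsKProjective where
  nonempty_homotopy_zero {L} f hL := by
    have hh : ∀ n, ∃ z : Cochain (P n) L (-1),
        Cochain.ofHom (Sigma.ι P n ≫ f) = δ (-1) 0 z + Cochain.ofHom 0 := fun n => by
      obtain ⟨h⟩ := (hP n).nonempty_homotopy_zero (Sigma.ι P n ≫ f) hL
      exact ⟨(Cochain.equivHomotopy _ _ h).1, (Cochain.equivHomotopy _ _ h).2⟩
    choose γ hγ using hh
    have hc : ∀ p : ℤ, IsColimit (Cofan.mk ((∐ P).X p) fun n => (Sigma.ι P n).f p) := fun p =>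
      isColimitCofanMkObjOfIsColimit (HomologicalComplex.eval (ModuleCat.{u} R) (ComplexShape.up ℤ) p)
        _ _ (coproductIsCoproduct P)
    let Γ : Cochain (∐ P) L (-1) := Cochain.mk fun p q hpq =>
      Cofan.IsColimit.desc (hc p) fun n => (γ n).v p q hpq
    have hΓ : ∀ (n : ℕ) (p q : ℤ) (hpq : p + (-1) = q),
        (Sigma.ι P n).f p ≫ Γ.v p q hpq = (γ n).v p q hpq := fun n p q hpq =>
      Cofan.IsColimit.fac (hc p) _ n
    refine ⟨(Cochain.equivHomotopy _ _).symm ⟨Γ, Cochain.ext _ _ fun p q hpq => ?_⟩⟩
    obtain rfl : p = q := by omega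
    refine Cofan.IsColimit.hom_ext (hc p) _ _ fun n => ?_
    have h := Cochain.congr_v (hγ n) p p (add_zero p)
    simp only [Cochain.add_v, Cochain.ofHom_v, HomologicalComplex.zero_f, add_zero,
      δ_v (-1) 0 (neg_add_cancel 1) _ p p (add_zero p) (p - 1) (p + 1) rfl rfl,
      HomologicalComplex.comp_f] at h ⊢
    change (Sigma.ι P n).f p ≫ f.f p = (Sigma.ι P n).f p ≫ _
    rw [Preadditive.comp_add, Linear.comp_units_smul, reassoc_of% hΓ,
      HomologicalComplex.Hom.comm_assoc, hΓ]
    exact h

/-- The cone of a morphism of K-projective complexes is K-projective. -/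
theorem isKProjective_cone {K L : DRing.Cx R} (f : K ⟶ L) [hK : K.IsKProjective] [hL : L.IsKProjective] :
    (CochainComplex.mappingCone f).IsKProjective := by
  rw [CochainComplex.isKProjective_iff_leftOrthogonal] at hK hL ⊢
  exact (HomotopyCategory.subcategoryAcyclic _).leftOrthogonal.ext_of_isTriangulatedClosed₃ _
    (HomotopyCategory.mappingCone_triangleh_distinguished f) hK hL

/-! ### The telescope -/

variable (F : ℕ ⥤ DRing.Cx R)

/-- The shift of the telescope. -/
noncomputable def shiftMap : (∐ F.obj) ⟶ ∐ F.obj :=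
  Sigma.desc fun n => F.map (homOfLE (Nat.le_succ n)) ≫ Sigma.ι F.obj (n + 1)

/-- The difference of the identity and the shift. -/
noncomputable def diffMap : (∐ F.obj) ⟶ ∐ F.obj := 𝟙 _ - shiftMap F

@[reassoc]
theorem ι_diffMap (n : ℕ) : Sigma.ι F.obj n ≫ diffMap F =
    Sigma.ι F.obj n - F.map (homOfLE (Nat.le_succ n)) ≫ Sigma.ι F.obj (n + 1) := by
  rw [diffMap, Preadditive.comp_sub, Category.comp_id, shiftMap, Sigma.ι_desc]

/-- The map to the colimit. -/
noncomputable def toColim : (∐ F.obj) ⟶ colimit F := Sigma.desc fun n => colimit.ι F n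

theorem diffMap_toColim : diffMap F ≫ toColim F = 0 := Sigma.hom_ext _ _ fun n => by
  rw [ι_diffMap_assoc, Preadditive.sub_comp, Category.assoc, toColim, Sigma.ι_desc, Sigma.ι_desc,
    colimit.w, sub_self, comp_zero]

instance epi_toColim : Epi (toColim F) where
  left_cancellation g h hgh := colimit.hom_ext fun n => by
    have := congrArg (Sigma.ι F.obj n ≫ ·) hgh
    simpa only [toColim, Sigma.ι_desc_assoc] using this

/-- The colimit is the cokernel. -/
noncomputable def isColimitToColim :
    IsColimit (CokernelCofork.ofπ (toColim F) (diffMap_toColim F)) :=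
  CokernelCofork.IsColimit.ofπ' _ _ fun {Z} k hk =>
    have hw : ∀ n, F.map (homOfLE (Nat.le_succ n)) ≫ Sigma.ι F.obj (n + 1) ≫ k = Sigma.ι F.obj n ≫ k :=
      fun n => by
        have := congrArg (Sigma.ι F.obj n ≫ ·) hk
        simp only [ι_diffMap_assoc, comp_zero, Preadditive.sub_comp, Category.assoc, sub_eq_zero] at this
        exact this.symm
    ⟨colimit.desc F ⟨Z, NatTrans.ofSequence (fun n => Sigma.ι F.obj n ≫ k)
        fun n => (hw n).trans (Category.comp_id _).symm⟩,
      Sigma.hom_ext _ _ fun n => by rw [toColim, Sigma.ι_desc_assoc, colimit.ι_desc]; rfl⟩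

theorem sigma_ext {Z : ℕ → ModuleCat.{u} R} (x : (∐ Z : ModuleCat.{u} R))
    (h : ∀ (n : ℕ) (π : (∐ Z : ModuleCat.{u} R) ⟶ Z n),
      (∀ m, m ≠ n → Sigma.ι Z m ≫ π = 0) → Sigma.ι Z n ≫ π = 𝟙 _ → π x = 0) : x = 0 := by
  classical
  have hx : (ModuleCat.coprodIsoDirectSum Z).hom x = 0 := by
    refine DFinsupp.ext fun n => h n
      ((ModuleCat.coprodIsoDirectSum Z).hom ≫ ModuleCat.ofHom (DirectSum.component R ℕ (fun i => Z i) n))
      (fun m hm => ?_) ?_
    · rw [← Category.assoc, ModuleCat.ι_coprodIsoDirectSum_hom]
      ext y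
      exact DFinsupp.single_eq_of_ne hm.symm
    · rw [← Category.assoc, ModuleCat.ι_coprodIsoDirectSum_hom]
      ext y
      exact DFinsupp.single_eq_same
  exact (ConcreteCategory.injective_of_mono_of_preservesPullback _) (hx.trans (map_zero _).symm)

/-- The projection onto a summand. -/
noncomputable def proj (n : ℕ) : (∐ F.obj) ⟶ F.obj n :=
  Sigma.desc fun m => if h : m = n then eqToHom (congrArg F.obj h) else 0

theorem diffMap_proj_zero : diffMap F ≫ proj F 0 = proj F 0 := Sigma.hom_ext _ _ fun n => by
  rw [ι_diffMap_assoc, Preadditive.sub_comp, Category.assoc]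
  simp [proj]

theorem diffMap_proj_succ (k : ℕ) :
    diffMap F ≫ proj F (k + 1) = proj F (k + 1) - proj F k ≫ F.map (homOfLE (Nat.le_succ k)) :=
  Sigma.hom_ext _ _ fun n => by
    rw [ι_diffMap_assoc, Preadditive.sub_comp, Category.assoc, Preadditive.comp_sub]
    congr 1
    by_cases h : n = k
    · subst h; simp [proj]
    · simp [proj, h]

theorem mono_diffMap : Mono (diffMap F) := by
  have : ∀ i, Mono ((diffMap F).f i) := fun i => by
    rw [ModuleCat.mono_iff_injective, injective_iff_map_eq_zero]
    intro x hx
    have hn : ∀ n, (proj F n).f i x = 0 := fun n => by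
      induction n with
      | zero =>
        rw [← diffMap_proj_zero F, HomologicalComplex.comp_f, ModuleCat.comp_apply, hx, map_zero]
      | succ k ih =>
        have := congrArg (fun g => (g.f i) x) (diffMap_proj_succ F k)
        simp only [HomologicalComplex.sub_f_apply, HomologicalComplex.comp_f, ModuleCat.comp_apply] at this
        rw [hx, map_zero] at this
        change (0 : (F.obj (k + 1)).X i) = (proj F (k + 1)).f i x -
          (F.map (homOfLE (Nat.le_succ k))).f i ((proj F k).f i x) at this
        rw [ih, map_zero, sub_zero] at this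
        exact this.symm
    let e := PreservesCoproduct.iso (HomologicalComplex.eval (ModuleCat.{u} R) (ComplexShape.up ℤ) i) F.obj
    refine ConcreteCategory.injective_of_mono_of_preservesPullback e.hom
      (Eq.trans (sigma_ext _ fun n π hπ hπ' => ?_) (map_zero _).symm)
    have : π = e.inv ≫ (proj F n).f i := Sigma.hom_ext _ _ fun m => by
      rw [PreservesCoproduct.inv_hom, ι_comp_sigmaComparison_assoc]
      change _ = (Sigma.ι F.obj m).f i ≫ _
      rw [← HomologicalComplex.comp_f, proj, Sigma.ι_desc]
      by_cases hm : m = n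
      · subst hm; rw [hπ', dif_pos rfl, eqToHom_refl]; rfl
      · rw [hπ m hm, dif_neg hm]; rfl
    rw [this, ModuleCat.comp_apply]
    refine (congrArg _ (Iso.hom_inv_id_apply e x)).trans (hn n)
  exact HomologicalComplex.mono_of_mono_f _ this

theorem exists_isKProjective (G : DRing.Cx R) :
    ∃ (P : DRing.Cx R) (q : P ⟶ G), P.IsKProjective ∧ QuasiIso q := by
  let F := resSeq (cover (R := R)) G
  let S := ShortComplex.mk (diffMap F) (toColim F) (diffMap_toColim F)
  have hS : S.ShortExact :=
    { exact := ShortComplex.exact_of_g_is_cokernel _ (isColimitToColim F)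
      mono_f := mono_diffMap F
      epi_g := Cofork.IsColimit.epi (isColimitToColim F) }
  have := CochainComplex.mappingCone.quasiIso_descShortComplex hS
  have : (∐ F.obj).IsKProjective := isKProjective_sigma _ (isKProjective_resTerm G)
  have := quasiIso_resπ (cover (R := R)) G
  exact ⟨CochainComplex.mappingCone S.f, CochainComplex.mappingCone.descShortComplex S ≫ resπ cover G,
    isKProjective_cone S.f, inferInstance⟩

end Groth.Agent.KFlat.KP
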