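import Groth.Agent.Lib.KFlat.HomAdj
import Groth.Agent.Lib.KFlat.KProj
import Groth.Prelude.Def_DTen3
import Mathlib.CategoryTheory.Localization.Adjunction
import Mathlib.Algebra.Homology.HomotopyCategory.HomComplexCohomology

/-!
Internal hom on the derived category is the Hom complex out of a K-projective representative.
-/

set_option autoImplicit false
set_option linter.unusedSectionVars false
set_option backward.isDefEq.respectTransparency false

universe u

open CategoryTheory CategoryTheory.Limits MonoidalCategory CochainComplex.HomComplex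

attribute [local instance] HasDerivedCategory.standard

namespace Groth.Agent.KFlat.HomD

open Groth.Agent.KFlat.Module Groth.Agent.KFlat.HomAdj

variable {R : Type u} [CommRing R]

/-- Every object of the derived category is the image of a K-projective complex. -/
theorem exists_rep (X : Dual.D R) :
    ∃ P : DRing.Cx R, P.IsKProjective ∧ Nonempty (DerivedCategory.Q.obj P ≅ X) := by
  obtain ⟨K, -, ⟨e⟩⟩ := DT.exists_rep X
  obtain ⟨P, q, hP, hq⟩ := KP.exists_isKProjective K
  exact ⟨P, hP, ⟨asIso (DerivedCategory.Q.map q) ≪≫ e⟩⟩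

/-- A K-projective complex is K-flat. -/
theorem isKFlat (P : DRing.Cx R) [P.IsKProjective] : DRing.IsKFlat R P := by
  have := DT.qis_aug P
  let r : (DT.res R).obj P ⟶ P := (DT.aug R).app P
  have : IsIso (DerivedCategory.Q.map r) := DT.isIso_Q_map _ (DT.qis_aug P)
  obtain ⟨g, hg⟩ := Groth.Agent.DMod.exists_map_eq (inv (DerivedCategory.Q.map r))
  have h0 : DerivedCategory.Q.map (g ≫ r - 𝟙 P) = 0 := by
    rw [Functor.map_sub, Functor.map_comp, hg, IsIso.inv_hom_id, CategoryTheory.Functor.map_id, sub_self]
  obtain ⟨h⟩ := (Groth.Agent.DMod.map_eq_zero_iff _).1 h0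
  have h1 : Homotopy (g ≫ r) (𝟙 P) := (Homotopy.equivSubZero).symm h
  intro L hL i
  obtain ⟨H⟩ := (splitPres_left (TM R) L).homotopy h1
  have hz := DT.isKFlat_res P L hL i
  rw [IsZero.iff_id_eq_zero]
  have e := H.homologyMap_eq i
  rw [((tcx (TM R)).obj L).map_comp, HomologicalComplex.homologyMap_comp,
    ((tcx (TM R)).obj L).map_id, HomologicalComplex.homologyMap_id] at e
  exact e.symm.trans ((congrArg (· ≫ _) (hz.eq_of_tgt _ 0)).trans zero_comp)

/-! ### Hom out of a K-projective complex -/

variable (M : DRing.Cx R)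

instance additive_homCxFunctor : (DRing.homCxFunctor M).Additive :=
  have : (tensorRight M).Additive := additive_tcx_flip_obj (TM R) M
  Adjunction.right_adjoint_additive (adj M)

theorem splitPres_homCx : SplitPres (DRing.homCxFunctor M) where
  homotopy {K L f g} h := by
    let γ := (Cochain.equivHomotopy f g h).1
    refine ⟨
      { hom := fun i j => if hij : i + (-1) = j then ModuleCat.ofHom
            { toFun := fun z => ((coc z).comp γ hij : Cochain M L j)
              map_add' := fun z z' => Cochain.add_comp _ _ _ _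
              map_smul' := fun r z => Cochain.smul_comp _ _ _ _ }
          else 0
        zero := fun i j (hij : j + 1 ≠ i) => dif_neg (by omega)
        comm := fun i => ?_ }⟩
    rw [dNext_eq _ (show (ComplexShape.up ℤ).Rel i (i + 1) from rfl),
      prevD_eq _ (show (ComplexShape.up ℤ).Rel (i - 1) i from sub_add_cancel i 1),
      dif_pos (show i + 1 + -1 = i by omega), dif_pos (show i + -1 = i - 1 by omega)]
    ext z
    change (coc z).comp (Cochain.ofHom f) (add_zero i) =
      (δ i (i + 1) (coc z)).comp γ (show i + 1 + -1 = i by omega) +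
        δ (i - 1) i ((coc z).comp γ (show i + -1 = i - 1 by omega)) +
        (coc z).comp (Cochain.ofHom g) (add_zero i)
    rw [δ_comp (coc z) γ (show i + -1 = i - 1 by omega) (i + 1) 0 i (by omega) rfl (neg_add_cancel 1),
      Int.negOnePow_neg, Int.negOnePow_one, Units.neg_smul, one_smul]
    have e : (coc z).comp (δ (-1) 0 γ) (add_zero i) =
        (coc z).comp (Cochain.ofHom f) (add_zero i) - (coc z).comp (Cochain.ofHom g) (add_zero i) := by
      rw [← Cochain.comp_sub, (Cochain.equivHomotopy f g h).2, add_sub_cancel_right]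
    rw [e]
    abel
  shortExact S hS := by
    refine HomologicalComplex.shortExact_of_degreewise_shortExact _ fun n => ?_
    have s : ∀ i, (S.map (HomologicalComplex.eval (ModuleCat.{u} R) (ComplexShape.up ℤ) i)).Splitting :=
      fun i => (hS i).some
    refine ShortComplex.Splitting.shortExact
      { r := ModuleCat.ofHom
          { toFun := fun z => (Cochain.mk fun p q hpq => (coc z).v p q hpq ≫ (s q).r : Cochain M S.X₁ n)
            map_add' := fun z z' => Cochain.ext _ _ fun p q hpq => by simp
            map_smul' := fun r z => Cochain.ext _ _ fun p q hpq => by simp }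
        s := ModuleCat.ofHom
          { toFun := fun z => (Cochain.mk fun p q hpq => (coc z).v p q hpq ≫ (s q).s : Cochain M S.X₂ n)
            map_add' := fun z z' => Cochain.ext _ _ fun p q hpq => by simp
            map_smul' := fun r z => Cochain.ext _ _ fun p q hpq => by simp }
        f_r := ?_, s_g := ?_, id := ?_ }
    · ext z
      refine Cochain.ext (F := M) (G := S.X₁) _ _ fun p q hpq => ?_
      change ((coc z).comp (Cochain.ofHom S.f) (add_zero n)).v p q hpq ≫ (s q).r = (coc z).v p q hpq
      rw [Cochain.comp_zero_cochain_v, Cochain.ofHom_v, Category.assoc]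
      exact (congrArg _ (s q).f_r).trans (Category.comp_id _)
    · ext z
      refine Cochain.ext (F := M) (G := S.X₃) _ _ fun p q hpq => ?_
      change ((Cochain.mk fun p q hpq => (coc z).v p q hpq ≫ (s q).s : Cochain M S.X₂ n).comp
        (Cochain.ofHom S.g) (add_zero n)).v p q hpq = (coc z).v p q hpq
      rw [Cochain.comp_zero_cochain_v, Cochain.ofHom_v, Cochain.mk_v, Category.assoc]
      exact (congrArg _ (s q).s_g).trans (Category.comp_id _)
    · ext z
      refine Cochain.ext (F := M) (G := S.X₂) _ _ fun p q hpq => ?_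
      change ((Cochain.mk fun p q hpq => (coc z).v p q hpq ≫ (s q).r : Cochain M S.X₁ n).comp
          (Cochain.ofHom S.f) (add_zero n)).v p q hpq +
        (((coc z).comp (Cochain.ofHom S.g) (add_zero n)).v p q hpq ≫ (s q).s : M.X p ⟶ S.X₂.X q) =
          (coc z).v p q hpq
      rw [Cochain.comp_zero_cochain_v, Cochain.comp_zero_cochain_v, Cochain.ofHom_v, Cochain.ofHom_v,
        Cochain.mk_v, Category.assoc, Category.assoc, ← Preadditive.comp_add]
      exact (congrArg _ (s q).id).trans (Category.comp_id _)

theorem acyclic_homCx [M.IsKProjective] {L : DRing.Cx R} (hL : L.Acyclic) :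
    (DRing.homCx M L).Acyclic := fun n => by
  rw [HomologicalComplex.exactAt_iff' _ (n - 1) n (n + 1) (by simp) (by simp),
    ShortComplex.moduleCat_exact_iff]
  intro z (hz : δ n (n + 1) (coc z) = 0)
  let zc : Cocycle M L n := Cocycle.mk (coc z) (n + 1) rfl hz
  have hLn : (L⟦n⟧).Acyclic := fun k => by
    rw [HomologicalComplex.exactAt_iff_isZero_homology]
    exact ((HomologicalComplex.exactAt_iff_isZero_homology _ _).1 (hL (n + k))).of_iso
      (((HomologicalComplex.homologyFunctor (ModuleCat.{u} R) (ComplexShape.up ℤ) 0).shiftIso n k (n + k)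
        rfl).app L)
  have h0 : CohomologyClass.toHom (CohomologyClass.mk zc) = 0 := by
    rw [CohomologyClass.toHom_mk, HomotopyCategory.quotient_map_eq_zero_iff]
    exact CochainComplex.IsKProjective.nonempty_homotopy_zero _ hLn
  obtain ⟨β, hβ⟩ := (mem_coboundaries_iff zc (n - 1) (sub_add_cancel n 1)).1
    ((CohomologyClass.toHom_mk_eq_zero_iff zc).1 h0)
  exact ⟨β, hβ⟩

theorem quasiIso_homCx_map [M.IsKProjective] {L L' : DRing.Cx R} (f : L ⟶ L') [QuasiIso f] :
    QuasiIso ((DRing.homCxFunctor M).map f) :=
  (splitPres_homCx M).quasiIso_map_of_acyclic f (acyclic_homCx M (acyclic_cylCoker f))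

section

variable [DTen.HasLTen R] [DTen.HasRHom R]

/-- The comparison of the Hom complex with the internal hom of the derived category. -/
noncomputable def κ (L : DRing.Cx R) : DerivedCategory.Q.obj (DRing.homCx M L) ⟶
    (DTen.RHomR R (DerivedCategory.Q.obj M)).obj (DerivedCategory.Q.obj L) :=
  DTen.rhomHomEquiv _ _ _ ((DTen.ε R).app (DRing.homCx M L, M) ≫ DerivedCategory.Q.map (ev M L))

theorem κ_fac (L : DRing.Cx R) :
    (DTen.LTen₂ R).map (Prod.mkHom (κ M L) (𝟙 (DerivedCategory.Q.obj M))) ≫
        DTen.ev (DerivedCategory.Q.obj M) (DerivedCategory.Q.obj L) =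
      (DTen.ε R).app (DRing.homCx M L, M) ≫ DerivedCategory.Q.map (ev M L) :=
  ((DTen.rhomAdj R (DerivedCategory.Q.obj M)).homEquiv_counit _ _ _).symm.trans
    (((DTen.rhomAdj R (DerivedCategory.Q.obj M)).homEquiv _ _).symm_apply_apply _)

end

variable [M.IsKProjective]

theorem homCxQ_isInvertedBy : (DTen.qis R).IsInvertedBy (DRing.homCxFunctor M ⋙ DerivedCategory.Q) :=
  fun _ _ f hf =>
    have : QuasiIso f := hf
    have := quasiIso_homCx_map M f
    inferInstanceAs (IsIso (DerivedCategory.Q.map ((DRing.homCxFunctor M).map f)))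

/-- `Hom•(M, -)` on the derived category. -/
noncomputable def Gd : Dual.D R ⥤ Dual.D R :=
  Localization.lift (DRing.homCxFunctor M ⋙ DerivedCategory.Q) (homCxQ_isInvertedBy M) DerivedCategory.Q

/-- Its values on complexes. -/
noncomputable def gdIso :
    DRing.homCxFunctor M ⋙ DerivedCategory.Q ≅ DerivedCategory.Q ⋙ Gd M :=
  (Localization.fac _ (homCxQ_isInvertedBy M) DerivedCategory.Q).symm

variable [DTen.HasLTen R]

/-- `- ⊗^L M` on complexes. -/
noncomputable def fdIso :
    tensorRight M ⋙ DerivedCategory.Q ≅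
      DerivedCategory.Q ⋙ DTen.tensorRightD R (DerivedCategory.Q.obj M) :=
  (NatIso.ofComponents (fun K => @asIso _ _ _ _ ((DTen.ε R).app (K, M)) (DT.isIso_ε_right (isKFlat M)))
    (fun f => (DTen.εRight R M).naturality f)).symm

theorem fdIso_inv_app (K : DRing.Cx R) : (fdIso M).inv.app K = (DTen.ε R).app (K, M) := by
  rfl

/-- The derived tensor-Hom adjunction. -/
noncomputable def adjD : DTen.tensorRightD R (DerivedCategory.Q.obj M) ⊣ Gd M :=
  letI : CatCommSq (tensorRight M) DerivedCategory.Q DerivedCategory.Q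
      (DTen.tensorRightD R (DerivedCategory.Q.obj M)) := ⟨fdIso M⟩
  letI : CatCommSq (DRing.homCxFunctor M) DerivedCategory.Q DerivedCategory.Q (Gd M) := ⟨gdIso M⟩
  (adj M).localization DerivedCategory.Q (DTen.qis R) DerivedCategory.Q (DTen.qis R) _ _

theorem adjD_counit_app (L : DRing.Cx R) :
    (DTen.tensorRightD R (DerivedCategory.Q.obj M)).map ((gdIso M).hom.app L) ≫
        (adjD M).counit.app (DerivedCategory.Q.obj L) =
      (DTen.ε R).app (DRing.homCx M L, M) ≫ DerivedCategory.Q.map (ev M L) := by
  letI : CatCommSq (tensorRight M) DerivedCategory.Q DerivedCategory.Q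
      (DTen.tensorRightD R (DerivedCategory.Q.obj M)) := ⟨fdIso M⟩
  letI : CatCommSq (DRing.homCxFunctor M) DerivedCategory.Q DerivedCategory.Q (Gd M) := ⟨gdIso M⟩
  have h : (adjD M).counit.app (DerivedCategory.Q.obj L) =
      (DTen.tensorRightD R (DerivedCategory.Q.obj M)).map ((gdIso M).inv.app L) ≫
        (DTen.ε R).app (DRing.homCx M L, M) ≫ DerivedCategory.Q.map (ev M L) := by
    rw [← fdIso_inv_app]
    exact Adjunction.Localization.η_app (adj M) DerivedCategory.Q DerivedCategory.Q (DTen.qis R)
      (DTen.tensorRightD R (DerivedCategory.Q.obj M)) (Gd M) L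
  rw [h, ← Functor.map_comp_assoc, Iso.hom_inv_id_app, CategoryTheory.Functor.map_id]
  exact Category.id_comp _

variable (R) in
theorem hasRHom : DTen.HasRHom R :=
  ⟨fun L => by
    obtain ⟨P, hP, ⟨e⟩⟩ := exists_rep L
    exact ⟨_, ⟨(adjD P).ofNatIsoLeft ((DTen.LTen R).flip.mapIso e)⟩⟩⟩

variable [DTen.HasRHom R]

instance isIso_κ (L : DRing.Cx R) : IsIso (κ M L) := by
  let r := Adjunction.rightAdjointUniq (adjD M) (DTen.rhomAdj R (DerivedCategory.Q.obj M))
  have h : κ M L = (gdIso M).hom.app L ≫ r.hom.app (DerivedCategory.Q.obj L) := by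
    apply ((DTen.rhomAdj R (DerivedCategory.Q.obj M)).homEquiv _ _).symm.injective
    refine (Equiv.symm_apply_apply _ _).trans ?_
    refine ((adjD_counit_app M L).symm.trans ?_)
    rw [Adjunction.homEquiv_naturality_left_symm]
    exact congrArg _ (Adjunction.homEquiv_symm_rightAdjointUniq_hom_app (adjD M) _ _).symm
  rw [h]
  infer_instance

end Groth.Agent.KFlat.HomD
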