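import Groth.Agent.Lib.KFlat.Strength
import Groth.Agent.Lib.KFlat.DTen
import Groth.Agent.Lib.KFlat.HomD

/-!
The dual of a strictly perfect complex, and `Hom•(L, M) ⊗ E ⟶ Hom•(Hom•(E, L), M)`.
-/

set_option autoImplicit false
set_option linter.unusedSectionVars false
set_option backward.isDefEq.respectTransparency false

universe u

open CategoryTheory CategoryTheory.Limits MonoidalCategory CochainComplex.HomComplex

attribute [local instance] HasDerivedCategory.standard

namespace Groth.Agent.KFlat.HomAdj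

variable {R : Type u} [CommRing R]

/-- The tensor product of K-projective complexes is K-projective. -/
theorem isKProjective_tensor (P P' : DRing.Cx R) [P.IsKProjective] [P'.IsKProjective] :
    (P ⊗ P' : DRing.Cx R).IsKProjective where
  nonempty_homotopy_zero {N} f hN := by
    obtain ⟨h⟩ := CochainComplex.IsKProjective.nonempty_homotopy_zero
      ((adj P').homEquiv P N f) (HomD.acyclic_homCx P' hN)
    obtain ⟨H⟩ := (splitPres_right (Module.TM R) P').homotopy h
    have e : ((tcx (Module.TM R)).flip.obj P').map ((adj P').homEquiv P N f) ≫ ev P' N = f :=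
      ((adj P').homEquiv_counit _ _ _).symm.trans (((adj P').homEquiv _ _).symm_apply_apply f)
    have : (tensorRight P').Additive := additive_tcx_flip_obj (Module.TM R) P'
    exact ⟨(Homotopy.ofEq e.symm).trans ((H.compRight (ev P' N)).trans
      (Homotopy.ofEq ((congrArg (· ≫ ev P' N) ((tensorRight P').map_zero _ _)).trans zero_comp)))⟩

variable (E : DRing.Cx R) {a b : ℤ} (hb : DRing.VanishesOutside E a b)
  (hE : DRing.TermwiseFiniteProjective E)

include hb hE

omit hb hE in
theorem sum_single₁_window (N : ℤ → ℕ) (e : ∀ i, Fin (N i) → E.X i) (f : ∀ i, Fin (N i) → (E.X i →ₗ[R] R))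
    (hef : ∀ i x, ∑ c, f i c x • e i c = x) (L : DRing.Cx R) (j : ℤ) (S : Finset ℤ)
    (hS : ∀ p, p ∉ S → (∀ x : E.X p, x = 0) ∨ ∀ y : L.X (p + j), y = 0)
    (y : (DRing.homCx E L).X j) :
    ∑ p ∈ S, ∑ c : Fin (N p),
      single₁ E L p j (p + j) rfl (f p c) ((coc y).v p (p + j) rfl (e p c)) = y := by
  refine Cochain.ext (F := E) (G := L) _ _ fun p₀ q hq => ?_
  subst hq
  ext x
  by_cases hp₀ : p₀ ∈ S
  · let evx : (DRing.homCx E L).X j →+ L.X (p₀ + j) :=
      { toFun := fun w => (coc w).v p₀ (p₀ + j) rfl x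
        map_zero' := rfl
        map_add' := fun _ _ => rfl }
    change evx _ = _
    simp only [map_sum]
    rw [Finset.sum_eq_single_of_mem p₀ hp₀ fun p _ hp => Finset.sum_eq_zero fun c _ =>
      single₁_v_ne _ _ _ _ _ _ _ _ _ _ _ (Ne.symm hp) _]
    refine (Finset.sum_congr rfl fun c _ => single₁_v_self _ _ _ _ _ _ _ _ _).trans ?_
    simp only [← map_smul, ← map_sum, hef]
  · rcases hS p₀ hp₀ with h0 | h0
    · rw [h0 x, map_zero, map_zero]
    · exact (h0 _).trans (h0 _).symm

/-- The dual complex is strictly perfect. -/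
theorem dual_strictlyPerfect :
    DRing.VanishesOutside (DRing.homCx E (𝟙_ (DRing.Cx R))) (-b) (-a) ∧
      DRing.TermwiseFiniteProjective (DRing.homCx E (𝟙_ (DRing.Cx R))) := by
  choose N e f hef using fun i => exists_dualBasis (E.X i) (hE i).1 (hE i).2
  have hU : ∀ i : ℤ, i ≠ 0 → IsZero ((𝟙_ (DRing.Cx R)).X i) := fun i hi =>
    HomologicalComplex.isZero_single_obj_X (ComplexShape.up ℤ) 0 (𝟙_ (ModuleCat.{u} R)) i hi
  constructor
  · intro j hj
    refine (ModuleCat.isZero_iff_subsingleton).2 ⟨fun z z' => Cochain.ext (F := E) (G := 𝟙_ (DRing.Cx R))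
      _ _ fun p q hpq => ?_⟩
    by_cases hq : q = 0
    · exact (hb p (by omega)).eq_of_src _ _
    · exact (hU q hq).eq_of_tgt _ _
  · intro j
    let ι₀ : (𝟙_ (DRing.Cx R)).X 0 ≅ 𝟙_ (ModuleCat.{u} R) :=
      HomologicalComplex.singleObjXSelf (ComplexShape.up ℤ) 0 (𝟙_ (ModuleCat.{u} R))
    let t : (DRing.homCx E (𝟙_ (DRing.Cx R))).X j →ₗ[R] (E.X (-j) →ₗ[R] R) :=
      { toFun := fun z => ι₀.hom.hom.comp ((coc z).v (-j) 0 (neg_add_cancel j)).hom
        map_add' := fun z z' => LinearMap.ext fun x => map_add ι₀.hom.hom _ _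
        map_smul' := fun r z => LinearMap.ext fun x => map_smul ι₀.hom.hom r _ }
    have ht : Function.Bijective t := by
      refine ⟨fun z z' h => Cochain.ext (F := E) (G := 𝟙_ (DRing.Cx R)) _ _ fun p q hpq => ?_, fun g => ?_⟩
      · by_cases hq : q = 0
        · subst hq
          obtain rfl : p = -j := by omega
          ext x
          exact (ConcreteCategory.injective_of_mono_of_preservesPullback ι₀.hom) (LinearMap.congr_fun h x)
        · exact (hU q hq).eq_of_tgt _ _
      · refine ⟨single₁ E (𝟙_ (DRing.Cx R)) (-j) j 0 (neg_add_cancel j) g (ι₀.inv (1 : R)),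
          LinearMap.ext fun x => ?_⟩
        refine (congrArg ι₀.hom.hom (single₁_v_self E _ (-j) j 0 (neg_add_cancel j) g _ x)).trans ?_
        refine (map_smul ι₀.hom.hom _ _).trans ?_
        exact (congrArg (g x • ·) (Iso.inv_hom_id_apply ι₀ (1 : R))).trans (mul_one _)
    have := (hE (-j)).1
    have := (hE (-j)).2
    exact ⟨Module.Finite.equiv (LinearEquiv.ofBijective t ht).symm,
      Module.Projective.of_equiv (LinearEquiv.ofBijective t ht).symm⟩

theorem isKProjective_homCx (L : DRing.Cx R) [L.IsKProjective] :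
    (DRing.homCx E L).IsKProjective := by
  obtain ⟨hb', hE'⟩ := dual_strictlyPerfect E hb hE
  have : (DRing.homCx E (𝟙_ (DRing.Cx R))).IsStrictlyLE (-a) :=
    (CochainComplex.isStrictlyLE_iff _ (-a)).2 fun i hi => hb' i (Or.inr hi)
  have := Groth.Agent.DMod.isKProjective (P := DRing.homCx E (𝟙_ (DRing.Cx R))) (-a) fun i => (hE' i).2
  have := isKProjective_tensor L (DRing.homCx E (𝟙_ (DRing.Cx R)))
  have := isIso_θ_right E hb hE L (𝟙_ (DRing.Cx R))
  exact CochainComplex.isKProjective_of_iso
    (asIso (θ L E (𝟙_ (DRing.Cx R))) ≪≫ (DRing.homCxFunctor E).mapIso (ρ_ L))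

omit hb hE in
/-- Evaluation into the double Hom complex. -/
noncomputable def ω (L M : DRing.Cx R) :
    DRing.homCx L M ⊗ E ⟶ DRing.homCx (DRing.homCx E L) M :=
  (adj (DRing.homCx E L)).homEquiv _ _
    ((α_ _ _ _).hom ≫ DRing.homCx L M ◁ ((DTen.braidCx E (DRing.homCx E L)).hom ≫ ev E L) ≫ ev L M)

omit hb hE in
theorem ω_fac (L M : DRing.Cx R) :
    ω E L M ▷ DRing.homCx E L ≫ ev (DRing.homCx E L) M =
      (α_ _ _ _).hom ≫ DRing.homCx L M ◁ ((DTen.braidCx E (DRing.homCx E L)).hom ≫ ev E L) ≫ ev L M :=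
  ((adj (DRing.homCx E L)).homEquiv_counit _ _ _).symm.trans
    (((adj (DRing.homCx E L)).homEquiv _ _).symm_apply_apply _)

omit hb hE in
theorem tn_braid {K L : DRing.Cx R} (p q n : ℤ) (h : p + q = n) (x : K.X p) (y : L.X q) :
    (DTen.braidCx K L).hom.f n (tn p q n h x y) = (p * q).negOnePow • tn q p n (by omega) y x :=
  congrArg (fun t => t.hom (x ⊗ₜ[R] y)) (DTen.ι_braidCx_hom K L p q n h)

omit hb hE in
theorem ω_v (L M : DRing.Cx R) (i p n : ℤ) (h : i + p = n) (z : (DRing.homCx L M).X i) (x : E.X p)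
    (s t u : ℤ) (hst : s + n = t) (hu : p + s = u) (y : (DRing.homCx E L).X s) :
    (coc ((ω E L M).f n (tn i p n h z x))).v s t hst y =
      (p * s).negOnePow • (coc z).v u t (by omega) ((coc y).v p u hu x) := by
  have e := congrArg (fun g => g.f t (tn n s t (by omega) (tn i p n h z x) y)) (ω_fac E L M)
  simp only [HomologicalComplex.comp_f, ModuleCat.comp_apply] at e
  rw [tn_whiskerRight, ev_tn, tn_assoc i p s n u t h (by omega) hu (by omega), tn_whiskerLeft,
    ev_tn, HomologicalComplex.comp_f, ModuleCat.comp_apply, tn_braid] at e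
  rw [e, Units.smul_def, map_zsmul, ev_tn, map_zsmul, Units.smul_def]

omit hb in
theorem isIso_ω_window (L M : DRing.Cx R) (W : ℤ → Finset ℤ)
    (hW : ∀ n p, p ∉ W n → (∀ x : E.X p, x = 0) ∨
      ∀ q r : ℤ, q + n = p + r → (∀ y : L.X q, y = 0) ∨ ∀ m : M.X r, m = 0) :
    IsIso (ω E L M) := by
  choose N e f hef using fun i => exists_dualBasis (E.X i) (hE i).1 (hE i).2
  have hsgn : ∀ (m : ℤ) {X : ModuleCat.{u} R} (x : X), m.negOnePow • m.negOnePow • x = x :=
    fun m X x => by rw [smul_smul, Int.units_mul_self, one_smul]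
  have : ∀ n, IsIso ((ω E L M).f n) := fun n => by
    rw [ConcreteCategory.isIso_iff_bijective]
    let Z : ∀ (p : ℤ), Fin (N p) →
        ((DRing.homCx (DRing.homCx E L) M).X n →ₗ[R] (DRing.homCx L M).X (n - p)) := fun p c =>
      { toFun := fun z => (Cochain.mk fun q r hqr => (p * (q - p)).negOnePow •
          (ModuleCat.ofHom (X := L.X q) (Y := (DRing.homCx E L).X (q - p))
            (single₁ E L p (q - p) q (by omega) (f p c)) ≫ (coc z).v (q - p) r (by omega)) :
              Cochain L M (n - p))
        map_add' := fun z z' => Cochain.ext _ _ fun q r hqr => by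
          rw [Cochain.add_v, Cochain.mk_v, Cochain.mk_v, Cochain.mk_v, ← smul_add, ← Preadditive.comp_add]
          rfl
        map_smul' := fun r' z => Cochain.ext _ _ fun q r hqr => by
          rw [RingHom.id_apply, Cochain.smul_v, Cochain.mk_v, Cochain.mk_v, smul_comm r',
            ← Linear.comp_smul]
          rfl }
    let Ψ : (DRing.homCx (DRing.homCx E L) M).X n →ₗ[R] (DRing.homCx L M ⊗ E : DRing.Cx R).X n :=
      { toFun := fun z => ∑ p ∈ W n, ∑ c : Fin (N p),
          tn (n - p) p n (by omega) (Z p c z) (e p c)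
        map_add' := fun z z' => by simp only [map_add, tn_add_left, Finset.sum_add_distrib]
        map_smul' := fun r z => by
          simp only [map_smul, tn_smul_left, Finset.smul_sum, RingHom.id_apply] }
    have hZ : ∀ (p : ℤ) (c : Fin (N p)) (z : (DRing.homCx (DRing.homCx E L) M).X n) (q r : ℤ)
        (h : q + (n - p) = r) (s : ℤ) (hs : p + s = q) (x : L.X q),
        (coc (Z p c z)).v q r h x =
          (p * s).negOnePow • (coc z).v s r (by omega) (single₁ E L p s q hs (f p c) x) := by
      intro p c z q r h s hs x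
      obtain rfl : s = q - p := by omega
      rfl
    have h₁ : (ω E L M).f n ≫ ModuleCat.ofHom Ψ = 𝟙 _ := tn_ext fun i p₀ h z x => by
      change ∑ p ∈ W n, ∑ c : Fin (N p), tn (n - p) p n _ _ (e p c) = tn i p₀ n h z x
      by_cases hp₀ : p₀ ∈ W n
      swap
      · have hzero : tn i p₀ n h z x = 0 := by
          rcases hW n p₀ hp₀ with h0 | h0
          · rw [h0 x, tn_zero_right]
          · have hz : z = 0 := Cochain.ext (F := L) (G := M) _ _ fun q r hqr => by
              ext y
              rcases h0 q r (by omega) with h1 | h1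
              · rw [h1 y, map_zero, map_zero]
              · exact (h1 _).trans (h1 _).symm
            rw [hz, tn_zero_left]
        refine Eq.trans ?_ hzero.symm
        exact Finset.sum_eq_zero fun p _ => Finset.sum_eq_zero fun c _ =>
          (congrArg (fun t => tn (n - p) p n (by omega) t (e p c))
            ((congrArg (fun t => Z p c ((ω E L M).f n t)) hzero).trans
              ((congrArg (Z p c) (map_zero ((ω E L M).f n).hom)).trans (map_zero (Z p c))))).trans
              (tn_zero_left _ _ _ _ _)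
      obtain rfl : i = n - p₀ := by omega
      have hne : ∀ p, p ≠ p₀ → ∀ c, Z p c ((ω E L M).f n (tn (n - p₀) p₀ n h z x)) = 0 := fun p hp c =>
        Cochain.ext (F := L) (G := M) _ _ fun q r hqr => by
          ext y
          refine (hZ p c _ q r hqr (q - p) (by omega) y).trans ?_
          rw [ω_v E L M _ p₀ n h z x (q - p) r (p₀ + (q - p)) (by omega) rfl,
            single₁_v_ne _ _ _ _ _ _ _ _ _ _ _ (Ne.symm hp), map_zero, smul_zero, smul_zero]
          rfl
      have heq : ∀ c, Z p₀ c ((ω E L M).f n (tn (n - p₀) p₀ n h z x)) = f p₀ c x • z := fun c =>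
        Cochain.ext (F := L) (G := M) _ _ fun q r hqr => by
          ext y
          refine (hZ p₀ c _ q r hqr (q - p₀) (by omega) y).trans ?_
          rw [ω_v E L M _ p₀ n h z x (q - p₀) r q (by omega) (by omega), hsgn, single₁_v_self, map_smul]
          rfl
      rw [Finset.sum_eq_single_of_mem p₀ hp₀ fun p _ hp => Finset.sum_eq_zero fun c _ =>
        (congrArg (fun t => tn (n - p) p n (by omega) t (e p c)) (hne p hp c)).trans (tn_zero_left _ _ _ _ _)]
      refine (Finset.sum_congr rfl fun c _ =>
        (congrArg (fun t => tn (n - p₀) p₀ n (by omega) t (e p₀ c)) (heq c))).trans ?_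
      simp only [tn_smul_left, ← tn_smul_right]
      rw [← tn_sum_right, hef]
    refine ⟨Function.LeftInverse.injective (g := Ψ) fun t => congrArg (fun g => g.hom t) h₁,
      fun z => ⟨Ψ z, ?_⟩⟩
    refine Cochain.ext (F := DRing.homCx E L) (G := M) _ _ fun s t hst => ?_
    subst hst
    ext y
    let evy : (DRing.homCx (DRing.homCx E L) M).X n →+ M.X (s + n) :=
      { toFun := fun w => (coc w).v s (s + n) rfl y
        map_zero' := rfl
        map_add' := fun _ _ => rfl }
    change evy ((ω E L M).f n (Ψ z)) = _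
    simp only [Ψ, LinearMap.coe_mk, AddHom.coe_mk, map_sum]
    refine (Finset.sum_congr rfl fun p _ => Finset.sum_congr rfl fun c _ =>
      (ω_v E L M (n - p) p n _ _ _ s (s + n) (p + s) rfl rfl y).trans
        ((congrArg ((p * s).negOnePow • ·) (hZ p c z (p + s) (s + n) (by omega) s rfl _)).trans
          (hsgn _ _))).trans ?_
    simp only [← map_sum]
    by_cases hm : ∀ m : M.X (s + n), m = 0
    · exact (hm _).trans (hm _).symm
    exact ((map_sum ((coc z).v s (s + n) rfl).hom _ _).symm.trans
      (congrArg _ (sum_single₁_window E N e f hef L s (W n) (fun p hp => (hW n p hp).imp_right fun h0 =>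
        (h0 (p + s) (s + n) (by omega)).resolve_right hm) y)))
  exact HomologicalComplex.Hom.isIso_of_components _

theorem isIso_ω (L M : DRing.Cx R) : IsIso (ω E L M) :=
  isIso_ω_window E hE L M (fun _ => Finset.Icc a b) fun _ p hp => Or.inl fun x =>
    have := ModuleCat.subsingleton_of_isZero (hb p (by simp only [Finset.mem_Icc] at hp; omega))
    Subsingleton.elim _ _

end Groth.Agent.KFlat.HomAdj
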