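import Groth.Agent.Lib.KFlat.EvalTen
import Groth.Agent.Lib.KFlat.StrengthEval

/-!
The map `RHom(L, M) ⊗^L K ⟶ RHom(RHom(K, L), M)` is an isomorphism when `K` is perfect.
-/

set_option autoImplicit false
set_option linter.unusedSectionVars false
set_option backward.isDefEq.respectTransparency false

universe u

open CategoryTheory CategoryTheory.Limits MonoidalCategory

attribute [local instance] HasDerivedCategory.standard

namespace Groth.Agent.KFlat.HomD

open Groth.Agent.KFlat.HomAdj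

variable {R : Type u} [CommRing R] [DTen.HasLTen R] [DTen.HasLTen₃ R] [DTen.IsSymMonoidal R]
  [DTen.HasRHom R]

@[reassoc]
theorem TT_symm {a b a' b' : Dual.D R} (f : a ⟶ a') (g : b ⟶ b') :
    TT f g ≫ (DTen.symm R).app (b', a') = (DTen.symm R).app (b, a) ≫ TT g f :=
  (DTen.symm R).naturality (Prod.mkHom g f : (b, a) ⟶ (b', a'))

theorem evalHom_naturality {K K' L L' M M' : Dual.D R} (a : K ⟶ K') (b : L' ⟶ L) (c : M ⟶ M') :
    TT (DTen.RHomMap b M ≫ (DTen.RHomR R L').map c) a ≫ DTen.evalHom K' L' M' =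
      DTen.evalHom K L M ≫ DTen.RHomMap (DTen.RHomMap a L' ≫ (DTen.RHomR R K).map b) M ≫
        (DTen.RHomR R ((DTen.RHomR R K').obj L')).map c := by
  set H := (DTen.RHomR R K').obj L' with hH
  apply ((DTen.rhomAdj R H).homEquiv _ _).symm.injective
  rw [Adjunction.homEquiv_counit, Adjunction.homEquiv_counit]
  change TT (_ ≫ _) (𝟙 H) ≫ DTen.ev H _ = TT (_ ≫ _ ≫ _) (𝟙 H) ≫ DTen.ev H _
  have hsplit : ∀ {Z : Dual.D R} {X Y W : Dual.D R} (p : X ⟶ Y) (q : Y ⟶ W),
      TT (p ≫ q) (𝟙 Z) = TT p (𝟙 Z) ≫ TT q (𝟙 Z) := fun p q => by rw [TT_comp, Category.id_comp]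
  have hsplit' : ∀ {Z : Dual.D R} {X Y W : Dual.D R} (p : X ⟶ Y) (q : Y ⟶ W),
      TT (𝟙 Z) (p ≫ q) = TT (𝟙 Z) p ≫ TT (𝟙 Z) q := fun p q => by rw [TT_comp, Category.id_comp]
  have hswap : ∀ {X Y X' Y' : Dual.D R} (p : X ⟶ X') (q : Y ⟶ Y'),
      TT p (𝟙 Y) ≫ TT (𝟙 X') q = TT (𝟙 X) q ≫ TT p (𝟙 Y') := fun p q => by
    rw [TT_comp, TT_comp, Category.id_comp, Category.id_comp, Category.comp_id, Category.comp_id]
  rw [hsplit, hsplit, hsplit, Category.assoc, Category.assoc, Category.assoc, DTen.evalHom_fac,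
    TT_map_ev, RHomMap_ev_assoc, reassoc_of% (hswap (DTen.evalHom K L M) _),
    reassoc_of% (DTen.evalHom_fac K L M)]
  simp only [DTen.evalHomAux, Category.assoc]
  rw [reassoc_of% (associator_naturality (DTen.RHomMap b M ≫ (DTen.RHomR R L').map c) a (𝟙 H)),
    show TT (𝟙 ((DTen.LTen₂ R).obj ((DTen.RHomR R L).obj M, K)))
        (DTen.RHomMap a L' ≫ (DTen.RHomR R K).map b) =
      TT (TT (𝟙 ((DTen.RHomR R L).obj M)) (𝟙 K)) (DTen.RHomMap a L' ≫ (DTen.RHomR R K).map b) by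
        rw [TT_id],
    reassoc_of% (associator_naturality (𝟙 ((DTen.RHomR R L).obj M)) (𝟙 K)
      (DTen.RHomMap a L' ≫ (DTen.RHomR R K).map b))]
  refine congrArg (fun t => (DTen.associator ((DTen.RHomR R L).obj M) K H).hom ≫ t) ?_
  change TT _ _ ≫ TT (𝟙 _) (_ ≫ _) ≫ _ = TT _ _ ≫ TT (𝟙 _) (_ ≫ _) ≫ _
  rw [TT_comp_assoc, TT_comp_assoc, Category.comp_id, Category.id_comp, TT_symm_assoc, TT_symm_assoc,
    hsplit (DTen.RHomMap a L'), Category.assoc, TT_map_ev, RHomMap_ev_assoc]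
  set w := (DTen.symm R).app (H, K) ≫ TT (𝟙 H) a ≫ DTen.ev K' L'
  rw [show (DTen.symm R).app (H, K) ≫ TT (𝟙 H) a ≫ DTen.ev K' L' ≫ b = w ≫ b by simp [w]]
  rw [show TT (DTen.RHomMap b M ≫ (DTen.RHomR R L').map c) w =
      TT (𝟙 _) w ≫ TT (DTen.RHomMap b M) (𝟙 L') ≫ TT ((DTen.RHomR R L').map c) (𝟙 L') by
    rw [TT_comp, TT_comp, Category.id_comp, Category.comp_id, Category.comp_id],
    Category.assoc, Category.assoc, TT_map_ev, RHomMap_ev_assoc, hsplit', Category.assoc]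
  simp only [w, hsplit', Category.assoc]

theorem isIso_evalHom_of_iso {K K' L L' M M' : Dual.D R} (a : K ≅ K') (b : L' ≅ L) (c : M ≅ M')
    (h : IsIso (DTen.evalHom K L M)) : IsIso (DTen.evalHom K' L' M') := by
  have hm : ∀ {X Y : Dual.D R} (f : X ⟶ Y) [IsIso f] (Z : Dual.D R), IsIso (DTen.RHomMap f Z) :=
    fun f _ Z => inferInstanceAs (IsIso (((DTen.RHom R).map f.op).app Z))
  have := hm b.hom M
  have := hm a.hom L'
  have := hm (DTen.RHomMap a.hom L' ≫ (DTen.RHomR R K).map b.hom) M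
  have := isIso_TT (DTen.RHomMap b.hom M ≫ (DTen.RHomR R L').map c.hom) a.hom
  have := evalHom_naturality a.hom b.hom c.hom
  have : IsIso (TT (DTen.RHomMap b.hom M ≫ (DTen.RHomR R L').map c.hom) a.hom ≫
      DTen.evalHom K' L' M') := by rw [this]; infer_instance
  exact IsIso.of_isIso_comp_left (TT (DTen.RHomMap b.hom M ≫ (DTen.RHomR R L').map c.hom) a.hom) _

theorem isIso_evalHom_of_rep' (E L M : DRing.Cx R) [E.IsKProjective] [IsIso (κ L M)]
    [IsIso (κ (DRing.homCx E L) M)] (hω : IsIso (ω E L M)) :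
    IsIso (DTen.evalHom (DerivedCategory.Q.obj E) (DerivedCategory.Q.obj L) (DerivedCategory.Q.obj M)) := by
  have hE := isKFlat E
  have := DT.isIso_ε_right (K := DRing.homCx L M) hE
  have := isIso_TT (κ L M) (𝟙 (DerivedCategory.Q.obj E))
  have : IsIso (DTen.RHomMap (κ E L) (DerivedCategory.Q.obj M)) :=
    inferInstanceAs (IsIso (((DTen.RHom R).map (κ E L).op).app (DerivedCategory.Q.obj M)))
  have hkey : (TT (κ L M) (𝟙 (DerivedCategory.Q.obj E)) ≫
      DTen.evalHom (DerivedCategory.Q.obj E) (DerivedCategory.Q.obj L) (DerivedCategory.Q.obj M)) ≫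
        DTen.RHomMap (κ E L) (DerivedCategory.Q.obj M) =
      (DTen.ε R).app (DRing.homCx L M, E) ≫ DerivedCategory.Q.map (ω E L M) ≫
        κ (DRing.homCx E L) M := by
    let H₁ := DRing.homCx L M
    let H₂ := DRing.homCx E L
    apply ((DTen.rhomAdj R (DerivedCategory.Q.obj H₂)).homEquiv _ _).symm.injective
    rw [Adjunction.homEquiv_counit, Adjunction.homEquiv_counit, Functor.map_comp, Functor.map_comp,
      Functor.map_comp, Functor.map_comp, Category.assoc, Category.assoc, Category.assoc, Category.assoc]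
    have n₁ := (DTen.ε R).naturality (Prod.mkHom (ω E L M) (𝟙 H₂))
    have n₂ := (DTen.ε R).naturality (Prod.mkHom (𝟙 H₁) ((DTen.braidCx E H₂).hom ≫ ev E L))
    dsimp at n₁ n₂
    simp only [MonoidalCategory.whiskerLeft_id, MonoidalCategory.id_whiskerRight, Category.id_comp,
      Category.comp_id, CategoryTheory.Functor.map_id] at n₁ n₂
    have hb : (DTen.associator (DerivedCategory.Q.obj H₁) (DerivedCategory.Q.obj E)
        (DerivedCategory.Q.obj H₂)).hom ≫ (DTen.βR R).app (H₁, (E, H₂)) =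
          (DTen.βL R).app (H₁, (E, H₂)) := by
      rw [← DTen.assocR_fac, ← DTen.assocL_fac]
      exact DTen.associator_hom_assocR_assoc _ _ _ _
    dsimp [DTen.βR, DTen.βL] at hb
    have hs := DTen.symm_fac R H₂ E
    change TT (TT (κ L M) (𝟙 _)) (𝟙 _) ≫ TT (DTen.evalHom _ _ _) (𝟙 _) ≫
        TT (DTen.RHomMap (κ E L) (DerivedCategory.Q.obj M)) (𝟙 _) ≫ DTen.ev _ _ =
      TT ((DTen.ε R).app (H₁, E)) (𝟙 (DerivedCategory.Q.obj H₂)) ≫
        TT (DerivedCategory.Q.map (ω E L M)) (𝟙 _) ≫ TT (κ H₂ M) (𝟙 _) ≫ DTen.ev _ _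
    rw [show TT (κ H₂ M) (𝟙 (DerivedCategory.Q.obj H₂)) ≫
        DTen.ev (DerivedCategory.Q.obj H₂) (DerivedCategory.Q.obj M) = _ from κ_fac H₂ M, RHomMap_ev]
    erw [TT_comp_assoc (DTen.evalHom (DerivedCategory.Q.obj E) (DerivedCategory.Q.obj L)
      (DerivedCategory.Q.obj M)) (𝟙 (DerivedCategory.Q.obj H₂)) (𝟙 _) (κ E L)]
    rw [Category.comp_id, Category.id_comp,
      show TT (DTen.evalHom (DerivedCategory.Q.obj E) (DerivedCategory.Q.obj L) (DerivedCategory.Q.obj M))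
          (κ E L) = TT (𝟙 _) (κ E L) ≫ TT (DTen.evalHom _ _ _) (𝟙 _) by
        rw [TT_comp, Category.id_comp, Category.comp_id],
      Category.assoc,
      show TT (DTen.evalHom (DerivedCategory.Q.obj E) (DerivedCategory.Q.obj L) (DerivedCategory.Q.obj M))
          (𝟙 ((DTen.RHomR R (DerivedCategory.Q.obj E)).obj (DerivedCategory.Q.obj L))) ≫ DTen.ev _ _ =
        DTen.evalHomAux _ _ _ from DTen.evalHom_fac _ _ _]
    simp only [DTen.evalHomAux]
    rw [TT_comp_assoc, Category.comp_id, Category.id_comp,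
      reassoc_of% (associator_naturality (κ L M) (𝟙 (DerivedCategory.Q.obj E)) (κ E L))]
    erw [TT_comp_assoc (κ L M) (TT (𝟙 (DerivedCategory.Q.obj E)) (κ E L))]
    rw [Category.comp_id, TT_symm_assoc]
    erw [κ_fac E L, reassoc_of% hs]
    rw [← DerivedCategory.Q.map_comp]
    rw [show TT (κ L M) ((DTen.ε R).app (E, H₂) ≫
          DerivedCategory.Q.map ((DTen.braidCx E H₂).hom ≫ ev E L)) =
        TT (𝟙 _) ((DTen.ε R).app (E, H₂)) ≫
          TT (𝟙 _) (DerivedCategory.Q.map ((DTen.braidCx E H₂).hom ≫ ev E L)) ≫ TT (κ L M) (𝟙 _) by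
      rw [TT_comp, TT_comp, Category.id_comp, Category.id_comp, Category.comp_id], Category.assoc,
      Category.assoc]
    erw [κ_fac L M, reassoc_of% n₂, reassoc_of% hb, reassoc_of% n₁]
    simp only [← DerivedCategory.Q.map_comp]
    erw [ω_fac E L M]
  have : IsIso ((TT (κ L M) (𝟙 (DerivedCategory.Q.obj E)) ≫
      DTen.evalHom (DerivedCategory.Q.obj E) (DerivedCategory.Q.obj L) (DerivedCategory.Q.obj M)) ≫
        DTen.RHomMap (κ E L) (DerivedCategory.Q.obj M)) := by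
    rw [hkey]; infer_instance
  have := IsIso.of_isIso_comp_right (TT (κ L M) (𝟙 (DerivedCategory.Q.obj E)) ≫
      DTen.evalHom (DerivedCategory.Q.obj E) (DerivedCategory.Q.obj L) (DerivedCategory.Q.obj M))
    (DTen.RHomMap (κ E L) (DerivedCategory.Q.obj M))
  exact IsIso.of_isIso_comp_left (TT (κ L M) (𝟙 (DerivedCategory.Q.obj E))) _

theorem isIso_evalHom_of_rep (E L M : DRing.Cx R) [E.IsKProjective] [L.IsKProjective]
    [(DRing.homCx E L).IsKProjective] (hω : IsIso (ω E L M)) :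
    IsIso (DTen.evalHom (DerivedCategory.Q.obj E) (DerivedCategory.Q.obj L) (DerivedCategory.Q.obj M)) :=
  isIso_evalHom_of_rep' E L M hω

theorem isIso_evalHom_of_isPerfect (K L M : Dual.D R) (hK : DRing.IsPerfect R K) :
    IsIso (DTen.evalHom K L M) := by
  obtain ⟨E, a, b, hb, hE, hP, ⟨e⟩⟩ := exists_strictlyPerfect_rep hK
  obtain ⟨L', hL, ⟨eL⟩⟩ := exists_rep L
  obtain ⟨M', -, ⟨eM⟩⟩ := DT.exists_rep M
  have := isKProjective_homCx E hb hE L'
  exact isIso_evalHom_of_iso e eL.symm eM (isIso_evalHom_of_rep E L' M' (isIso_ω E hb hE L' M'))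

end Groth.Agent.KFlat.HomD
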