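import Groth.Agent.Lib.KFlat.BcCx
import Groth.Agent.Lib.KFlat.EvalHom

/-!
The base change map of derived hom, on representatives.
-/

set_option autoImplicit false
set_option linter.unusedSectionVars false
set_option backward.isDefEq.respectTransparency false

universe u

open CategoryTheory CategoryTheory.Limits MonoidalCategory CochainComplex.HomComplex

attribute [local instance] HasDerivedCategory.standard

namespace Groth.Agent.KFlat.Bc

open Groth.Agent.KFlat.HomAdj Groth.Agent.KFlat.HomD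

variable {R R' : Type u} [CommRing R] [CommRing R'] (φ : R →+* R')

/-! ### Complexes -/

theorem qis_of_res {K K' : DRing.Cx R'} (f : K ⟶ K') (h : DTen.qis R ((DTen.resCx φ).map f)) :
    DTen.qis R' f := by
  have : QuasiIso (((ModuleCat.restrictScalars.{u} φ).mapHomologicalComplex (ComplexShape.up ℤ)).map f) := h
  exact (HomologicalComplex.quasiIso_map_iff_of_preservesHomology f (ModuleCat.restrictScalars.{u} φ)).1 this

theorem isKProjective_extCx (P : DRing.Cx R) [P.IsKProjective] :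
    ((DTen.extCx φ).obj P).IsKProjective where
  nonempty_homotopy_zero {N} f hN := by
    have hres : ((DTen.resCx φ).obj N).Acyclic := fun n =>
      (hN n).map (ModuleCat.restrictScalars.{u} φ)
    obtain ⟨h⟩ := CochainComplex.IsKProjective.nonempty_homotopy_zero
      ((DT.cxAdj φ).homEquiv _ _ f) hres
    have h' : Homotopy ((DTen.extCx φ).map ((DT.cxAdj φ).homEquiv _ _ f) ≫ (DT.cxAdj φ).counit.app N) 0 :=
      (((ModuleCat.extendScalars.{u, u, u} φ).mapHomotopy h).compRight ((DT.cxAdj φ).counit.app N)).trans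
        (Homotopy.ofEq (by rw [Functor.map_zero, zero_comp]))
    exact ⟨(Homotopy.ofEq (((DT.cxAdj φ).homEquiv_counit _ _ _).symm.trans
      (((DT.cxAdj φ).homEquiv _ _).symm_apply_apply f)).symm).trans h'⟩

theorem e_naturality {X Y : DRing.Cx R} (g : X ⟶ Y) :
    S φ ◁ g ≫ e φ Y = e φ X ≫ (DTen.resCx φ).map ((DTen.extCx φ).map g) := by
  ext n : 1
  refine tn_ext fun i j h s x => ?_
  by_cases hi : i = 0
  swap
  · rw [S_X_eq_zero φ hi s, tn_zero_left, map_zero, map_zero]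
  subst hi
  obtain rfl : j = n := by omega
  simp only [HomologicalComplex.comp_f, ModuleCat.comp_apply]
  rw [tn_whiskerLeft, e_tn, e_tn]
  refine Eq.trans ?_ (map_smul (((DTen.extCx φ).map g).f j).hom _ _).symm
  exact congrArg (fun t => sc φ s • (show ((DTen.extCx φ).obj Y).X j from t)) (extCx_map_un φ g j x).symm

theorem β_unit_fac (P Y : DRing.Cx R) :
    ((DTen.unitCx φ).app (DRing.homCx P Y) ≫ (DTen.resCx φ).map (β φ P Y)) ▷ P ≫
      (DTen.resCx φ).obj (DRing.homCx ((DTen.extCx φ).obj P) ((DTen.extCx φ).obj Y)) ◁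
        (DTen.unitCx φ).app P ≫
      DTen.resTenCx φ _ _ ≫ (DTen.resCx φ).map (ev ((DTen.extCx φ).obj P) ((DTen.extCx φ).obj Y)) =
    ev P Y ≫ (DTen.unitCx φ).app Y := by
  ext n : 1
  refine tn_ext fun i j h z x => ?_
  simp only [HomologicalComplex.comp_f, ModuleCat.comp_apply]
  rw [tn_whiskerRight, tn_whiskerLeft]
  refine Eq.trans ?_ (congrArg _ (ev_tn P Y i j n h z x)).symm
  refine (congrArg _ (resTenCx_tn φ _ _ i j n h _ _)).trans ?_
  refine (ev_tn ((DTen.extCx φ).obj P) ((DTen.extCx φ).obj Y) i j n h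
    ((β φ P Y).f i (un φ (DRing.homCx P Y) i z)) (un φ P j x)).trans ?_
  exact β_v φ P Y i j n (by omega) z x

theorem θ_naturality {K K' : DRing.Cx R} (q : K ⟶ K') (P Y : DRing.Cx R) :
    q ▷ DRing.homCx P Y ≫ θ K' P Y = θ K P Y ≫ (DRing.homCxFunctor P).map (q ▷ Y) := by
  ext n : 1
  refine tn_ext fun i j h k z => ?_
  refine Cochain.ext (F := P) (G := K' ⊗ Y) _ _ fun p q' hq => ?_
  ext x
  simp only [HomologicalComplex.comp_f, ModuleCat.comp_apply]
  refine Eq.trans ?_ (homCxMap_v P (q ▷ Y) n _ p q' hq x).symm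
  rw [tn_whiskerRight, θ_v K' P Y i j n h _ z p q' (p + j) hq rfl x,
    θ_v K P Y i j n h k z p q' (p + j) hq rfl x, tn_whiskerRight]

theorem qis_β (P Y : DRing.Cx R) [P.IsKProjective] (hY : DRing.IsKFlat R Y) {F : DRing.Cx R}
    (r : F ⟶ DRing.homCx P Y) (hr : DTen.qis R r) (hF : DRing.IsKFlat R F)
    {G : DRing.Cx R} (q : G ⟶ S φ) (hq : DTen.qis R q) (hG : DRing.IsKFlat R G)
    (hθ : DTen.qis R (θ G P Y)) :
    DTen.qis R' ((DTen.extCx φ).map r ≫ β φ P Y) := by
  apply qis_of_res φ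
  have := isIso_e φ F
  have := isIso_e φ Y
  have := isIso_σ φ P ((DTen.extCx φ).obj Y)
  have : QuasiIso r := hr
  have : QuasiIso q := hq
  have : QuasiIso (θ G P Y) := hθ
  have : QuasiIso (q ▷ Y) := DT.quasiIso_whiskerRight q hY
  have : QuasiIso (q ▷ F) := DT.quasiIso_whiskerRight q hF
  have : QuasiIso (G ◁ r) := DT.quasiIso_whiskerLeft r hG
  have := quasiIso_homCx_map P (q ▷ Y)
  have hθn : q ▷ DRing.homCx P Y ≫ θ (S φ) P Y =
      θ G P Y ≫ (DRing.homCxFunctor P).map (q ▷ Y) := θ_naturality q P Y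
  have h : QuasiIso (q ▷ F ≫ S φ ◁ r ≫ θ (S φ) P Y) := by
    rw [← whisker_exchange_assoc, hθn]
    infer_instance
  have := quasiIso_of_comp_left (q ▷ F) (S φ ◁ r ≫ θ (S φ) P Y)
  have he : e φ F ≫ (DTen.resCx φ).map ((DTen.extCx φ).map r ≫ β φ P Y) ≫
      σ φ P ((DTen.extCx φ).obj Y) =
      (S φ ◁ r ≫ θ (S φ) P Y) ≫ (DRing.homCxFunctor P).map (e φ Y) := by
    rw [Functor.map_comp, Category.assoc, ← reassoc_of% (e_naturality φ r), e_β_σ, Category.assoc]
  have : QuasiIso (e φ F ≫ (DTen.resCx φ).map ((DTen.extCx φ).map r ≫ β φ P Y) ≫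
      σ φ P ((DTen.extCx φ).obj Y)) := by
    rw [he]; infer_instance
  have := quasiIso_of_comp_left (e φ F) ((DTen.resCx φ).map ((DTen.extCx φ).map r ≫ β φ P Y) ≫
      σ φ P ((DTen.extCx φ).obj Y))
  exact quasiIso_of_comp_right _ (σ φ P ((DTen.extCx φ).obj Y))

/-! ### The derived category -/

variable [DTen.HasLTen R] [DTen.HasLTen R'] [DTen.HasRHom R] [DTen.HasRHom R'] [DTen.HasLBase φ]
  [DTen.HasResTen φ] [DTen.ResLegIso φ]

theorem map_ev' {A : Type u} [CommRing A] [DTen.HasLTen A] [DTen.HasRHom A] {M L L' : Dual.D A}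
    (b : L ⟶ L') : TT ((DTen.RHomR A M).map b) (𝟙 M) ≫ DTen.ev M L' = DTen.ev M L ≫ b :=
  (DTen.rhomAdj A M).counit.naturality b

@[reassoc]
theorem RHomMap_ev' {A : Type u} [CommRing A] [DTen.HasLTen A] [DTen.HasRHom A] {L L' : Dual.D A}
    (g : L' ⟶ L) (M : Dual.D A) :
    TT (DTen.RHomMap g M) (𝟙 L') ≫ DTen.ev L' M = TT (𝟙 _) g ≫ DTen.ev L M :=
  DTen.RHom_map_ev g M

theorem rhom_hom_ext {A : Type u} [CommRing A] [DTen.HasLTen A] [DTen.HasRHom A] {T K N : Dual.D A}
    {f g : T ⟶ (DTen.RHomR A K).obj N} (h : TT f (𝟙 K) ≫ DTen.ev K N = TT g (𝟙 K) ≫ DTen.ev K N) :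
    f = g := by
  apply ((DTen.rhomAdj A K).homEquiv _ _).symm.injective
  rw [Adjunction.homEquiv_counit, Adjunction.homEquiv_counit]
  exact h

theorem rhomBC_naturality (K : Dual.D R) {N N' : Dual.D R'} (b : N ⟶ N') :
    (DRing.restrictD φ).map ((DTen.RHomR R' ((DTen.LBase φ).obj K)).map b) ≫ DTen.rhomBC φ K N' =
      DTen.rhomBC φ K N ≫ (DTen.RHomR R K).map ((DRing.restrictD φ).map b) := by
  apply rhom_hom_ext
  have h1 : TT (DTen.rhomBC φ K N') (𝟙 K) ≫ DTen.ev K _ = DTen.rhomBCCore φ K N' :=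
    DTen.rhomBC_fac φ K N'
  have h2 : TT (DTen.rhomBC φ K N) (𝟙 K) ≫ DTen.ev K _ = DTen.rhomBCCore φ K N :=
    DTen.rhomBC_fac φ K N
  have hs : ∀ {X Y Z : Dual.D R} (p : X ⟶ Y) (q : Y ⟶ Z), TT (p ≫ q) (𝟙 K) = TT p (𝟙 K) ≫ TT q (𝟙 K) :=
    fun p q => by rw [TT_comp, Category.id_comp]
  rw [hs, hs, Category.assoc, Category.assoc, h1, map_ev', reassoc_of% h2]
  have hp := (DTen.resPF φ).naturality (Prod.mkHom ((DTen.RHomR R' ((DTen.LBase φ).obj K)).map b)
      (𝟙 ((DTen.LBase φ).obj K)) :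
    ((DTen.RHomR R' ((DTen.LBase φ).obj K)).obj N, (DTen.LBase φ).obj K) ⟶
      ((DTen.RHomR R' ((DTen.LBase φ).obj K)).obj N', (DTen.LBase φ).obj K))
  dsimp [DTen.rhomBCCore] at hp ⊢
  rw [CategoryTheory.Functor.map_id] at hp
  simp only [Category.assoc]
  rw [← Functor.map_comp, ← map_ev', Functor.map_comp, ← reassoc_of% hp, TT_comp_assoc, TT_comp_assoc]
  simp

/-- The composite through which `bcRHom` is computed on representatives. -/
theorem bcRHom_rep (P Y : DRing.Cx R) [P.IsKProjective] [((DTen.extCx φ).obj P).IsKProjective]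
    {K M : Dual.D R} (v : K ⟶ DerivedCategory.Q.obj P) (w : DerivedCategory.Q.obj Y ⟶ M) [IsIso w]
    [IsIso (DTen.rhomBC φ K ((DTen.LBase φ).obj M))] :
    (DTen.LBase φ).map (κ P Y ≫ DTen.RHomMap v (DerivedCategory.Q.obj Y) ≫ (DTen.RHomR R K).map w) ≫
        DTen.bcRHom φ K M ≫
        (DTen.RHomR R' ((DTen.LBase φ).obj K)).map
          (inv ((DTen.LBase φ).map w) ≫ (DTen.baseCmp φ).app Y) =
      (DTen.baseCmp φ).app (DRing.homCx P Y) ≫ DerivedCategory.Q.map (β φ P Y) ≫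
        κ ((DTen.extCx φ).obj P) ((DTen.extCx φ).obj Y) ≫
        DTen.RHomMap ((DTen.LBase φ).map v ≫ (DTen.baseCmp φ).app P)
          (DerivedCategory.Q.obj ((DTen.extCx φ).obj Y)) := by
  set b := inv ((DTen.LBase φ).map w) ≫ (DTen.baseCmp φ).app Y with hb
  set a := (DTen.LBase φ).map v ≫ (DTen.baseCmp φ).app P with ha
  let P' := (DTen.extCx φ).obj P
  let Y' := (DTen.extCx φ).obj Y
  let H := DRing.homCx P Y
  let H' := DRing.homCx P' Y'
  apply ((DTen.baseAdj φ).homEquiv _ _).injective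
  rw [Adjunction.homEquiv_unit, Adjunction.homEquiv_unit]
  simp only [Functor.map_comp, Category.assoc]
  have hu := (DTen.baseAdj φ).unit.naturality
    (κ P Y ≫ DTen.RHomMap v (DerivedCategory.Q.obj Y) ≫ (DTen.RHomR R K).map w)
  dsimp at hu
  simp only [Functor.map_comp, Category.assoc] at hu
  rw [← reassoc_of% hu, reassoc_of% (DTen.bcRHom_fac φ K M)]
  -- compose with the (invertible) comparison
  have := DT.isIso_rhomBC φ K (DerivedCategory.Q.obj Y')
  rw [← cancel_mono (DTen.rhomBC φ K (DerivedCategory.Q.obj Y'))]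
  simp only [Category.assoc]
  erw [rhomBC_naturality φ K b]
  rw [IsIso.inv_hom_id_assoc, ← Functor.map_comp, ← Functor.map_comp,
    reassoc_of% (DTen.baseCmp_fac φ H)]
  have hwb : w ≫ (DTen.baseAdj φ).unit.app M ≫ (DRing.restrictD φ).map b =
      DerivedCategory.Q.map ((DTen.unitCx φ).app Y) ≫ (DTen.resFactors φ).inv.app Y' := by
    have hn := (DTen.baseAdj φ).unit.naturality w
    dsimp at hn
    rw [reassoc_of% hn, ← Functor.map_comp, hb, IsIso.hom_inv_id_assoc, DTen.baseCmp_fac]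
    rfl
  rw [hwb]
  have hva : (DTen.baseAdj φ).unit.app K ≫ (DRing.restrictD φ).map a =
      v ≫ DerivedCategory.Q.map ((DTen.unitCx φ).app P) ≫ (DTen.resFactors φ).inv.app P' := by
    have hn := (DTen.baseAdj φ).unit.naturality v
    dsimp at hn
    rw [ha, Functor.map_comp, ← reassoc_of% hn, DTen.baseCmp_fac]
    rfl
  apply rhom_hom_ext
  have hs : ∀ {X X' X'' : Dual.D R} (p : X ⟶ X') (q : X' ⟶ X''),
      TT (p ≫ q) (𝟙 K) = TT p (𝟙 K) ≫ TT q (𝟙 K) := fun p q => by rw [TT_comp, Category.id_comp]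
  rw [hs, hs, Category.assoc, Category.assoc, map_ev', RHomMap_ev'_assoc, TT_comp_assoc,
    Category.comp_id, Category.id_comp]
  -- the left hand side
  rw [show TT (κ P Y) v = TT (𝟙 _) v ≫ TT (κ P Y) (𝟙 _) by
      rw [TT_comp, Category.id_comp, Category.comp_id], Category.assoc]
  erw [reassoc_of% (κ_fac P Y)]
  -- the right hand side
  simp only [hs, Category.assoc]
  erw [DTen.rhomBC_fac]
  have hm₁ : TT (κ P' Y' ≫ DTen.RHomMap a (DerivedCategory.Q.obj Y')) (𝟙 ((DTen.LBase φ).obj K)) ≫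
      DTen.ev ((DTen.LBase φ).obj K) (DerivedCategory.Q.obj Y') =
      TT (𝟙 _) a ≫ (DTen.ε R').app (H', P') ≫ DerivedCategory.Q.map (ev P' Y') := by
    rw [← κ_fac P' Y', show TT (κ P' Y' ≫ DTen.RHomMap a (DerivedCategory.Q.obj Y'))
        (𝟙 ((DTen.LBase φ).obj K)) = TT (κ P' Y') (𝟙 _) ≫ TT (DTen.RHomMap a _) (𝟙 _) by
      rw [TT_comp, Category.id_comp], Category.assoc, RHomMap_ev', TT_comp_assoc]
    erw [TT_comp_assoc]
    simp only [Category.id_comp, Category.comp_id]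
    refine congrArg (fun t => t ≫ DTen.ev (DerivedCategory.Q.obj P') (DerivedCategory.Q.obj Y')) ?_
    congr 2
    · exact Category.comp_id _
    · exact (Category.comp_id a).symm
  have hp₁ := (DTen.resPF φ).naturality (Prod.mkHom (κ P' Y' ≫ DTen.RHomMap a (DerivedCategory.Q.obj Y'))
      (𝟙 ((DTen.LBase φ).obj K)) :
    (DerivedCategory.Q.obj H', (DTen.LBase φ).obj K) ⟶
      ((DTen.RHomR R' ((DTen.LBase φ).obj K)).obj (DerivedCategory.Q.obj Y'), (DTen.LBase φ).obj K))
  have hp₃ := (DTen.resPF φ).naturality (Prod.mkHom (𝟙 (DerivedCategory.Q.obj H')) a :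
    (DerivedCategory.Q.obj H', (DTen.LBase φ).obj K) ⟶
      (DerivedCategory.Q.obj H', DerivedCategory.Q.obj P'))
  have hc : (DTen.resPF φ).app (DerivedCategory.Q.obj H', DerivedCategory.Q.obj P') ≫
      (DRing.restrictD φ).map ((DTen.ε R').app (H', P')) =
      TT ((DTen.resFactors φ).hom.app H') ((DTen.resFactors φ).hom.app P') ≫
        (DTen.ε R).app ((DTen.resCx φ).obj H', (DTen.resCx φ).obj P') ≫
        DerivedCategory.Q.map (DTen.resTenCx φ H' P') ≫
        (DTen.resFactors φ).inv.app (H' ⊗ P') := by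
    rw [← cancel_mono ((DTen.resFactors φ).hom.app (H' ⊗ P'))]
    simp only [Category.assoc]
    exact (DTen.resPF_fac φ (H', P')).trans (by simp [DTen.resβA])
  dsimp at hp₁ hp₃
  rw [CategoryTheory.Functor.map_id] at hp₁ hp₃
  have hβ : (DTen.baseγ φ).app H ≫ (DRing.restrictD φ).map (DerivedCategory.Q.map (β φ P Y)) =
      DerivedCategory.Q.map ((DTen.unitCx φ).app H ≫ (DTen.resCx φ).map (β φ P Y)) ≫
        (DTen.resFactors φ).inv.app H' := by
    have hn := (DTen.resFactors φ).inv.naturality (β φ P Y)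
    dsimp [DTen.baseγ] at hn ⊢
    rw [Category.assoc, Functor.map_comp_assoc]
    erw [← hn]
  have hgen : ∀ g : DerivedCategory.Q.obj H ⟶ (DRing.restrictD φ).obj (DerivedCategory.Q.obj H'),
      TT (g ≫ (DRing.restrictD φ).map (κ P' Y' ≫ DTen.RHomMap a (DerivedCategory.Q.obj Y')))
          ((DTen.baseAdj φ).unit.app K) ≫
        (DTen.resPF φ).app ((DTen.RHomR R' ((DTen.LBase φ).obj K)).obj (DerivedCategory.Q.obj Y'),
          (DTen.LBase φ).obj K) ≫
        (DRing.restrictD φ).map (DTen.ev ((DTen.LBase φ).obj K) (DerivedCategory.Q.obj Y')) =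
      TT g (v ≫ DerivedCategory.Q.map ((DTen.unitCx φ).app P) ≫ (DTen.resFactors φ).inv.app P') ≫
        TT ((DTen.resFactors φ).hom.app H') ((DTen.resFactors φ).hom.app P') ≫
        (DTen.ε R).app ((DTen.resCx φ).obj H', (DTen.resCx φ).obj P') ≫
        DerivedCategory.Q.map (DTen.resTenCx φ H' P') ≫
        (DTen.resFactors φ).inv.app (H' ⊗ P') ≫
        (DRing.restrictD φ).map (DerivedCategory.Q.map (ev P' Y')) := by
    intro g
    rw [← hva, ← reassoc_of% hc]
    rw [show TT (g ≫ (DRing.restrictD φ).map (κ P' Y' ≫ DTen.RHomMap a (DerivedCategory.Q.obj Y')))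
          ((DTen.baseAdj φ).unit.app K) = TT g ((DTen.baseAdj φ).unit.app K) ≫
        TT ((DRing.restrictD φ).map (κ P' Y' ≫ DTen.RHomMap a (DerivedCategory.Q.obj Y'))) (𝟙 _) by
      rw [TT_comp, Category.comp_id], Category.assoc]
    erw [reassoc_of% hp₁]
    rw [← Functor.map_comp, hm₁, Functor.map_comp, Functor.map_comp]
    erw [← reassoc_of% hp₃]
    rw [TT_comp_assoc]
    simp only [Category.comp_id]
  dsimp only [DTen.rhomBCCore]
  erw [TT_comp_assoc, TT_comp_assoc, TT_comp_assoc, TT_comp_assoc]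
  simp only [Category.comp_id, Category.id_comp, Category.assoc]
  erw [← Functor.map_comp (DRing.restrictD φ) (κ P' Y') (DTen.RHomMap a (DerivedCategory.Q.obj Y'))]
  erw [← Category.assoc ((DTen.baseγ φ).app H)]
  rw [hβ]
  erw [hgen]
  simp only [Category.assoc, TT_comp_assoc, Iso.inv_hom_id_app]
  erw [Category.comp_id, Category.comp_id]
  rw [show TT (DerivedCategory.Q.map ((DTen.unitCx φ).app H ≫ (DTen.resCx φ).map (β φ P Y)))
      (v ≫ DerivedCategory.Q.map ((DTen.unitCx φ).app P)) =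
      TT (𝟙 _) v ≫ TT (DerivedCategory.Q.map ((DTen.unitCx φ).app H ≫ (DTen.resCx φ).map (β φ P Y)))
        (DerivedCategory.Q.map ((DTen.unitCx φ).app P)) by
      rw [TT_comp, Category.id_comp], Category.assoc]
  refine congrArg (fun t => TT (𝟙 _) v ≫ t) ?_
  have hε := (DTen.ε R).naturality (Prod.mkHom ((DTen.unitCx φ).app H ≫ (DTen.resCx φ).map (β φ P Y))
    ((DTen.unitCx φ).app P))
  have hn := (DTen.resFactors φ).inv.naturality (ev P' Y')
  dsimp at hε hn
  erw [reassoc_of% hε, ← hn, ← Functor.map_comp_assoc, ← Functor.map_comp_assoc,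
    ← Functor.map_comp_assoc]
  simp only [Category.assoc]
  rw [β_unit_fac]

theorem isIso_bcRHom_of_qis (P Y : DRing.Cx R) [P.IsKProjective] (hY : DRing.IsKFlat R Y)
    {K M : Dual.D R} (v : K ≅ DerivedCategory.Q.obj P) (w : DerivedCategory.Q.obj Y ≅ M)
    [IsIso (DTen.rhomBC φ K ((DTen.LBase φ).obj M))]
    {G : DRing.Cx R} (q : G ⟶ S φ) (hq : DTen.qis R q) (hG : DRing.IsKFlat R G)
    (hθ : DTen.qis R (θ G P Y)) :
    IsIso (DTen.bcRHom φ K M) := by
  have := isKProjective_extCx φ P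
  let F := (DT.res R).obj (DRing.homCx P Y)
  let r : F ⟶ DRing.homCx P Y := (DT.aug R).app _
  have hr : DTen.qis R r := DT.qis_aug _
  have hF : DRing.IsKFlat R F := DT.isKFlat_res _
  have := DT.isIso_Q_map r hr
  have := DT.isIso_baseCmp_app φ hF
  have := DT.isIso_baseCmp_app φ (isKFlat P)
  have := DT.isIso_baseCmp_app φ hY
  have := DT.isIso_Q_map _ (qis_β φ P Y hY r hr hF q hq hG hθ)
  have : IsIso ((DTen.baseCmp φ).app (DRing.homCx P Y) ≫ DerivedCategory.Q.map (β φ P Y)) := by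
    have hn := (DTen.baseCmp φ).naturality r
    dsimp at hn
    have : IsIso ((DTen.LBase φ).map (DerivedCategory.Q.map r) ≫
        (DTen.baseCmp φ).app (DRing.homCx P Y) ≫ DerivedCategory.Q.map (β φ P Y)) := by
      rw [reassoc_of% hn, ← Functor.map_comp]
      infer_instance
    exact IsIso.of_isIso_comp_left ((DTen.LBase φ).map (DerivedCategory.Q.map r)) _
  have hm : ∀ {A : Type u} [CommRing A] [DTen.HasLTen A] [DTen.HasRHom A] {X X' : Dual.D A} (f : X ⟶ X')
      [IsIso f] (Z : Dual.D A), IsIso (DTen.RHomMap f Z) :=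
    fun {A} _ _ _ {X X'} f _ Z => inferInstanceAs (IsIso (((DTen.RHom A).map f.op).app Z))
  have := hm v.hom (DerivedCategory.Q.obj Y)
  have := hm ((DTen.LBase φ).map v.hom ≫ (DTen.baseCmp φ).app P)
    (DerivedCategory.Q.obj ((DTen.extCx φ).obj Y))
  have key := bcRHom_rep φ P Y v.hom w.hom
  rw [← Category.assoc ((DTen.baseCmp φ).app (DRing.homCx P Y))] at key
  set L := (DTen.LBase φ).map (κ P Y ≫ DTen.RHomMap v.hom (DerivedCategory.Q.obj Y) ≫
    (DTen.RHomR R K).map w.hom)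
  set N := (DTen.RHomR R' ((DTen.LBase φ).obj K)).map
    (inv ((DTen.LBase φ).map w.hom) ≫ (DTen.baseCmp φ).app Y)
  have : IsIso (L ≫ DTen.bcRHom φ K M ≫ N) := by
    rw [key]; infer_instance
  have := IsIso.of_isIso_comp_left L (DTen.bcRHom φ K M ≫ N)
  exact IsIso.of_isIso_comp_right (DTen.bcRHom φ K M) N

end Groth.Agent.KFlat.Bc
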