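import Groth.Agent.Lib.DMod.Amplitude
import Groth.Agent.Lib.FlatSyz.TorDim
import Groth.Prelude.Def_DRing2

/-!
Finite tor dimension gives a finite flat resolution.
-/

set_option autoImplicit false

universe u

open CategoryTheory CategoryTheory.Limits MonoidalCategory

attribute [local instance] HasDerivedCategory.standard

namespace Groth.Agent.KFlat.TorFlat

open Groth.Agent.DMod

variable {A : Type u} [CommRing A]

theorem isZero_tor_congr {M M' : Type u} [AddCommGroup M] [Module A M] [AddCommGroup M'] [Module A M']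
    (e : M ≃ₗ[A] M') (n : ℕ) (N : ModuleCat.{u} A) :
    IsZero (((Tor (ModuleCat.{u} A) n).obj (ModuleCat.of A M)).obj N) ↔
      IsZero (((Tor (ModuleCat.{u} A) n).obj (ModuleCat.of A M')).obj N) :=
  (((Tor (ModuleCat.{u} A) n).mapIso e.toModuleIso).app N).isZero_iff

/-- The cokernel of the differential arriving at degree `j`. -/
abbrev Z (P : DRing.Cx A) (j : ℤ) : Type u := P.X j ⧸ LinearMap.range (P.d (j - 1) j).hom

/-- A module of tor dimension `≤ d` has a resolution by flat modules of length `d`. -/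
theorem exists_flat_resolution (M : Type u) [AddCommGroup M] [Module A M] (d : ℕ)
    (h : DRing.HasTorDimLE A d M) :
    ∃ G : DRing.Cx A, DRing.VanishesOutside G (-(d : ℤ)) 0 ∧ (∀ i, Module.Flat A (G.X i)) ∧
      ∃ q : G ⟶ (HomologicalComplex.single (ModuleCat.{u} A) (ComplexShape.up ℤ) 0).obj
          (ModuleCat.of A M), QuasiIso q := by
  let S : DRing.Cx A :=
    (HomologicalComplex.single (ModuleCat.{u} A) (ComplexShape.up ℤ) 0).obj (ModuleCat.of A M)
  let eS : Dual.inD A M ≅ DRing.toD S :=
    ((DerivedCategory.singleFunctorIsoCompQ (ModuleCat.{u} A) 0).app (ModuleCat.of A M))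
  have : (DRing.toD S).IsLE 0 := (tS A).isLE_of_iso eS 0
  have hge : (DRing.toD S).IsGE 0 := (tS A).isGE_of_iso eS 0
  obtain ⟨P, hPle, hPf, ⟨eP⟩⟩ := exists_free_resolution (DRing.toD S) 0
  have hproj : ∀ i, Module.Projective A (P.X i) := fun i => have := hPf i; inferInstance
  have := isKProjective 0 hproj
  have hPge : (DRing.toD P).IsGE 0 := (tS A).isGE_of_iso eP.symm 0
  have hexact : ∀ i : ℤ, i < 0 → ∀ x : P.X i, P.d i (i + 1) x = 0 → ∃ y, P.d (i - 1) i y = x :=
    fun i hi => (subsingleton_homology_iff P (i := i - 1) (k := i + 1) (by simp) (by simp)).1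
      ((subsingleton_HD_toD_iff P i).1 ((isGE_iff _ 0).1 hPge i hi))
  -- the degree zero cokernel is `M`
  obtain ⟨eT⟩ := exists_truncFrom_iso P 0
  have hv := (vanishesOutside_iff _ _ _).1 (vanishesOutside_truncFrom P 0 0)
  obtain ⟨_, _⟩ := hv
  let eX : (truncFrom P 0) ≅ (HomologicalComplex.single (ModuleCat.{u} A) (ComplexShape.up ℤ) 0).obj
      ((truncFrom P 0).X 0) :=
    Classical.choice (by
      obtain ⟨N, ⟨e⟩⟩ := CochainComplex.exists_iso_single (truncFrom P 0) 0
      let t : (truncFrom P 0).X 0 ≅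
          ((HomologicalComplex.single (ModuleCat.{u} A) (ComplexShape.up ℤ) 0).obj N).X 0 :=
        (HomologicalComplex.eval _ _ 0).mapIso e
      exact ⟨e ≪≫ (HomologicalComplex.single _ _ 0).mapIso
        (t ≪≫ HomologicalComplex.singleObjXSelf (ComplexShape.up ℤ) 0 N).symm⟩)
  let eM : (truncFrom P 0).X 0 ≅ ModuleCat.of A M :=
    (DerivedCategory.singleFunctor (ModuleCat.{u} A) 0).preimageIso
      ((DerivedCategory.singleFunctorIsoCompQ (ModuleCat.{u} A) 0).app _ ≪≫
        DerivedCategory.Q.mapIso eX.symm ≪≫ eT ≪≫ eP ≪≫ eS.symm)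
  -- dimension shifting
  have hflat : ∀ k : ℕ, k ≤ d → ∀ j : ℤ, j = -(k : ℤ) → ∀ (m : ℕ), d - k ≤ m → ∀ N : ModuleCat.{u} A,
      IsZero (((Tor (ModuleCat.{u} A) (m + 1)).obj (ModuleCat.of A (Z P j))).obj N) := by
    intro k
    induction k with
    | zero =>
      intro _ j hj m hm N
      obtain rfl : j = 0 := by omega
      rw [isZero_tor_congr ((truncFromBotEquiv P 0).trans eM.toLinearEquiv)]
      have := h N (m + 1) (by omega)
      exact ModuleCat.isZero_of_subsingleton _
    | succ k ih =>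
      intro hk j hj m hm N
      have hk' : j + 1 = -(k : ℤ) := by omega
      have := hproj (j + 1)
      have hd : j + 1 - 1 = j := by omega
      let i : Z P j →ₗ[A] P.X (j + 1) :=
        (LinearMap.range (P.d (j - 1) j).hom).liftQ (P.d j (j + 1)).hom (by
          rintro _ ⟨y, rfl⟩
          change P.d j (j + 1) (P.d (j - 1) j y) = 0
          rw [← ModuleCat.comp_apply, P.d_comp_d]
          rfl)
      have hi : Function.Injective i := (injective_iff_map_eq_zero _).2 fun z hz => by
        obtain ⟨x, rfl⟩ := Submodule.mkQ_surjective _ z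
        exact (Submodule.Quotient.mk_eq_zero _).2 (hexact j (by omega) x hz)
      have hex : Function.Exact i (LinearMap.range (P.d (j + 1 - 1) (j + 1)).hom).mkQ := by
        rw [LinearMap.exact_iff, Submodule.ker_mkQ]
        change _ = LinearMap.range ((LinearMap.range _).liftQ _ _)
        rw [Submodule.range_liftQ, hd]
      exact (FlatSyz.isZero_tor_shift i hi _ hex (Submodule.mkQ_surjective _) m).1
        (ih (by omega) (j + 1) hk' (m + 1) (by omega) N)
  have hflat' : Module.Flat A (Z P (-(d : ℤ))) :=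
    FlatSyz.flat_iff_isZero_tor_one.2 fun N => hflat d le_rfl _ rfl 0 (by omega) N
  -- the resolution
  have : (DRing.toD P).IsGE (-(d : ℤ)) :=
    (tS A).isGE_of_ge _ (-(d : ℤ)) 0 (by omega)
  have hSge : S.IsStrictlyGE (-(d : ℤ)) := (CochainComplex.isStrictlyGE_iff S _).2 fun i hi =>
    HomologicalComplex.isZero_single_obj_X (ComplexShape.up ℤ) 0 _ i (by omega)
  obtain ⟨g, hg⟩ := exists_map_eq eP.hom
  obtain ⟨q, hq⟩ := exists_truncFrom_desc P g (-(d : ℤ))
  refine ⟨truncFrom P (-(d : ℤ)), vanishesOutside_truncFrom P _ 0,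
    truncFrom_mem modClass_flat P _ (fun i _ => have := hproj i; inferInstance)
      (Module.Flat.of_linearEquiv (truncFromBotEquiv P (-(d : ℤ))).symm), q, ?_⟩
  rw [← DerivedCategory.isIso_Q_map_iff_quasiIso]
  have := isIso_Q_map_truncFromπ P (-(d : ℤ))
  have : IsIso (DerivedCategory.Q.map (truncFromπ P (-(d : ℤ))) ≫ DerivedCategory.Q.map q) := by
    rw [← Functor.map_comp, hq, hg]
    infer_instance
  exact IsIso.of_isIso_comp_left (DerivedCategory.Q.map (truncFromπ P (-(d : ℤ)))) _

end Groth.Agent.KFlat.TorFlat
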