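import Groth.Agent.Lib.KFlat.BcD
import Groth.Agent.Lib.KFlat.TorFlat
import Groth.Agent.Lib.DMod.TruncGE

/-!
The cases in which the base change map of derived hom is an isomorphism.
-/

set_option autoImplicit false
set_option linter.unusedSectionVars false
set_option backward.isDefEq.respectTransparency false

universe u

open CategoryTheory CategoryTheory.Limits MonoidalCategory

attribute [local instance] HasDerivedCategory.standard

namespace Groth.Agent.KFlat.Bc

open Groth.Agent.KFlat.HomAdj Groth.Agent.KFlat.HomD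

variable {R : Type u} [CommRing R]

theorem isKFlat_of_flat (G : DRing.Cx R) (b : ℤ) [G.IsStrictlyLE b]
    (hG : ∀ i, _root_.Module.Flat R (G.X i)) : DRing.IsKFlat R G :=
  (Module.isKFlat_iff G).1
    (KFlat.isKFlat_of_boundedAbove_flat G b fun i => (Module.isFlat_iff _).2 (hG i))

theorem strictlyPerfect_rep {K : Dual.D R} (hK : DRing.IsPerfect R K) :
    ∃ (E : DRing.Cx R) (a b : ℤ), DRing.VanishesOutside E a b ∧ DRing.TermwiseFiniteProjective E ∧
      E.IsKProjective ∧ Nonempty (DerivedCategory.Q.obj E ≅ K) := by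
  obtain ⟨E, a, b, hb, hE, he⟩ := hK
  have := ((Groth.Agent.DMod.vanishesOutside_iff E a b).1 hb).2
  exact ⟨E, a, b, hb, hE, Groth.Agent.DMod.isKProjective b fun i => (hE i).2, he⟩

theorem qis_θ_of_bounded (E G Y : DRing.Cx R) [E.IsKProjective]
    (hE : DRing.TermwiseFiniteProjective E) (e : ℤ) (hEe : DRing.VanishesAbove E e)
    (c d : ℤ) (hGb : DRing.VanishesOutside G c d) (hG : DRing.IsKFlat R G)
    (n : ℤ) (hY : (DRing.toD Y).IsGE n) : DTen.qis R (θ G E Y) := by
  let π := Groth.Agent.DMod.truncFromπ Y n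
  let Y₀ := Groth.Agent.DMod.truncFrom Y n
  have : QuasiIso π := (DerivedCategory.isIso_Q_map_iff_quasiIso (C := ModuleCat.{u} R) π).1
    (Groth.Agent.DMod.isIso_Q_map_truncFromπ Y n)
  have : IsIso (θ G E Y₀) := isIso_θ_window E hE G Y₀ (fun m => Finset.Icc (n - m + c) e)
    fun m p hp i j hij => by
      by_cases hi : i < c ∨ d < i
      · exact Or.inr (Or.inl fun k =>
          (ModuleCat.subsingleton_of_isZero (hGb i hi)).elim k 0)
      by_cases he : e < p
      · exact Or.inl fun x => (ModuleCat.subsingleton_of_isZero (hEe p he)).elim x 0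
      · simp only [Finset.mem_Icc] at hp
        exact Or.inr (Or.inr fun y => (ModuleCat.subsingleton_of_isZero
          (Groth.Agent.DMod.isZero_truncFrom_X Y (n := n) (i := p + j) (by omega))).elim y 0)
  have := quasiIso_homCx_map E π
  have : QuasiIso (G ◁ (DRing.homCxFunctor E).map π) := DT.quasiIso_whiskerLeft _ hG
  have : QuasiIso (G ◁ π) := DT.quasiIso_whiskerLeft _ hG
  have := quasiIso_homCx_map E (G ◁ π)
  have h : G ◁ (DRing.homCxFunctor E).map π ≫ θ G E Y₀ =
      θ G E Y ≫ (DRing.homCxFunctor E).map (G ◁ π) := by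
    ext N : 1
    refine tn_ext fun i j hij k z => ?_
    refine CochainComplex.HomComplex.Cochain.ext (F := E) (G := G ⊗ Y₀) _ _ fun p q hq => ?_
    ext x
    simp only [HomologicalComplex.comp_f, ModuleCat.comp_apply]
    refine Eq.trans ?_ (homCxMap_v E (G ◁ π) N _ p q hq x).symm
    rw [tn_whiskerLeft]
    refine (θ_v G E Y₀ i j N hij k _ p q (p + j) hq rfl x).trans ?_
    refine Eq.trans ?_ (congrArg _ (θ_v G E Y i j N hij k z p q (p + j) hq rfl x)).symm
    refine Eq.trans ?_ (tn_whiskerLeft _ _ i (p + j) q _ k _).symm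
    exact congrArg _ (homCxMap_v E π j z p (p + j) rfl x)
  have : QuasiIso (θ G E Y ≫ (DRing.homCxFunctor E).map (G ◁ π)) := by
    rw [← h]; infer_instance
  exact quasiIso_of_comp_right _ ((DRing.homCxFunctor E).map (G ◁ π))

variable {R' : Type u} [CommRing R'] [DTen.HasLTen R] [DTen.HasLTen R'] [DTen.HasRHom R]
  [DTen.HasRHom R']

section ring

variable (φ : R →+* R') [DTen.HasLBase φ] [DTen.HasResTen φ] [DTen.ResLegIso φ]

theorem isIso_bcRHom_of_isPerfect (K M : Dual.D R)
    [IsIso (DTen.rhomBC φ K ((DTen.LBase φ).obj M))] (hK : DRing.IsPerfect R K) :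
    IsIso (DTen.bcRHom φ K M) := by
  obtain ⟨E, a, b, hb, hE, hP, ⟨v⟩⟩ := strictlyPerfect_rep hK
  obtain ⟨Y, hY, ⟨w⟩⟩ := DT.exists_rep M
  let G := (DT.res R).obj (S φ)
  have : IsIso (θ G E Y) := isIso_θ_right E hb hE G Y
  exact isIso_bcRHom_of_qis φ E Y hY v.symm w ((DT.aug R).app (S φ)) (DT.qis_aug _)
    (DT.isKFlat_res _) (show QuasiIso (θ G E Y) from inferInstance)

theorem isIso_bcRHom_of_bounded (K M : Dual.D R)
    [IsIso (DTen.rhomBC φ K ((DTen.LBase φ).obj M))] (hK : DRing.IsPseudoCoherent' R K) (n : ℤ)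
    (hM : DerivedCategory.IsGE M n) (G : DRing.Cx R) (c d : ℤ) (hGb : DRing.VanishesOutside G c d)
    (hGf : ∀ i, _root_.Module.Flat R (G.X i)) (q : G ⟶ S φ) (hq : QuasiIso q) :
    IsIso (DTen.bcRHom φ K M) := by
  obtain ⟨E, e, hEe, hEf, ⟨v⟩⟩ := hK
  have hEp : DRing.TermwiseFiniteProjective E := fun i =>
    have := (hEf i).2
    ⟨(hEf i).1, inferInstance⟩
  have := (Groth.Agent.DMod.vanishesAbove_iff E e).1 hEe
  have := Groth.Agent.DMod.isKProjective e fun i => (hEp i).2
  obtain ⟨_, _⟩ := (Groth.Agent.DMod.vanishesOutside_iff G c d).1 hGb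
  have hG : DRing.IsKFlat R G := isKFlat_of_flat G d hGf
  obtain ⟨Y, hY, ⟨w⟩⟩ := DT.exists_rep M
  exact isIso_bcRHom_of_qis φ E Y hY v.symm w q hq hG
    (qis_θ_of_bounded E G Y hEp e hEe c d hGb hG n
      ((Groth.Agent.DMod.tS R).isGE_of_iso w.symm n))

end ring

section algebra

variable [Algebra R R'] [DTen.HasLBase (algebraMap R R')] [DTen.HasResTen (algebraMap R R')]
  [DTen.ResLegIso (algebraMap R R')]

/-- `R'` as a complex of `R`-modules concentrated in degree zero. -/
noncomputable def sIso :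
    (HomologicalComplex.single (ModuleCat.{u} R) (ComplexShape.up ℤ) 0).obj (ModuleCat.of R R') ≅
      S (algebraMap R R') :=
  (HomologicalComplex.single (ModuleCat.{u} R) (ComplexShape.up ℤ) 0).mapIso
    (LinearEquiv.toModuleIso (X₁ := (ModuleCat.of R R'))
      (X₂ := (ModuleCat.restrictScalars.{u} (algebraMap R R')).obj (ModuleCat.of R' R'))
      { toFun := fun x => x
        invFun := fun x => x
        map_add' := fun _ _ => rfl
        map_smul' := fun r x => Algebra.smul_def r x
        left_inv := fun _ => rfl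
        right_inv := fun _ => rfl }) ≪≫
  ((HomologicalComplex.singleMapHomologicalComplex (ModuleCat.restrictScalars.{u} (algebraMap R R'))
    (ComplexShape.up ℤ) 0).app (ModuleCat.of R' R')).symm

theorem isIso_bcRHom_of_isPerfectModule (K M : Dual.D R)
    [IsIso (DTen.rhomBC (algebraMap R R') K ((DTen.LBase (algebraMap R R')).obj M))]
    (hR' : DRing.IsPerfectModule R R') : IsIso (DTen.bcRHom (algebraMap R R') K M) := by
  obtain ⟨G, a, b, hb, hG, hP, ⟨g⟩⟩ := strictlyPerfect_rep hR'
  obtain ⟨q, hq⟩ := Groth.Agent.DMod.exists_map_eq (P := G) (L := S (algebraMap R R'))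
    (g ≪≫ (DerivedCategory.singleFunctorIsoCompQ (ModuleCat.{u} R) 0).app (ModuleCat.of R R') ≪≫
      DerivedCategory.Q.mapIso sIso).hom
  have : QuasiIso q := by
    rw [← DerivedCategory.isIso_Q_map_iff_quasiIso, hq]
    infer_instance
  obtain ⟨P, hP', ⟨v⟩⟩ := HomD.exists_rep K
  obtain ⟨Y, hY, ⟨w⟩⟩ := DT.exists_rep M
  have : IsIso (θ G P Y) := isIso_θ_left G hb hG P Y
  exact isIso_bcRHom_of_qis (algebraMap R R') P Y hY v.symm w q (show QuasiIso q from inferInstance) (HomD.isKFlat G)
    (show QuasiIso (θ G P Y) from inferInstance)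

theorem isIso_bcRHom_of_hasFiniteTorDim (K M : Dual.D R)
    [IsIso (DTen.rhomBC (algebraMap R R') K ((DTen.LBase (algebraMap R R')).obj M))]
    (hR' : DRing.HasFiniteTorDim R R') (hK : DRing.IsPseudoCoherent' R K) (n : ℤ)
    (hM : DerivedCategory.IsGE M n) : IsIso (DTen.bcRHom (algebraMap R R') K M) := by
  obtain ⟨d, hd⟩ := hR'
  obtain ⟨G, hGb, hGf, q, hq⟩ := TorFlat.exists_flat_resolution R' d hd
  exact isIso_bcRHom_of_bounded (algebraMap R R') K M hK n hM G _ _ hGb hGf
    (q ≫ sIso.hom) inferInstance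

theorem isIso_bcRHom_of_flat (K M : Dual.D R) [_root_.Module.Flat R R']
    [IsIso (DTen.rhomBC (algebraMap R R') K ((DTen.LBase (algebraMap R R')).obj M))]
    (hK : DRing.IsPseudoCoherent' R K) (n : ℤ)
    (hM : DerivedCategory.IsGE M n) : IsIso (DTen.bcRHom (algebraMap R R') K M) := by
  let G := (HomologicalComplex.single (ModuleCat.{u} R) (ComplexShape.up ℤ) 0).obj (ModuleCat.of R R')
  have hz : ∀ i, i ≠ 0 → IsZero (G.X i) := fun i hi =>
    HomologicalComplex.isZero_single_obj_X (ComplexShape.up ℤ) 0 _ i hi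
  refine isIso_bcRHom_of_bounded (algebraMap R R') K M hK n hM G 0 0 (fun i hi => hz i (by omega))
    (fun i => ?_) sIso.hom inferInstance
  by_cases hi : i = 0
  · subst hi
    exact _root_.Module.Flat.of_linearEquiv
      (HomologicalComplex.singleObjXSelf (ComplexShape.up ℤ) 0 (ModuleCat.of R R')).toLinearEquiv
  · have := ModuleCat.subsingleton_of_isZero (hz i hi)
    exact Groth.Agent.DMod.modClass_flat.subsingleton _

end algebra

end Groth.Agent.KFlat.Bc
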