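import Groth.Agent.Lib.KFlat.EvalHom
import Groth.Agent.Lib.DMod.TruncGE
import Mathlib.Algebra.Homology.DerivedCategory.KInjective
import Mathlib.Algebra.Category.ModuleCat.Injective

/-!
Internal hom into a K-injective complex, and the evaluation map for pseudo-coherent sources.
-/

set_option autoImplicit false
set_option linter.unusedSectionVars false
set_option backward.isDefEq.respectTransparency false

universe u

open CategoryTheory CategoryTheory.Limits MonoidalCategory

attribute [local instance] HasDerivedCategory.standard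

namespace Groth.Agent.KFlat.HomD

open Groth.Agent.KFlat.HomAdj

variable {R : Type u} [CommRing R]

theorem exists_map_eq_of_isKInjective {K L : DRing.Cx R} [L.IsKInjective]
    (f : DerivedCategory.Q.obj K ⟶ DerivedCategory.Q.obj L) :
    ∃ g : K ⟶ L, DerivedCategory.Q.map g = f := by
  let e := DerivedCategory.quotientCompQhIso (ModuleCat.{u} R)
  obtain ⟨g, hg⟩ := (CochainComplex.IsKInjective.Qh_map_bijective _ L).surjective
    (e.hom.app K ≫ f ≫ e.inv.app L)
  obtain ⟨g, rfl⟩ := (HomotopyCategory.quotient (ModuleCat.{u} R) (ComplexShape.up ℤ)).map_surjective g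
  refine ⟨g, ?_⟩
  rw [← cancel_epi (e.hom.app K), ← cancel_mono (e.inv.app L), Category.assoc]
  refine Eq.trans ?_ (hg.trans (Category.assoc _ _ _).symm)
  have := e.hom.naturality g
  rw [← Category.assoc, ← this, Category.assoc, Iso.hom_inv_id_app, Category.comp_id]
  rfl

theorem homotopy_of_map_eq {K L : DRing.Cx R} [L.IsKInjective] {f g : K ⟶ L}
    (h : DerivedCategory.Q.map f = DerivedCategory.Q.map g) : Nonempty (Homotopy f g) := by
  let e := DerivedCategory.quotientCompQhIso (ModuleCat.{u} R)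
  let q := HomotopyCategory.quotient (ModuleCat.{u} R) (ComplexShape.up ℤ)
  refine ⟨HomotopyCategory.homotopyOfEq _ _ ((CochainComplex.IsKInjective.Qh_map_bijective _ L).injective ?_)⟩
  rw [← cancel_mono (e.hom.app L)]
  have hf := e.hom.naturality f
  have hg := e.hom.naturality g
  dsimp at hf hg
  exact hf.trans ((congrArg (e.hom.app K ≫ ·) h).trans hg.symm)

theorem map_eq_of_homotopy {K L : DRing.Cx R} {f g : K ⟶ L} (h : Homotopy f g) :
    DerivedCategory.Q.map f = DerivedCategory.Q.map g := by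
  let e := DerivedCategory.quotientCompQhIso (ModuleCat.{u} R)
  rw [← NatIso.naturality_1 e f, ← NatIso.naturality_1 e g]
  exact congrArg (fun t => e.inv.app K ≫ DerivedCategory.Qh.map t ≫ e.hom.app L)
    (HomotopyCategory.eq_of_homotopy _ _ h)

variable [DTen.HasLTen R] [DTen.HasRHom R]

theorem isIso_κ_of_isKInjective (M L : DRing.Cx R) [L.IsKInjective] : IsIso (κ M L) := by
  suffices h : ∀ T : Dual.D R, Function.Bijective
      (fun g : T ⟶ DerivedCategory.Q.obj (DRing.homCx M L) => g ≫ κ M L) by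
    obtain ⟨s, hs⟩ := (h _).2 (𝟙 _)
    exact ⟨s, (h _).1 (by simpa [Category.assoc] using congrArg (κ M L ≫ ·) hs), hs⟩
  intro T
  obtain ⟨P, hP, ⟨e⟩⟩ := exists_rep T
  suffices h : Function.Bijective
      (fun g : DerivedCategory.Q.obj P ⟶ DerivedCategory.Q.obj (DRing.homCx M L) => g ≫ κ M L) by
    refine ⟨fun g g' hg => (cancel_epi e.hom).1 (h.1 ?_), fun t => ?_⟩
    · simp only [Category.assoc]
      exact congrArg (e.hom ≫ ·) hg
    · obtain ⟨g, hg⟩ := h.2 (e.hom ≫ t)
      exact ⟨e.inv ≫ g, (Category.assoc _ _ _).trans ((congrArg (e.inv ≫ ·) hg).trans (e.inv_hom_id_assoc t))⟩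
  have := DT.isIso_ε_left (L := M) (isKFlat P)
  let E := DTen.rhomHomEquiv (DerivedCategory.Q.obj P) (DerivedCategory.Q.obj M) (DerivedCategory.Q.obj L)
  have key : ∀ g₀ : P ⟶ DRing.homCx M L, DerivedCategory.Q.map g₀ ≫ κ M L =
      E ((DTen.ε R).app (P, M) ≫ DerivedCategory.Q.map (((adj M).homEquiv P L).symm g₀)) := by
    intro g₀
    apply E.symm.injective
    rw [Equiv.symm_apply_apply]
    refine ((DTen.rhomAdj R (DerivedCategory.Q.obj M)).homEquiv_counit _ _ _).trans ?_
    change TT (DerivedCategory.Q.map g₀ ≫ κ M L) (𝟙 _) ≫ DTen.ev _ _ = _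
    rw [show TT (DerivedCategory.Q.map g₀ ≫ κ M L) (𝟙 (DerivedCategory.Q.obj M)) =
        TT (DerivedCategory.Q.map g₀) (𝟙 _) ≫ TT (κ M L) (𝟙 _) by rw [TT_comp, Category.id_comp],
      Category.assoc]
    erw [κ_fac M L]
    have hn := (DTen.ε R).naturality (Prod.mkHom g₀ (𝟙 M))
    dsimp at hn
    simp only [CategoryTheory.Functor.map_id, MonoidalCategory.whiskerLeft_id, Category.comp_id] at hn
    rw [reassoc_of% hn, ← Functor.map_comp]
    refine congrArg (fun t => (DTen.ε R).app (P, M) ≫ DerivedCategory.Q.map t) ?_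
    exact ((adj M).homEquiv_counit _ _ _).symm
  constructor
  · intro g g' hg
    obtain ⟨g₀, rfl⟩ := Groth.Agent.DMod.exists_map_eq g
    obtain ⟨g₀', rfl⟩ := Groth.Agent.DMod.exists_map_eq g'
    dsimp at hg
    rw [key, key] at hg
    obtain ⟨h⟩ := homotopy_of_map_eq ((cancel_epi _).1 (E.injective hg))
    obtain ⟨H⟩ := (splitPres_homCx M).homotopy h
    refine map_eq_of_homotopy ((Homotopy.ofEq ?_).trans
      ((H.compLeft ((adj M).unit.app P)).trans (Homotopy.ofEq ?_)))
    · exact (((adj M).homEquiv P L).apply_symm_apply g₀).symm.trans ((adj M).homEquiv_unit _ _ _)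
    · exact ((adj M).homEquiv_unit _ _ _).symm.trans (((adj M).homEquiv P L).apply_symm_apply g₀')
  · intro t
    obtain ⟨f, hf⟩ := exists_map_eq_of_isKInjective (L := L)
      (inv ((DTen.ε R).app (P, M)) ≫ E.symm t : DerivedCategory.Q.obj (P ⊗ M) ⟶ _)
    refine ⟨DerivedCategory.Q.map ((adj M).homEquiv P L f), ?_⟩
    dsimp
    rw [key]
    erw [Equiv.symm_apply_apply]
    rw [hf, IsIso.hom_inv_id_assoc, Equiv.apply_symm_apply]

theorem isIso_evalHom_of_isPseudoCoherent [DTen.HasLTen₃ R] [DTen.IsSymMonoidal R] (K L M : Dual.D R)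
    (hK : DRing.IsPseudoCoherent' R K) (n : ℤ) (hL : DerivedCategory.IsGE L n)
    (hM : DRing.HasFiniteInjDim R M) : IsIso (DTen.evalHom K L M) := by
  obtain ⟨E, e, hEe, hEf, ⟨v⟩⟩ := hK
  have hEp : DRing.TermwiseFiniteProjective E := fun i =>
    have := (hEf i).2
    ⟨(hEf i).1, inferInstance⟩
  have := (Groth.Agent.DMod.vanishesAbove_iff E e).1 hEe
  have := Groth.Agent.DMod.isKProjective e fun i => (hEp i).2
  obtain ⟨c, d, J, hJb, hJi, ⟨w⟩⟩ := hM
  obtain ⟨_, _⟩ := (Groth.Agent.DMod.vanishesOutside_iff J c d).1 hJb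
  have : ∀ i, Injective (J.X i) := fun i =>
    (Module.injective_iff_injective_object R (J.X i)).1 (hJi i)
  have := CochainComplex.isKInjective_of_injective J c
  obtain ⟨L', -, ⟨u⟩⟩ := DT.exists_rep L
  have : (DRing.toD L').IsGE n := (Groth.Agent.DMod.tS R).isGE_of_iso u.symm n
  obtain ⟨u'⟩ := Groth.Agent.DMod.exists_truncFrom_iso L' n
  let L₀ := Groth.Agent.DMod.truncFrom L' n
  have := isIso_κ_of_isKInjective L₀ J
  have := isIso_κ_of_isKInjective (DRing.homCx E L₀) J
  have hω : IsIso (ω E L₀ J) := isIso_ω_window E hEp L₀ J (fun m => Finset.Icc (m + n - d) e)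
    fun m p hp => by
      by_cases he : e < p
      · exact Or.inl fun x => (ModuleCat.subsingleton_of_isZero (hEe p he)).elim x 0
      · simp only [Finset.mem_Icc] at hp
        refine Or.inr fun q r hqr => ?_
        by_cases hq : q < n
        · exact Or.inl fun y => (ModuleCat.subsingleton_of_isZero
            (Groth.Agent.DMod.isZero_truncFrom_X L' hq)).elim y 0
        · exact Or.inr fun y => (ModuleCat.subsingleton_of_isZero (hJb r (by omega))).elim y 0
  exact isIso_evalHom_of_iso v (u' ≪≫ u).symm w (isIso_evalHom_of_rep' E L₀ J hω)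

end Groth.Agent.KFlat.HomD
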