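import Groth.Agent.Lib.KFlat.Tensor
import Groth.Agent.Lib.KFlat.Colim
import Groth.Agent.Lib.KFlat.Brutal
import Mathlib.CategoryTheory.Abelian.Exact
import Mathlib.CategoryTheory.Abelian.GrothendieckAxioms.Colim
import Mathlib.Algebra.Homology.Single

/-!
K-flat complexes and flat objects for a biadditive bifunctor.
-/

set_option autoImplicit false
set_option linter.unusedSectionVars false

universe v u w w'

open CategoryTheory CategoryTheory.Limits

namespace Groth.Agent.KFlat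

variable {C : Type u} [Category.{v} C] [Abelian C] [HasColimitsOfSize.{0, 0} C]
  (T : C ⥤ C ⥤ C) [T.Additive] [∀ X, (T.obj X).Additive]

/-- `E` is K-flat (on the right): `L ⊗ E` is acyclic for every acyclic `L`. -/
def IsKFlat (E : CochainComplex C ℤ) : Prop :=
  ∀ L : CochainComplex C ℤ, L.Acyclic → (((tcx T).obj L).obj E).Acyclic

/-- Flat on both sides. -/
structure IsFlat (T : C ⥤ C ⥤ C) (X : C) : Prop where
  left : (T.obj X).PreservesMonomorphisms
  right : (T.flip.obj X).PreservesMonomorphisms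

omit [Abelian C] [HasColimitsOfSize.{0, 0} C] [T.Additive] [∀ X, (T.obj X).Additive] in
theorem IsFlat.flip {X : C} (h : IsFlat T X) : IsFlat T.flip X :=
  ⟨h.right, h.left⟩

variable {T}

theorem acyclic_of_quasiIso {K L : CochainComplex C ℤ} (f : K ⟶ L) [QuasiIso f] (h : K.Acyclic) :
    L.Acyclic := fun i => (exactAt_iff_of_quasiIsoAt f i).1 (h i)

theorem acyclic_of_quasiIso' {K L : CochainComplex C ℤ} (f : K ⟶ L) [QuasiIso f] (h : L.Acyclic) :
    K.Acyclic := fun i => (exactAt_iff_of_quasiIsoAt f i).2 (h i)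

theorem acyclic_of_iso {K L : CochainComplex C ℤ} (h : K.Acyclic) (e : K ≅ L) : L.Acyclic :=
  acyclic_of_quasiIso e.hom h

theorem acyclic_X₃ {S : ShortComplex (CochainComplex C ℤ)} (hS : S.ShortExact) (h₁ : S.X₁.Acyclic)
    (h₂ : S.X₂.Acyclic) : S.X₃.Acyclic := fun i => hS.exactAt_X₃ i
  ⟨fun _ _ _ => ((HomologicalComplex.exactAt_iff_isZero_homology _ _).1 (h₂ i)).eq_of_src _ _⟩
  fun j _ => ⟨fun _ _ _ => ((HomologicalComplex.exactAt_iff_isZero_homology _ _).1 (h₁ j)).eq_of_tgt _ _⟩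

theorem acyclic_X₁ {S : ShortComplex (CochainComplex C ℤ)} (hS : S.ShortExact) (h₂ : S.X₂.Acyclic)
    (h₃ : S.X₃.Acyclic) : S.X₁.Acyclic := fun i => hS.exactAt_X₁ i
  ⟨fun _ _ _ => ((HomologicalComplex.exactAt_iff_isZero_homology _ _).1 (h₂ i)).eq_of_tgt _ _⟩
  fun j _ => ⟨fun _ _ _ => ((HomologicalComplex.exactAt_iff_isZero_homology _ _).1 (h₃ j)).eq_of_src _ _⟩

theorem isKFlat_flip_iff (E : CochainComplex C ℤ) :
    IsKFlat T.flip E ↔ ∀ L : CochainComplex C ℤ, L.Acyclic → (((tcx T).obj E).obj L).Acyclic :=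
  ⟨fun h L hL => acyclic_of_iso (h L hL) (flipIso T L E),
    fun h L hL => acyclic_of_iso (h L hL) (flipIso T L E).symm⟩

theorem IsKFlat.of_iso {E E' : CochainComplex C ℤ} (h : IsKFlat T E) (e : E ≅ E') : IsKFlat T E' :=
  fun L hL => acyclic_of_iso (h L hL) (((tcx T).obj L).mapIso e)

theorem IsKFlat.quasiIso_map₁ {E : CochainComplex C ℤ} (h : IsKFlat T E)
    {P Q : CochainComplex C ℤ} (f : P ⟶ Q) [QuasiIso f] :
    QuasiIso (((tcx T).map f).app E) :=
  (splitPres_right T E).quasiIso_map_of_acyclic f (h _ (acyclic_cylCoker f))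

theorem IsKFlat.quasiIso_map₂ {E : CochainComplex C ℤ} (h : IsKFlat T.flip E)
    {P Q : CochainComplex C ℤ} (f : P ⟶ Q) [QuasiIso f] :
    QuasiIso (((tcx T).obj E).map f) :=
  (splitPres_left T E).quasiIso_map_of_acyclic f
    ((isKFlat_flip_iff E).1 h _ (acyclic_cylCoker f))

theorem isKFlat_of_isZero {E : CochainComplex C ℤ} (h : IsZero E) : IsKFlat T E := fun L _ =>
  (splitPres_left T L).acyclic_of_contractible (K := E) (Homotopy.ofEq (h.eq_of_src _ _))

theorem isKFlat_of_contractible {E : CochainComplex C ℤ} (h : Homotopy (𝟙 E) 0) : IsKFlat T E :=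
  fun L _ => (splitPres_left T L).acyclic_of_contractible h

section Split

variable {S : ShortComplex (CochainComplex C ℤ)}
  (hS : ∀ i : ℤ, Nonempty ((S.map (HomologicalComplex.eval C (ComplexShape.up ℤ) i)).Splitting))

include hS

theorem IsKFlat.X₂_of_split (h₁ : IsKFlat T S.X₁) (h₃ : IsKFlat T S.X₃) : IsKFlat T S.X₂ :=
  fun L hL => ((splitPres_left T L).shortExact S hS).acyclic_X₂ (h₁ L hL) (h₃ L hL)

theorem IsKFlat.X₃_of_split (h₁ : IsKFlat T S.X₁) (h₂ : IsKFlat T S.X₂) : IsKFlat T S.X₃ :=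
  fun L hL => KFlat.acyclic_X₃ ((splitPres_left T L).shortExact S hS) (h₁ L hL) (h₂ L hL)

theorem IsKFlat.X₁_of_split (h₂ : IsKFlat T S.X₂) (h₃ : IsKFlat T S.X₃) : IsKFlat T S.X₁ :=
  fun L hL => KFlat.acyclic_X₁ ((splitPres_left T L).shortExact S hS) (h₂ L hL) (h₃ L hL)

end Split

theorem IsKFlat.biprod {P Q : CochainComplex C ℤ} (hP : IsKFlat T P) (hQ : IsKFlat T Q) :
    IsKFlat T (P ⊞ Q) :=
  IsKFlat.X₂_of_split (S := ShortComplex.mk (biprod.inl : P ⟶ P ⊞ Q) biprod.snd biprod.inl_snd)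
    (fun i => ⟨(ShortComplex.Splitting.ofHasBinaryBiproduct P Q).map
      (HomologicalComplex.eval C (ComplexShape.up ℤ) i)⟩) hP hQ

theorem IsKFlat.cylCoker {P Q : CochainComplex C ℤ} (f : P ⟶ Q) (hP : IsKFlat T P)
    (hQ : IsKFlat T Q) : IsKFlat T (KFlat.cylCoker f) :=
  IsKFlat.X₃_of_split (S := cylSC f) (cylSC_splitting f) hP
    (hQ.biprod (isKFlat_of_contractible (CochainComplex.mappingCone.homotopyToZeroOfId P)))

/-- Tensoring with any complex preserves quasi-isomorphisms between K-flat complexes. -/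
theorem quasiIso_map₂_of_isKFlat {P Q : CochainComplex C ℤ} (f : P ⟶ Q) [QuasiIso f]
    (hP : IsKFlat T P) (hQ : IsKFlat T Q) (F : CochainComplex C ℤ)
    (hF : ∃ (K : CochainComplex C ℤ) (q : K ⟶ F), IsKFlat T.flip K ∧ QuasiIso q) :
    QuasiIso (((tcx T).obj F).map f) := by
  obtain ⟨K, q, hK, hq⟩ := hF
  refine (splitPres_left T F).quasiIso_map_of_acyclic f ?_
  have hc : IsKFlat T (KFlat.cylCoker f) := IsKFlat.cylCoker f hP hQ
  have h1 := hc.quasiIso_map₁ q
  exact acyclic_of_quasiIso (((tcx T).map q).app (KFlat.cylCoker f))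
    ((isKFlat_flip_iff K).1 hK _ (acyclic_cylCoker f))

section Colimit

variable {J : Type w} [Category.{w'} J] [HasColimitsOfShape J C] [HasExactColimitsOfShape J C]

theorem IsKFlat.colimit [∀ X, PreservesColimitsOfShape J (T.obj X)]
    [∀ X, PreservesColimitsOfShape J (T.flip.obj X)] {F : J ⥤ CochainComplex C ℤ} {c : Cocone F}
    (hc : IsColimit c) (h : ∀ j, IsKFlat T (F.obj j)) : IsKFlat T c.pt := fun L hL i => by
  have := preservesColimitsOfShape_left (T := T) (J := J) L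
  exact exactAt_colimit (isColimitOfPreserves ((tcx T).obj L) hc) i fun j => h j L hL i

end Colimit

end Groth.Agent.KFlat
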