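import Groth.Agent.Lib.KFlat.DTenBase
import Groth.Prelude.Def_DTen5
import Groth.Prelude.Def_DTen6

/-!
Derived base change is monoidal, and the comparison of internal homs along it.
-/

set_option autoImplicit false
set_option linter.unusedSectionVars false
set_option linter.unusedVariables false
set_option backward.isDefEq.respectTransparency false

universe u

open CategoryTheory CategoryTheory.Limits MonoidalCategory

attribute [local instance] HasDerivedCategory.standard

namespace Groth.Agent.KFlat.DT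

open Groth.Agent.KFlat.Module

variable {R R' : Type u} [CommRing R] [CommRing R'] (φ : R →+* R')

theorem unit_extTen (M N : ModuleCat.{u} R) :
    (ModuleCat.extendRestrictScalarsAdj.{u, u, u} φ).unit.app (M ⊗ N) ≫
        (ModuleCat.restrictScalars.{u} φ).map (Functor.OplaxMonoidal.δ (DTen.extM φ) M N) =
      ((ModuleCat.extendRestrictScalarsAdj.{u, u, u} φ).unit.app M ⊗ₘ
          (ModuleCat.extendRestrictScalarsAdj.{u, u, u} φ).unit.app N) ≫
        DTen.resTen₀app φ ((DTen.extM φ).obj M) ((DTen.extM φ).obj N) := by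
  refine ModuleCat.hom_ext (TensorProduct.ext' fun m n => ?_)
  exact ModuleCat.extendScalars_δ_tmul φ M N m n

theorem unit_extTenCx (X Y : DRing.Cx R) :
    (DTen.unitCx φ).app (X ⊗ Y) ≫ (DTen.resCx φ).map (DTen.extTenCxIso φ X Y).hom =
      ((DTen.unitCx φ).app X ⊗ₘ (DTen.unitCx φ).app Y) ≫
        DTen.resTenCx φ ((DTen.extCx φ).obj X) ((DTen.extCx φ).obj Y) := by
  refine HomologicalComplex.hom_ext _ _ fun n =>
    HomologicalComplex.mapBifunctor.hom_ext fun p q h => ?_
  rw [HomologicalComplex.comp_f, HomologicalComplex.comp_f]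
  change _ ≫ (ModuleCat.extendRestrictScalarsAdj.{u, u, u} φ).unit.app _ ≫
    (ModuleCat.restrictScalars.{u} φ).map ((DTen.extTenCxIso φ X Y).hom.f n) =
      _ ≫ (HomologicalComplex.mapBifunctorMap _ _ _ _).f n ≫ _
  erw [reassoc_of% ((ModuleCat.extendRestrictScalarsAdj.{u, u, u} φ).unit.naturality
      (HomologicalComplex.ιTensorObj X Y p q n h)),
    ← (ModuleCat.restrictScalars.{u} φ).map_comp, DTen.map_ι_extTenCxIso_hom φ X Y p q n h,
    Functor.map_comp, HomologicalComplex.ι_mapBifunctorMap_assoc,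
    DTen.ι_resTenCx φ ((DTen.extCx φ).obj X) ((DTen.extCx φ).obj Y) p q n h]
  have := unit_extTen φ (X.X p) (Y.X q)
  rw [MonoidalCategory.tensorHom_def] at this
  exact (reassoc_of% this) _

variable [DTen.HasLTen R] [DTen.HasLTen R'] [DTen.HasLBase φ] [DTen.HasResTen φ] [DTen.ResLegIso φ]

/-- The canonical map `L(a ⊗ b) ⟶ La ⊗ Lb`. -/
noncomputable def baseTen :
    DTen.LTen₂ R ⋙ DTen.LBase φ ⟶ (DTen.LBase φ).prod (DTen.LBase φ) ⋙ DTen.LTen₂ R' where
  app X := ((DTen.baseAdj φ).homEquiv _ _).symm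
    ((DTen.LTen₂ R).map (Prod.mkHom ((DTen.baseAdj φ).unit.app X.1) ((DTen.baseAdj φ).unit.app X.2)) ≫
      (DTen.resPF φ).app ((DTen.LBase φ).obj X.1, (DTen.LBase φ).obj X.2))
  naturality := by
    rintro ⟨a, b⟩ ⟨a', b'⟩ ⟨f, g⟩
    dsimp
    rw [← Adjunction.homEquiv_naturality_left_symm, ← Adjunction.homEquiv_naturality_right_symm]
    refine congrArg _ ?_
    have h := (DTen.resPF φ).naturality
      (Prod.mkHom ((DTen.LBase φ).map f) ((DTen.LBase φ).map g) :
        ((DTen.LBase φ).obj a, (DTen.LBase φ).obj b) ⟶ ((DTen.LBase φ).obj a', (DTen.LBase φ).obj b'))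
    have e1 := (DTen.baseAdj φ).unit.naturality f
    have e2 := (DTen.baseAdj φ).unit.naturality g
    dsimp at h e1 e2 ⊢
    rw [Category.assoc, ← h, ← Functor.map_comp_assoc, ← Functor.map_comp_assoc]
    refine congrArg (fun t => (DTen.LTen₂ R).map t ≫ _) ?_
    exact Prod.ext e1 e2

theorem unit_baseTen (a b : Dual.D R) :
    (DTen.baseAdj φ).unit.app ((DTen.LTen₂ R).obj (a, b)) ≫
        (DRing.restrictD φ).map ((baseTen φ).app (a, b)) =
      (DTen.LTen₂ R).map (Prod.mkHom ((DTen.baseAdj φ).unit.app a) ((DTen.baseAdj φ).unit.app b)) ≫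
        (DTen.resPF φ).app ((DTen.LBase φ).obj a, (DTen.LBase φ).obj b) :=
  ((DTen.baseAdj φ).homEquiv_unit _ _ _).symm.trans
    (((DTen.baseAdj φ).homEquiv _ _).apply_symm_apply _)

theorem baseTen_fac (X Y : DRing.Cx R) :
    (baseTen φ).app ((DTen.QQ R).obj (X, Y)) ≫
        (DTen.LTen₂ R').map (Prod.mkHom ((DTen.baseCmp φ).app X) ((DTen.baseCmp φ).app Y)) ≫
        (DTen.ε R').app ((DTen.extCx φ).obj X, (DTen.extCx φ).obj Y) =
      (DTen.LBase φ).map ((DTen.ε R).app (X, Y)) ≫ (DTen.baseCmp φ).app (X ⊗ Y) ≫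
        DerivedCategory.Q.map (DTen.extTenCxIso φ X Y).hom := by
  apply ((DTen.baseAdj φ).homEquiv _ _).injective
  rw [Adjunction.homEquiv_unit, Adjunction.homEquiv_unit]
  simp only [Functor.map_comp]
  have hu := (DTen.baseAdj φ).unit.naturality ((DTen.ε R).app (X, Y))
  have hb := DTen.baseCmp_fac φ (X ⊗ Y)
  have hr := (DTen.resFactors φ).inv.naturality (DTen.extTenCxIso φ X Y).hom
  have hp := (DTen.resPF φ).naturality (Prod.mkHom ((DTen.baseCmp φ).app X) ((DTen.baseCmp φ).app Y) :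
        ((DTen.LBase φ).obj (DerivedCategory.Q.obj X), (DTen.LBase φ).obj (DerivedCategory.Q.obj Y)) ⟶
          (DerivedCategory.Q.obj ((DTen.extCx φ).obj X), DerivedCategory.Q.obj ((DTen.extCx φ).obj Y)))
  have hc := DTen.resPF_fac φ ((DTen.extCx φ).obj X, (DTen.extCx φ).obj Y)
  have he := (DTen.ε R).naturality (Prod.mkHom ((DTen.unitCx φ).app X) ((DTen.unitCx φ).app Y))
  have hx := unit_extTenCx φ X Y
  rw [MonoidalCategory.tensorHom_def] at hx
  have ht := reassoc_of% (unit_baseTen φ (DerivedCategory.Q.obj X) (DerivedCategory.Q.obj Y))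
  dsimp [DTen.resβA, DTen.resβB, DTen.baseγ] at hu hb hr hp hc he ht ⊢
  rw [ht, ← reassoc_of% hp, ← reassoc_of% hu, reassoc_of% hb, ← hr, ← Functor.map_comp_assoc,
    ← Functor.map_comp_assoc (DerivedCategory.Q), hx, Functor.map_comp_assoc (DerivedCategory.Q)]
  erw [← reassoc_of% he]
  have hc' : (DTen.resPF φ).app (DerivedCategory.Q.obj ((DTen.extCx φ).obj X),
        DerivedCategory.Q.obj ((DTen.extCx φ).obj Y)) ≫
      (DRing.restrictD φ).map ((DTen.ε R').app ((DTen.extCx φ).obj X, (DTen.extCx φ).obj Y)) =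
      (DTen.LTen₂ R).map (Prod.mkHom ((DTen.resFactors φ).hom.app ((DTen.extCx φ).obj X))
          ((DTen.resFactors φ).hom.app ((DTen.extCx φ).obj Y))) ≫
        (DTen.ε R).app ((DTen.resCx φ).obj ((DTen.extCx φ).obj X),
          (DTen.resCx φ).obj ((DTen.extCx φ).obj Y)) ≫
        DerivedCategory.Q.map (DTen.resTenCx φ ((DTen.extCx φ).obj X) ((DTen.extCx φ).obj Y)) ≫
        (DTen.resFactors φ).inv.app _ := by
    rw [← cancel_mono ((DTen.resFactors φ).hom.app (((DTen.extCx φ).obj X) ⊗ ((DTen.extCx φ).obj Y)))]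
    simp only [Category.assoc]
    exact hc.trans (by simp)
  refine (congrArg (fun t => _ ≫ t) hc').trans ?_
  rw [← Functor.map_comp_assoc]
  refine congrArg (fun t => (DTen.LTen₂ R).map t ≫ _) ?_
  refine Prod.ext ?_ ?_
  · dsimp
    rw [DTen.baseCmp_fac]
    simp [DTen.baseγ]
  · dsimp
    rw [DTen.baseCmp_fac]
    simp [DTen.baseγ]

instance isIso_baseTen : IsIso (baseTen φ) := by
  have : ∀ X : Dual.D R × Dual.D R, IsIso ((baseTen φ).app X) := fun ⟨a, b⟩ => by
    obtain ⟨X, hX, ⟨e⟩⟩ := exists_rep a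
    obtain ⟨Y, hY, ⟨e'⟩⟩ := exists_rep b
    rw [← NatTrans.isIso_app_iff_of_iso (baseTen φ) (Iso.prod e e')]
    have := isIso_baseCmp_app φ hX
    have := isIso_baseCmp_app φ hY
    have := isIso_baseCmp_app φ (isKFlat_tensor hX hY)
    have := isIso_ε_of_both hX hY
    have := isIso_ε_of_both (isKFlat_extCx φ hX) (isKFlat_extCx φ hY)
    have h₂ : IsIso ((DTen.LTen₂ R').map (Prod.mkHom ((DTen.baseCmp φ).app X) ((DTen.baseCmp φ).app Y)) ≫
        (DTen.ε R').app ((DTen.extCx φ).obj X, (DTen.extCx φ).obj Y)) :=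
      IsIso.comp_isIso' (@Functor.map_isIso _ _ _ _ _ _ (DTen.LTen₂ R') _
        (isIso_mkHom ((DTen.baseCmp φ).app X) ((DTen.baseCmp φ).app Y))) inferInstance
    have h : IsIso ((DTen.LBase φ).map ((DTen.ε R).app (X, Y)) ≫ (DTen.baseCmp φ).app (X ⊗ Y) ≫
        DerivedCategory.Q.map (DTen.extTenCxIso φ X Y).hom) :=
      IsIso.comp_isIso' (@Functor.map_isIso _ _ _ _ _ _ (DTen.LBase φ) _ (isIso_ε_of_both hX hY))
        (IsIso.comp_isIso' (isIso_baseCmp_app φ (isKFlat_tensor hX hY)) inferInstance)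
    exact @IsIso.of_isIso_comp_right _ _ _ _ _ ((baseTen φ).app ((DTen.QQ R).obj (X, Y))) _ h₂
      (by rw [baseTen_fac]; exact h)
  exact NatIso.isIso_of_isIso_app _

theorem isIso_rhomBC [DTen.HasRHom R] [DTen.HasRHom R'] (K : Dual.D R) (M : Dual.D R') :
    IsIso (DTen.rhomBC φ K M) := by
  suffices h : ∀ T : Dual.D R, Function.Bijective
      (fun g : T ⟶ (DRing.restrictD φ).obj ((DTen.RHomR R' ((DTen.LBase φ).obj K)).obj M) =>
        g ≫ DTen.rhomBC φ K M) by
    obtain ⟨s, hs⟩ := (h _).2 (𝟙 _)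
    exact ⟨s, (h _).1 (by simpa [Category.assoc] using congrArg (DTen.rhomBC φ K M ≫ ·) hs), hs⟩
  intro T
  let E₁ := ((DTen.baseAdj φ).homEquiv T ((DTen.RHomR R' ((DTen.LBase φ).obj K)).obj M)).symm.trans
    (DTen.rhomHomEquiv ((DTen.LBase φ).obj T) ((DTen.LBase φ).obj K) M).symm
  let E₂ := ((asIso ((baseTen φ).app (T, K))).homFromEquiv (Z := M)).symm.trans
    ((DTen.baseAdj φ).homEquiv ((DTen.LTen₂ R).obj (T, K)) M)
  let E := (E₁.trans E₂).trans (DTen.rhomHomEquiv T K ((DRing.restrictD φ).obj M))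
  refine (show (fun g => g ≫ DTen.rhomBC φ K M) = E from funext fun g => ?_) ▸ E.bijective
  obtain ⟨g', rfl⟩ := ((DTen.baseAdj φ).homEquiv _ _).surjective g
  dsimp [E, E₁, E₂, Iso.homFromEquiv]
  rw [Equiv.symm_apply_apply]
  apply (DTen.rhomHomEquiv T K ((DRing.restrictD φ).obj M)).symm.injective
  rw [Equiv.symm_apply_apply]
  erw [Adjunction.homEquiv_counit, Adjunction.homEquiv_counit]
  rw [Functor.map_comp, Category.assoc]
  erw [DTen.rhomBC_fac]
  rw [Adjunction.homEquiv_unit, Adjunction.homEquiv_unit]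
  simp only [Functor.map_comp, Category.assoc]
  rw [reassoc_of% (unit_baseTen φ T K)]
  have hp := (DTen.resPF φ).naturality (Prod.mkHom g' (𝟙 ((DTen.LBase φ).obj K)) :
    ((DTen.LBase φ).obj T, (DTen.LBase φ).obj K) ⟶
      ((DTen.RHomR R' ((DTen.LBase φ).obj K)).obj M, (DTen.LBase φ).obj K))
  dsimp [DTen.rhomBCCore] at hp ⊢
  try simp only [Functor.map_comp, Category.assoc]
  rw [← reassoc_of% hp]
  simp only [← Functor.map_comp_assoc, prod_comp, Category.id_comp, Category.comp_id,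
    CategoryTheory.Functor.map_id]

end Groth.Agent.KFlat.DT
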