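import Groth.Agent.Lib.KFlat.StrengthEval
import Groth.Agent.Lib.KFlat.DTenRes

/-!
Base change of Hom complexes, on elements.
-/

set_option autoImplicit false
set_option linter.unusedSectionVars false
set_option backward.isDefEq.respectTransparency false

universe u

open CategoryTheory CategoryTheory.Limits MonoidalCategory CochainComplex.HomComplex

attribute [local instance] HasDerivedCategory.standard

namespace Groth.Agent.KFlat.Bc

open Groth.Agent.KFlat.HomAdj

variable {R R' : Type u} [CommRing R] [CommRing R'] (φ : R →+* R')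

/-- The element `1 ⊗ x` of the extended complex. -/
noncomputable abbrev un (X : DRing.Cx R) (i : ℤ) (x : X.X i) : ((DTen.extCx φ).obj X).X i :=
  ((DTen.unitCx φ).app X).f i x

theorem resTenCx_tn (Y Y' : DRing.Cx R') (p q n : ℤ) (h : p + q = n) (y : Y.X p) (y' : Y'.X q) :
    (DTen.resTenCx φ Y Y').f n (tn (K := (DTen.resCx φ).obj Y) (L := (DTen.resCx φ).obj Y') p q n h y y') =
      tn (K := Y) (L := Y') p q n h y y' := by
  have e := DTen.ι_resTenCx φ Y Y' p q n h
  exact congrArg (fun t => t.hom ((show ((DTen.resCx φ).obj Y).X p from y) ⊗ₜ[R]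
    (show ((DTen.resCx φ).obj Y').X q from y'))) e

theorem extTenCxIso_inv_un (X Y : DRing.Cx R) (p q n : ℤ) (h : p + q = n) (x : X.X p) (y : Y.X q) :
    (DTen.extTenCxIso φ X Y).inv.f n (tn p q n h (un φ X p x) (un φ Y q y)) =
      un φ (X ⊗ Y) n (tn p q n h x y) := by
  have e := congrArg (fun t => t.f n (tn p q n h x y)) (DT.unit_extTenCx φ X Y)
  simp only [HomologicalComplex.comp_f, ModuleCat.comp_apply] at e
  have e₂ : (((DTen.unitCx φ).app X ⊗ₘ (DTen.unitCx φ).app Y)).f n (tn p q n h x y) =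
      tn (K := (DTen.resCx φ).obj ((DTen.extCx φ).obj X))
        (L := (DTen.resCx φ).obj ((DTen.extCx φ).obj Y)) p q n h (un φ X p x) (un φ Y q y) := by
    rw [MonoidalCategory.tensorHom_def]
    exact (congrArg _ (tn_whiskerRight _ Y p q n h x y)).trans (tn_whiskerLeft _ _ p q n h _ y)
  replace e := (e.trans (congrArg _ e₂)).trans
    (resTenCx_tn φ ((DTen.extCx φ).obj X) ((DTen.extCx φ).obj Y) p q n h (un φ X p x) (un φ Y q y))
  exact (congrArg ((DTen.extTenCxIso φ X Y).inv.f n).hom e.symm).trans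
    (congrArg (fun t => t.f n (un φ (X ⊗ Y) n (tn p q n h x y))) (DTen.extTenCxIso φ X Y).hom_inv_id)

theorem extCx_map_un {X Y : DRing.Cx R} (g : X ⟶ Y) (i : ℤ) (x : X.X i) :
    ((DTen.extCx φ).map g).f i (un φ X i x) = un φ Y i (g.f i x) :=
  (congrArg (fun t => t.f i x) ((DTen.unitCx φ).naturality g)).symm

/-- The comparison `ext Hom•(P, Y) ⟶ Hom•(ext P, ext Y)`. -/
noncomputable def β (P Y : DRing.Cx R) :
    (DTen.extCx φ).obj (DRing.homCx P Y) ⟶ DRing.homCx ((DTen.extCx φ).obj P) ((DTen.extCx φ).obj Y) :=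
  (adj ((DTen.extCx φ).obj P)).homEquiv _ _
    ((DTen.extTenCxIso φ (DRing.homCx P Y) P).inv ≫ (DTen.extCx φ).map (ev P Y))

theorem β_fac (P Y : DRing.Cx R) :
    β φ P Y ▷ (DTen.extCx φ).obj P ≫ ev ((DTen.extCx φ).obj P) ((DTen.extCx φ).obj Y) =
      (DTen.extTenCxIso φ (DRing.homCx P Y) P).inv ≫ (DTen.extCx φ).map (ev P Y) :=
  ((adj _).homEquiv_counit _ _ _).symm.trans (((adj _).homEquiv _ _).symm_apply_apply _)

theorem β_v (P Y : DRing.Cx R) (j p q : ℤ) (h : p + j = q) (z : (DRing.homCx P Y).X j) (x : P.X p) :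
    (coc ((β φ P Y).f j (un φ (DRing.homCx P Y) j z))).v p q h (un φ P p x) =
      un φ Y q ((coc z).v p q h x) := by
  have e := congrArg (fun t => t.f q (tn j p q (by omega) (un φ (DRing.homCx P Y) j z) (un φ P p x)))
    (β_fac φ P Y)
  simp only [HomologicalComplex.comp_f, ModuleCat.comp_apply] at e
  rw [tn_whiskerRight, ev_tn] at e
  refine e.trans ((congrArg _ (extTenCxIso_inv_un φ (DRing.homCx P Y) P j p q (by omega) z x)).trans ?_)
  refine (extCx_map_un φ (ev P Y) q (tn j p q (by omega) z x)).trans ?_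
  rw [ev_tn]

/-- `R'` as a complex of `R`-modules. -/
noncomputable abbrev S : DRing.Cx R := (DTen.resCx φ).obj (𝟙_ (DRing.Cx R'))

theorem S_X_eq_zero {i : ℤ} (hi : i ≠ 0) (s : (S φ).X i) : s = 0 :=
  have := ModuleCat.subsingleton_of_isZero
    (HomologicalComplex.isZero_single_obj_X (ComplexShape.up ℤ) 0 (𝟙_ (ModuleCat.{u} R')) i hi)
  Subsingleton.elim (show (𝟙_ (DRing.Cx R')).X i from s) 0

/-- The scalar of an element of `R'` as a complex. -/
noncomputable def sc (s : (S φ).X 0) : R' :=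
  (HomologicalComplex.singleObjXSelf (ComplexShape.up ℤ) 0 (𝟙_ (ModuleCat.{u} R'))).hom
    (show (𝟙_ (DRing.Cx R')).X 0 from s)

theorem leftUnitor_tn (N : DRing.Cx R') (i : ℤ) (s : (𝟙_ (DRing.Cx R')).X 0) (w : N.X i) :
    (λ_ N).hom.f i (tn 0 i i (zero_add i) s w) =
      ((HomologicalComplex.singleObjXSelf (ComplexShape.up ℤ) 0 (𝟙_ (ModuleCat.{u} R'))).hom s : R') • w := by
  let ι₀ : (𝟙_ (DRing.Cx R')).X 0 ≅ 𝟙_ (ModuleCat.{u} R') :=
    HomologicalComplex.singleObjXSelf (ComplexShape.up ℤ) 0 (𝟙_ (ModuleCat.{u} R'))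
  have h1 : (λ_ N).inv.f i w = tn 0 i i (zero_add i) (ι₀.inv (1 : R')) w :=
    congrArg (fun t => t.hom w) (HomologicalComplex.leftUnitor'_inv N i)
  have h2 : (λ_ N).hom.f i (tn 0 i i (zero_add i) (ι₀.inv (1 : R')) w) = w := by
    rw [← h1]
    exact congrArg (fun t => t.f i w) (λ_ N).inv_hom_id
  have h3 : s = (ι₀.hom s : R') • ι₀.inv (1 : R') := by
    refine Eq.trans ?_ (map_smul ι₀.inv.hom _ _)
    exact (Iso.hom_inv_id_apply ι₀ s).symm.trans (congrArg ι₀.inv.hom (mul_one (ι₀.hom s : R')).symm)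
  conv_lhs => rw [h3, tn_smul_left]
  exact (map_smul _ _ _).trans (congrArg _ h2)

/-- `R' ⊗ X ≅ ext X` over `R`. -/
noncomputable def e (X : DRing.Cx R) : S φ ⊗ X ⟶ (DTen.resCx φ).obj ((DTen.extCx φ).obj X) :=
  S φ ◁ (DTen.unitCx φ).app X ≫ DTen.resTenCx φ (𝟙_ (DRing.Cx R')) ((DTen.extCx φ).obj X) ≫
    (DTen.resCx φ).map (λ_ ((DTen.extCx φ).obj X)).hom

theorem e_tn (X : DRing.Cx R) (i : ℤ) (s : (S φ).X 0) (x : X.X i) :
    (e φ X).f i (tn 0 i i (zero_add i) s x) =
      (show ((DTen.extCx φ).obj X).X i from sc φ s • (show ((DTen.extCx φ).obj X).X i from un φ X i x)) := by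
  simp only [e, HomologicalComplex.comp_f, ModuleCat.comp_apply]
  rw [tn_whiskerLeft]
  refine (congrArg _ (resTenCx_tn φ _ _ 0 i i (zero_add i) s (un φ X i x))).trans ?_
  exact leftUnitor_tn ((DTen.extCx φ).obj X) i s (un φ X i x)

theorem isIso_e (X : DRing.Cx R) : IsIso (e φ X) := by
  have : ∀ i, IsIso ((e φ X).f i) := fun i => by
    let := φ.toAlgebra
    let ι₀ : (𝟙_ (DRing.Cx R')).X 0 ≅ 𝟙_ (ModuleCat.{u} R') :=
      HomologicalComplex.singleObjXSelf (ComplexShape.up ℤ) 0 (𝟙_ (ModuleCat.{u} R'))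
    let g : ((DTen.resCx φ).obj ((DTen.extCx φ).obj X)).X i ⟶ (S φ ⊗ X : DRing.Cx R).X i :=
      (Module.extResIso φ).hom.app (X.X i) ≫
        ((ModuleCat.restrictScalars φ).map ι₀.inv ▷ X.X i) ≫
          HomologicalComplex.ιTensorObj (S φ) X 0 i i (zero_add i)
    have h₁ : (e φ X).f i ≫ g = 𝟙 _ := tn_ext fun p q h s x => by
      by_cases hp : p = 0
      swap
      · rw [S_X_eq_zero φ hp s, tn_zero_left, map_zero, map_zero]
      subst hp
      obtain rfl : q = i := by omega
      change g ((e φ X).f q (tn 0 q q h s x)) = tn 0 q q h s x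
      rw [e_tn]
      refine Eq.trans ?_ (congrArg (fun t => tn (K := S φ) 0 q q h t x) (Iso.hom_inv_id_apply ι₀ s))
      have hone : (show ((DTen.extCx φ).obj X).X q from sc φ s • (show ((DTen.extCx φ).obj X).X q from
          un φ X q x)) = ((sc φ s : R') ⊗ₜ[R] x :) := by
        change ((sc φ s * 1 : R') ⊗ₜ[R] x :) = _
        rw [mul_one]
      rw [hone]
      rfl
    have hsurj : Function.Surjective ((e φ X).f i).hom := fun w => by
      induction w using TensorProduct.induction_on with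
      | zero => exact ⟨0, map_zero _⟩
      | add a b ha hb =>
        obtain ⟨a', ha'⟩ := ha
        obtain ⟨b', hb'⟩ := hb
        exact ⟨a' + b', (map_add _ _ _).trans (congrArg₂ (· + ·) ha' hb')⟩
      | tmul a x =>
        refine ⟨tn 0 i i (zero_add i) (show (S φ).X 0 from ι₀.inv (show R' from a)) x, ?_⟩
        refine (e_tn φ X i _ x).trans ?_
        have : sc φ (show (S φ).X 0 from ι₀.inv (show R' from a)) = (show R' from a) :=
          Iso.inv_hom_id_apply ι₀ _
        rw [this]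
        change (((show R' from a) * 1 : R') ⊗ₜ[R] x :) = _
        rw [mul_one]
    rw [ConcreteCategory.isIso_iff_bijective]
    exact ⟨Function.LeftInverse.injective (g := g.hom) fun t => congrArg (fun k => k.hom t) h₁, hsurj⟩
  exact HomologicalComplex.Hom.isIso_of_components _

/-- Adjointness of extension and restriction on Hom complexes. -/
noncomputable def σ (P : DRing.Cx R) (N : DRing.Cx R') :
    (DTen.resCx φ).obj (DRing.homCx ((DTen.extCx φ).obj P) N) ⟶
      DRing.homCx P ((DTen.resCx φ).obj N) where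
  f n := ModuleCat.ofHom
    (X := (((DTen.resCx φ).obj (DRing.homCx ((DTen.extCx φ).obj P) N)).X n : ModuleCat.{u} R))
    (Y := ((DRing.homCx P ((DTen.resCx φ).obj N)).X n : ModuleCat.{u} R))
    { toFun := fun z => (Cochain.mk fun p q h => ((DTen.unitCx φ).app P).f p ≫
        (ModuleCat.restrictScalars φ).map
          ((coc (show (DRing.homCx ((DTen.extCx φ).obj P) N).X n from z)).v p q h) :
            Cochain P ((DTen.resCx φ).obj N) n)
      map_add' := fun z z' => Cochain.ext _ _ fun p q h => by ext x; rfl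
      map_smul' := fun r z => Cochain.ext _ _ fun p q h => by ext x; rfl }
  comm' := by
    rintro n n' (rfl : n + 1 = n')
    ext z
    refine Cochain.ext (F := P) (G := (DTen.resCx φ).obj N) _ _ fun p q h => ?_
    ext x
    let zz : (DRing.homCx ((DTen.extCx φ).obj P) N).X n := z
    let Z : Cochain P ((DTen.resCx φ).obj N) n := Cochain.mk fun p q h =>
      ((DTen.unitCx φ).app P).f p ≫ (ModuleCat.restrictScalars φ).map ((coc zz).v p q h)
    change (δ n (n + 1) Z).v p q h x = (δ n (n + 1) (coc zz)).v p q h (un φ P p x)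
    rw [δ_v n (n + 1) rfl Z p q h (q - 1) (p + 1) rfl rfl,
      δ_v n (n + 1) rfl (coc zz) p q h (q - 1) (p + 1) rfl rfl]
    have hc := congrArg (fun t => t.hom x) (((DTen.unitCx φ).app P).comm p (p + 1))
    change N.d (q - 1) q ((coc zz).v p (q - 1) (by omega) (un φ P p x)) +
        (n + 1).negOnePow • (coc zz).v (p + 1) q (by omega) (un φ P (p + 1) (P.d p (p + 1) x)) =
      N.d (q - 1) q ((coc zz).v p (q - 1) (by omega) (un φ P p x)) +
        (n + 1).negOnePow • (coc zz).v (p + 1) q (by omega)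
          (((DTen.extCx φ).obj P).d p (p + 1) (un φ P p x))
    exact congrArg (fun t => _ + (n + 1).negOnePow • (coc zz).v (p + 1) q (by omega) t) hc.symm

theorem σ_v (P : DRing.Cx R) (N : DRing.Cx R') (n p q : ℤ) (h : p + n = q)
    (z : (DRing.homCx ((DTen.extCx φ).obj P) N).X n) (x : P.X p) :
    (coc ((σ φ P N).f n z)).v p q h x = (coc z).v p q h (un φ P p x) := rfl

theorem isIso_σ (P : DRing.Cx R) (N : DRing.Cx R') : IsIso (σ φ P N) := by
  have : ∀ n, IsIso ((σ φ P N).f n) := fun n => by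
    rw [ConcreteCategory.isIso_iff_bijective]
    let A := ModuleCat.extendRestrictScalarsAdj.{u, u, u} φ
    refine ⟨fun z z' hz => Cochain.ext (F := (DTen.extCx φ).obj P) (G := N) _ _ fun p q h => ?_,
      fun w => ?_⟩
    · apply (A.homEquiv _ _).injective
      rw [Adjunction.homEquiv_unit, Adjunction.homEquiv_unit]
      exact congrArg (fun t => (coc t).v p q h) hz
    · refine ⟨(Cochain.mk fun p q h => (A.homEquiv _ _).symm ((coc w).v p q h) :
        Cochain ((DTen.extCx φ).obj P) N n), Cochain.ext (F := P) (G := (DTen.resCx φ).obj N) _ _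
          fun p q h => ?_⟩
      change A.unit.app _ ≫ (ModuleCat.restrictScalars φ).map ((A.homEquiv _ _).symm ((coc w).v p q h)) = _
      exact ((A.homEquiv_unit _ _ _).symm.trans ((A.homEquiv (P.X p) (N.X q)).apply_symm_apply _))
  exact HomologicalComplex.Hom.isIso_of_components _

/-- The comparison `β` is the strength, over `R`. -/
theorem e_β_σ (P Y : DRing.Cx R) :
    e φ (DRing.homCx P Y) ≫ (DTen.resCx φ).map (β φ P Y) ≫ σ φ P ((DTen.extCx φ).obj Y) =
      θ (S φ) P Y ≫ (DRing.homCxFunctor P).map (e φ Y) := by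
  ext n : 1
  refine tn_ext fun i j h s z => ?_
  by_cases hi : i = 0
  swap
  · rw [S_X_eq_zero φ hi s, tn_zero_left, map_zero, map_zero]
  subst hi
  obtain rfl : j = n := by omega
  refine Cochain.ext (F := P) (G := (DTen.resCx φ).obj ((DTen.extCx φ).obj Y)) _ _ fun p q hq => ?_
  ext x
  simp only [HomologicalComplex.comp_f, ModuleCat.comp_apply]
  refine (σ_v φ P _ j p q hq _ x).trans ?_
  refine Eq.trans ?_ (homCxMap_v P (e φ Y) j _ p q hq x).symm
  rw [θ_v (S φ) P Y 0 j j h s z p q q hq (by omega) x, e_tn φ Y q]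
  refine (congrArg (fun t => (coc ((β φ P Y).f j t)).v p q hq (un φ P p x))
    (e_tn φ (DRing.homCx P Y) j s z)).trans ?_
  refine (congrArg (fun t => (coc t).v p q hq (un φ P p x)) (map_smul ((β φ P Y).f j).hom _ _)).trans ?_
  change sc φ s • (coc ((β φ P Y).f j (un φ (DRing.homCx P Y) j z))).v p q hq (un φ P p x) = _
  rw [β_v]

end Groth.Agent.KFlat.Bc
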