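import Groth.Agent.Lib.KFlat.DTenBase
import Groth.Prelude.Def_DTen6

/-!
Associativity of the mixed derived tensor product.
-/

set_option autoImplicit false
set_option linter.unusedSectionVars false
set_option linter.unusedVariables false

universe u

open CategoryTheory CategoryTheory.Limits MonoidalCategory

attribute [local instance] HasDerivedCategory.standard

namespace Groth.Agent.KFlat.DT

open Groth.Agent.KFlat.Module

variable {A B C : Type u} [CommRing A] [CommRing B] [CommRing C] (φ : A →+* B) (ψ : B →+* C)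

theorem isIso_εMix₃ [DTen.HasLTenMix₃ φ ψ] {M : DRing.Cx A} {N : DRing.Cx B} {K : DRing.Cx C}
    (hM : DRing.IsKFlat A M) (hN : DRing.IsKFlat B N) (hK : DRing.IsKFlat C K) :
    IsIso ((DTen.εMix₃ φ ψ).app (M, (N, K))) :=
  KFlat.isIso_counit (W := DTen.qisMix₃ A B C) ((res A).prod (res₂ B C))
    { app := fun X => Prod.mkHom ((aug A).app X.1) ((aug₂ B C).app X.2)
      naturality := fun X Y f => Prod.ext ((aug A).naturality f.1) ((aug₂ B C).naturality f.2) }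
    (fun X => ⟨qis_aug X.1, qis_aug X.2.1, qis_aug X.2.2⟩) _ (fun X => DRing.IsKFlat A X.1 ∧ PP X.2)
    (fun X => ⟨isKFlat_res _, isKFlat_res _, isKFlat_res _⟩)
    (fun {X Y} f hf hX hY => isIso_Q_map _ (qis_mixT ψ
      (Prod.mkHom ((DTen.mixT φ).map (Prod.mkHom f.1 f.2.1)) f.2.2 :
        ((DTen.mixT φ).obj (X.1, X.2.1), X.2.2) ⟶ ((DTen.mixT φ).obj (Y.1, Y.2.1), Y.2.2))
      ⟨qis_mixT φ (Prod.mkHom f.1 f.2.1 : (X.1, X.2.1) ⟶ (Y.1, Y.2.1)) ⟨hf.1, hf.2.1⟩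
        ⟨hX.1, hX.2.1⟩ ⟨hY.1, hY.2.1⟩, hf.2.2⟩
      ⟨isKFlat_mixT φ hX.1 hX.2.1, hX.2.2⟩ ⟨isKFlat_mixT φ hY.1 hY.2.1, hY.2.2⟩))
    (DTen.QMix₃ A B C) (DTen.LTenMix₃ φ ψ) (DTen.εMix₃ φ ψ) (M, (N, K)) ⟨hM, hN, hK⟩

theorem isIso_leg₃_app [DTen.HasLTenMix φ] [DTen.HasLTenMix ψ] [DTen.HasLTenMix (ψ.comp φ)]
    [DTen.HasLTenMix₃ φ ψ] (E : Dual.D A) (F : Dual.D B) (G : Dual.D C) :
    IsIso ((DTen.leg₃L φ ψ).app (E, (F, G))) ∧ IsIso ((DTen.leg₃R φ ψ).app (E, (F, G))) := by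
  obtain ⟨M, hM, ⟨e₁⟩⟩ := exists_rep E
  obtain ⟨N, hN, ⟨e₂⟩⟩ := exists_rep F
  obtain ⟨K, hK, ⟨e₃⟩⟩ := exists_rep G
  rw [← NatTrans.isIso_app_iff_of_iso (DTen.leg₃L φ ψ) (Iso.prod e₁ (Iso.prod e₂ e₃)),
    ← NatTrans.isIso_app_iff_of_iso (DTen.leg₃R φ ψ) (Iso.prod e₁ (Iso.prod e₂ e₃))]
  constructor
  · have := isIso_εMix φ hM hN
    have hs : IsIso ((DTen.β₃L φ ψ).app (M, (N, K))) := IsIso.comp_isIso'
      (@Functor.map_isIso _ _ _ _ _ _ (DTen.LTenMix ψ) _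
        (isIso_mkHom ((DTen.εMix φ).app (M, N)) (𝟙 (DerivedCategory.Q.obj K))))
      (isIso_εMix ψ (isKFlat_mixT φ hM hN) hK)
    exact @IsIso.of_isIso_comp_right _ _ _ _ _
      ((DTen.leg₃L φ ψ).app ((DTen.QMix₃ A B C).obj (M, (N, K)))) _
      (isIso_εMix₃ φ ψ hM hN hK) ((DTen.leg₃L_fac φ ψ (M, (N, K))).symm ▸ hs)
  · have := isIso_εMix ψ hN hK
    have hs : IsIso ((DTen.β₃R φ ψ).app (M, (N, K))) := IsIso.comp_isIso'
      (@Functor.map_isIso _ _ _ _ _ _ (DTen.LTenMix (ψ.comp φ)) _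
        (isIso_mkHom (𝟙 (DerivedCategory.Q.obj M)) ((DTen.εMix ψ).app (N, K))))
      (IsIso.comp_isIso' (isIso_εMix (ψ.comp φ) hM (isKFlat_mixT ψ hN hK)) inferInstance)
    exact @IsIso.of_isIso_comp_right _ _ _ _ _
      ((DTen.leg₃R φ ψ).app ((DTen.QMix₃ A B C).obj (M, (N, K)))) _
      (isIso_εMix₃ φ ψ hM hN hK) ((DTen.leg₃R_fac φ ψ (M, (N, K))).symm ▸ hs)

end Groth.Agent.KFlat.DT
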