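import Groth.Agent.Lib.KFlat.Homotopy

/-!
Values of total left derived functors on adapted complexes.
-/

set_option autoImplicit false
set_option linter.unusedSectionVars false

universe w w' v v' u u'

open CategoryTheory CategoryTheory.Limits

namespace Groth.Agent.KFlat

variable {C : Type u} [Category.{v} C] [Abelian C] [HasDerivedCategory.{w} C]
  [HasColimitsOfSize.{0, 0} C] [AB5OfSize.{0, 0} C]
  {D : Type u'} [Category.{v'} D] [Abelian D] [HasDerivedCategory.{w'} D]
  (Φ : Cover C) (G : C ⥤ D) [G.Additive] (P : CochainComplex C ℤ → Prop)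
  (hP : ∀ K, P (resObj Φ K))
  (hF : ∀ {K K' : CochainComplex C ℤ} (f : K ⟶ K') [QuasiIso f], P K → P K' →
    QuasiIso ((G.mapHomologicalComplex (ComplexShape.up ℤ)).map f))

include hP hF

theorem isIso_derivedCounit
    [(G.mapHomotopyCategory (ComplexShape.up ℤ) ⋙ DerivedCategory.Qh).HasLeftDerivedFunctor
      (HomotopyCategory.quasiIso C (ComplexShape.up ℤ))]
    (K : CochainComplex C ℤ) (hK : P K) :
    IsIso (((G.mapHomotopyCategory (ComplexShape.up ℤ) ⋙ DerivedCategory.Qh).totalLeftDerivedCounit
      DerivedCategory.Qh (HomotopyCategory.quasiIso C (ComplexShape.up ℤ))).app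
        ((HomotopyCategory.quotient C (ComplexShape.up ℤ)).obj K)) := by
  refine isIso_counit_Qh _ (resFunctor Φ) (resNatTrans Φ) (fun K => quasiIso_resπ Φ K) P hP
    (fun f _ hK hK' => ?_) _ _ K hK
  have := hF f hK hK'
  exact (NatIso.isIso_map_iff (DerivedCategory.quotientCompQhIso D)
    ((G.mapHomologicalComplex (ComplexShape.up ℤ)).map f)).2 inferInstance

/-- A derived functor is computed by adapted complexes. -/
noncomputable def derivedObjIso
    [(G.mapHomotopyCategory (ComplexShape.up ℤ) ⋙ DerivedCategory.Qh).HasLeftDerivedFunctor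
      (HomotopyCategory.quasiIso C (ComplexShape.up ℤ))]
    (K : CochainComplex C ℤ) (hK : P K) :
    ((G.mapHomotopyCategory (ComplexShape.up ℤ) ⋙ DerivedCategory.Qh).totalLeftDerived DerivedCategory.Qh
      (HomotopyCategory.quasiIso C (ComplexShape.up ℤ))).obj (DerivedCategory.Q.obj K) ≅
      DerivedCategory.Q.obj ((G.mapHomologicalComplex (ComplexShape.up ℤ)).obj K) :=
  haveI := isIso_derivedCounit Φ G P hP hF K hK
  ((G.mapHomotopyCategory (ComplexShape.up ℤ) ⋙ DerivedCategory.Qh).totalLeftDerived DerivedCategory.Qh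
      (HomotopyCategory.quasiIso C (ComplexShape.up ℤ))).mapIso
        ((DerivedCategory.quotientCompQhIso C).app K).symm ≪≫
    asIso (((G.mapHomotopyCategory (ComplexShape.up ℤ) ⋙ DerivedCategory.Qh).totalLeftDerivedCounit
      DerivedCategory.Qh (HomotopyCategory.quasiIso C (ComplexShape.up ℤ))).app
        ((HomotopyCategory.quotient C (ComplexShape.up ℤ)).obj K)) ≪≫
    DerivedCategory.Qh.mapIso ((G.mapHomotopyCategoryFactors (ComplexShape.up ℤ)).app K) ≪≫
    (DerivedCategory.quotientCompQhIso D).app ((G.mapHomologicalComplex (ComplexShape.up ℤ)).obj K)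

end Groth.Agent.KFlat
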