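import Groth.Agent.Lib.KFlat.Resolution

/-!
Functoriality of the K-flat resolution.
-/

set_option autoImplicit false
set_option linter.unusedSectionVars false

universe v u

open CategoryTheory CategoryTheory.Limits

namespace Groth.Agent.KFlat

variable {C : Type u} [Category.{v} C] [Abelian C]

section Cylinder

variable {P Q P' Q' P'' Q'' : CochainComplex C ℤ} {f : P ⟶ Q} {f' : P' ⟶ Q'} {f'' : P'' ⟶ Q''}

theorem cylMap_congr {a a' : P ⟶ P'} {b b' : Q ⟶ Q'} (h : f ≫ b = a ≫ f')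
    (h' : f ≫ b' = a' ≫ f') (ha : a = a') (hb : b = b') : cylMap a b h = cylMap a' b' h' := by
  subst ha hb
  rfl

theorem cylMap_eq_id {a : P ⟶ P} {b : Q ⟶ Q} (h : f ≫ b = a ≫ f) (ha : a = 𝟙 P) (hb : b = 𝟙 Q) :
    cylMap a b h = 𝟙 (cylCoker f) := by
  subst ha hb
  refine coequalizer.hom_ext ?_
  change cokernel.π _ ≫ cylMap _ _ _ = cokernel.π _ ≫ 𝟙 _
  refine Eq.trans ?_ (Category.comp_id _).symm
  rw [cylMap_π, CochainComplex.mappingCone.map_id]
  refine (congrArg (· ≫ _) (biprod.hom_ext _ (𝟙 _) (by simp) (by simp))).trans (Category.id_comp _)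

theorem cylMap_comp (a : P ⟶ P') (b : Q ⟶ Q') (h : f ≫ b = a ≫ f') (a' : P' ⟶ P'') (b' : Q' ⟶ Q'')
    (h' : f' ≫ b' = a' ≫ f'') :
    cylMap a b h ≫ cylMap a' b' h' =
      cylMap (a ≫ a') (b ≫ b') (by rw [reassoc_of% h, h', Category.assoc]) := by
  refine coequalizer.hom_ext ?_
  change cokernel.π _ ≫ cylMap _ _ _ ≫ _ = cokernel.π _ ≫ cylMap _ _ _
  rw [← Category.assoc, cylMap_π, Category.assoc, cylMap_π, cylMap_π, ← Category.assoc]
  refine congrArg (· ≫ _) (biprod.hom_ext _ _ (by simp) ?_)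
  simp [← CochainComplex.mappingCone.map_comp]

theorem cylMap_eq_comp (a : P ⟶ P') (b : Q ⟶ Q') (h : f ≫ b = a ≫ f') (a' : P' ⟶ P'') (b' : Q' ⟶ Q'')
    (h' : f' ≫ b' = a' ≫ f'') {a'' : P ⟶ P''} {b'' : Q ⟶ Q''} (h'' : f ≫ b'' = a'' ≫ f'')
    (ha : a'' = a ≫ a') (hb : b'' = b ≫ b') :
    cylMap a'' b'' h'' = cylMap a b h ≫ cylMap a' b' h' := by
  subst ha hb
  exact (cylMap_comp a b h a' b' h').symm

theorem inl_π_cylMap (a : P ⟶ P') (b : Q ⟶ Q') (h : f ≫ b = a ≫ f') :
    (biprod.inl ≫ cokernel.π (cylHom f)) ≫ cylMap a b h = b ≫ biprod.inl ≫ cokernel.π (cylHom f') := by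
  rw [Category.assoc, cylMap_π, biprod.inl_map_assoc]

end Cylinder

variable (Φ : Cover C)

theorem attach_map (S : Stage C) {G G' : CochainComplex C ℤ} (g : G ⟶ G') :
    S.attach Φ G ≫ Φ.cx.map g = S.map (Φ.kerMap g) ≫ S.attach Φ G' := by
  simp [Stage.attach, reassoc_of% (S.nat (Φ.kerMap g))]

theorem stage_map_id : ∀ (k : ℕ) (G : CochainComplex C ℤ), (stage Φ k).map (𝟙 G) = 𝟙 _
  | 0, G => Φ.cx.map_id G
  | k + 1, G => by
      refine cylMap_eq_id (attach_map Φ (stage Φ k) (𝟙 G)) ?_ (Φ.cx.map_id G)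
      have : Φ.kerMap (𝟙 G) = 𝟙 (Φ.ker G) := by
        rw [← cancel_mono (kernel.ι (Φ.cxπ G))]
        simp
      rw [this]
      exact stage_map_id k _

theorem stage_map_comp : ∀ (k : ℕ) {G G' G'' : CochainComplex C ℤ} (g : G ⟶ G') (g' : G' ⟶ G''),
    (stage Φ k).map (g ≫ g') = (stage Φ k).map g ≫ (stage Φ k).map g'
  | 0, _, _, _, g, g' => Φ.cx.map_comp g g'
  | k + 1, G, G', G'', g, g' => by
      refine cylMap_eq_comp _ _ (attach_map Φ (stage Φ k) g) _ _ (attach_map Φ (stage Φ k) g')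
        (attach_map Φ (stage Φ k) (g ≫ g')) ?_ (Φ.cx.map_comp g g')
      rw [← stage_map_comp k]
      congr 1
      simp [← cancel_mono (kernel.ι (Φ.cxπ G''))]

theorem trans_attach (k : ℕ) (G : CochainComplex C ℤ) :
    (stage Φ k).attach Φ G ≫ 𝟙 (Φ.cx.obj G) =
      (trans Φ k (Φ.ker G)).1 ≫ (stage Φ (k + 1)).attach Φ G :=
  (Category.comp_id _).trans (((reassoc_of% (trans Φ k (Φ.ker G)).2) _).symm)

theorem trans_naturality : ∀ (k : ℕ) {G G' : CochainComplex C ℤ} (g : G ⟶ G'),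
    (trans Φ k G).1 ≫ (stage Φ (k + 1)).map g = (stage Φ k).map g ≫ (trans Φ k G').1
  | 0, _, _, g => inl_π_cylMap _ _ (attach_map Φ (stage Φ 0) g)
  | k + 1, G, G', g => by
      refine (cylMap_comp _ _ (trans_attach Φ k G) _ _ (attach_map Φ (stage Φ (k + 1)) g)).trans
        ((cylMap_congr _ _ ?_ ?_).trans
          (cylMap_comp _ _ (attach_map Φ (stage Φ k) g) _ _ (trans_attach Φ k G')).symm)
      · exact trans_naturality k _
      · rw [Category.id_comp, Category.comp_id]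

theorem truncStep_naturality {G G' : CochainComplex C ℤ} (g : G ⟶ G') (n : ℕ) :
    truncStep G n ≫ CochainComplex.truncLEMap g ((n + 1 : ℕ) : ℤ) =
      CochainComplex.truncLEMap g (n : ℤ) ≫ truncStep G' n := by
  have : Mono (G'.ιTruncLE ((n + 1 : ℕ) : ℤ)) :=
    inferInstanceAs (Mono (HomologicalComplex.ιTruncLE _ _))
  rw [← cancel_mono (G'.ιTruncLE ((n + 1 : ℕ) : ℤ)), Category.assoc, Category.assoc,
    CochainComplex.ιTruncLE_naturality, reassoc_of% (truncStep_ι G n), truncStep_ι,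
    CochainComplex.ιTruncLE_naturality]

theorem resStep_naturality {G G' : CochainComplex C ℤ} (g : G ⟶ G') (n : ℕ) :
    resStep Φ G n ≫ (stage Φ (2 * (n + 1))).map (CochainComplex.truncLEMap g ((n + 1 : ℕ) : ℤ)) =
      (stage Φ (2 * n)).map (CochainComplex.truncLEMap g (n : ℤ)) ≫ resStep Φ G' n := by
  change ((stage Φ (2 * n)).map (truncStep G n) ≫ (trans Φ (2 * n) _).1 ≫
    (trans Φ (2 * n + 1) _).1) ≫ (stage Φ (2 * n + 1 + 1)).map _ = _ ≫
      ((stage Φ (2 * n)).map (truncStep G' n) ≫ (trans Φ (2 * n) _).1 ≫ (trans Φ (2 * n + 1) _).1)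
  rw [Category.assoc, Category.assoc, trans_naturality, reassoc_of% (trans_naturality Φ (2 * n)
    (CochainComplex.truncLEMap g ((n + 1 : ℕ) : ℤ))), ← Category.assoc, ← stage_map_comp,
    truncStep_naturality, stage_map_comp, Category.assoc]

/-- The map of systems. -/
noncomputable def resSeqMap {G G' : CochainComplex C ℤ} (g : G ⟶ G') : resSeq Φ G ⟶ resSeq Φ G' :=
  NatTrans.ofSequence (F := resSeq Φ G) (G := resSeq Φ G')
    (fun n => (stage Φ (2 * n)).map (CochainComplex.truncLEMap g (n : ℤ))) fun n => by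
    refine (congrArg (· ≫ _) (Functor.ofSequence_map_homOfLE_succ (resStep Φ G) n)).trans ?_
    refine Eq.trans ?_ (congrArg (_ ≫ ·) (Functor.ofSequence_map_homOfLE_succ (resStep Φ G') n)).symm
    exact resStep_naturality Φ g n

variable [HasColimitsOfSize.{0, 0} C]

/-- The resolution functor. -/
noncomputable def resFunctor : CochainComplex C ℤ ⥤ CochainComplex C ℤ where
  obj G := resObj Φ G
  map g := colimMap (resSeqMap Φ g)
  map_id G := colimit.hom_ext fun n => by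
    refine (ι_colimMap (resSeqMap Φ (𝟙 G)) n).trans ?_
    rw [Category.comp_id]
    change (stage Φ (2 * n)).map (HomologicalComplex.truncLEMap (𝟙 G) _) ≫ _ = _
    rw [HomologicalComplex.truncLEMap_id, stage_map_id]
    exact Category.id_comp _
  map_comp {G G' G''} g g' := colimit.hom_ext fun n => by
    refine (ι_colimMap (resSeqMap Φ (g ≫ g')) n).trans ?_
    rw [ι_colimMap_assoc, ι_colimMap, ← Category.assoc]
    refine congrArg (· ≫ _) ?_
    change (stage Φ (2 * n)).map (HomologicalComplex.truncLEMap (g ≫ g') _) = _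
    rw [HomologicalComplex.truncLEMap_comp, stage_map_comp]
    rfl

/-- The augmentation. -/
noncomputable def resNatTrans : resFunctor Φ ⟶ 𝟭 (CochainComplex C ℤ) where
  app G := resπ Φ G
  naturality {G G'} g := colimit.hom_ext fun n => by
    change colimit.ι _ n ≫ colimMap (resSeqMap Φ g) ≫ resπ Φ G' = colimit.ι _ n ≫ resπ Φ G ≫ g
    rw [ι_colimMap_assoc, ι_resπ, reassoc_of% (ι_resπ Φ G n)]
    change (stage Φ (2 * n)).map _ ≫ _ ≫ _ = _
    rw [reassoc_of% ((stage Φ (2 * n)).nat (CochainComplex.truncLEMap g (n : ℤ))),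
      CochainComplex.ιTruncLE_naturality]
    exact (Category.assoc _ _ _).symm

end Groth.Agent.KFlat
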