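import Groth.Agent.Lib.KFlat.Api
import Mathlib.Algebra.Homology.DerivedCategory.Basic

/-!
Left derived functors of functors defined on the homotopy category.
-/

set_option autoImplicit false
set_option linter.unusedSectionVars false

universe w v v' u u'

open CategoryTheory CategoryTheory.Limits

namespace Groth.Agent.KFlat

variable {C : Type u} [Category.{v} C] [Abelian C] [HasDerivedCategory.{w} C]
  {H : Type u'} [Category.{v'} H]

theorem isLocalization_quotientCompQh :
    (HomotopyCategory.quotient C (ComplexShape.up ℤ) ⋙ DerivedCategory.Qh).IsLocalization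
      (HomologicalComplex.quasiIso C (ComplexShape.up ℤ)) :=
  Functor.IsLocalization.of_iso _ (DerivedCategory.quotientCompQhIso C).symm

theorem exists_isRightKanExtension_Qh (G : HomotopyCategory C (ComplexShape.up ℤ) ⥤ H)
    (ρ : CochainComplex C ℤ ⥤ CochainComplex C ℤ) (ψ : ρ ⟶ 𝟭 _) (hψ : ∀ K, QuasiIso (ψ.app K))
    (P : CochainComplex C ℤ → Prop) (hρ : ∀ K, P (ρ.obj K))
    (hF : ∀ {K K' : CochainComplex C ℤ} (f : K ⟶ K') [QuasiIso f], P K → P K' →
      IsIso (G.map ((HomotopyCategory.quotient C (ComplexShape.up ℤ)).map f))) :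
    ∃ (LF : DerivedCategory C ⥤ H) (α : DerivedCategory.Qh ⋙ LF ⟶ G),
      LF.IsRightKanExtension α ∧
        ∀ K, P K → IsIso (α.app ((HomotopyCategory.quotient C (ComplexShape.up ℤ)).obj K)) := by
  let q := HomotopyCategory.quotient C (ComplexShape.up ℤ)
  have := isLocalization_quotientCompQh (C := C)
  obtain ⟨LF, α, h, hiso⟩ := exists_isRightKanExtension
    (W := HomologicalComplex.quasiIso C (ComplexShape.up ℤ)) ρ ψ hψ (q ⋙ G) P hρ
    (fun f hf hK hK' => have : QuasiIso f := hf; hF f hK hK') (q ⋙ DerivedCategory.Qh)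
  refine ⟨LF, Quotient.natTransLift (F := DerivedCategory.Qh ⋙ LF) (G := G) _ α,
    ⟨⟨Limits.IsTerminal.ofUniqueHom (fun Y => ?_) fun Y m => ?_⟩⟩, fun K hK => hiso K hK⟩
  · refine CostructuredArrow.homMk
      (LF.liftOfIsRightKanExtension α Y.left (Functor.whiskerLeft q Y.hom)) ?_
    ext K
    obtain ⟨X⟩ := K
    exact LF.liftOfIsRightKanExtension_fac_app α Y.left (Functor.whiskerLeft q Y.hom) X
  · apply CostructuredArrow.hom_ext
    apply LF.hom_ext_of_isRightKanExtension α
    ext K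
    exact (congrArg (fun t => t.app (q.obj K)) (CostructuredArrow.w m)).trans
      (LF.liftOfIsRightKanExtension_fac_app α Y.left (Functor.whiskerLeft q Y.hom) K).symm

theorem hasLeftDerivedFunctor_Qh (G : HomotopyCategory C (ComplexShape.up ℤ) ⥤ H)
    (ρ : CochainComplex C ℤ ⥤ CochainComplex C ℤ) (ψ : ρ ⟶ 𝟭 _) (hψ : ∀ K, QuasiIso (ψ.app K))
    (P : CochainComplex C ℤ → Prop) (hρ : ∀ K, P (ρ.obj K))
    (hF : ∀ {K K' : CochainComplex C ℤ} (f : K ⟶ K') [QuasiIso f], P K → P K' →
      IsIso (G.map ((HomotopyCategory.quotient C (ComplexShape.up ℤ)).map f))) :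
    G.HasLeftDerivedFunctor (HomotopyCategory.quasiIso C (ComplexShape.up ℤ)) := by
  obtain ⟨LF, α, h, -⟩ := exists_isRightKanExtension_Qh G ρ ψ hψ P hρ hF
  have : LF.IsLeftDerivedFunctor α (HomotopyCategory.quasiIso C (ComplexShape.up ℤ)) := ⟨h⟩
  exact Functor.HasLeftDerivedFunctor.mk' LF α

theorem isIso_counit_Qh (G : HomotopyCategory C (ComplexShape.up ℤ) ⥤ H)
    (ρ : CochainComplex C ℤ ⥤ CochainComplex C ℤ) (ψ : ρ ⟶ 𝟭 _) (hψ : ∀ K, QuasiIso (ψ.app K))
    (P : CochainComplex C ℤ → Prop) (hρ : ∀ K, P (ρ.obj K))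
    (hF : ∀ {K K' : CochainComplex C ℤ} (f : K ⟶ K') [QuasiIso f], P K → P K' →
      IsIso (G.map ((HomotopyCategory.quotient C (ComplexShape.up ℤ)).map f)))
    (LF : DerivedCategory C ⥤ H) (α : DerivedCategory.Qh ⋙ LF ⟶ G)
    [LF.IsLeftDerivedFunctor α (HomotopyCategory.quasiIso C (ComplexShape.up ℤ))]
    (K : CochainComplex C ℤ) (hK : P K) :
    IsIso (α.app ((HomotopyCategory.quotient C (ComplexShape.up ℤ)).obj K)) := by
  let W := HomotopyCategory.quasiIso C (ComplexShape.up ℤ)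
  obtain ⟨LF', α', h, hiso⟩ := exists_isRightKanExtension_Qh G ρ ψ hψ P hρ hF
  have : LF'.IsLeftDerivedFunctor α' W := ⟨h⟩
  rw [← Functor.leftDerived_fac_app LF' α' W LF α]
  have := hiso K hK
  have : IsIso (LF'.leftDerivedLift α' W LF α) := by
    refine ⟨LF.leftDerivedLift α W LF' α', ?_, ?_⟩
    · apply LF.leftDerived_ext α W; simp
    · apply LF'.leftDerived_ext α' W; simp
  infer_instance

/-- `K(G)` followed by localization is left derivable when `G` preserves quasi-isomorphisms between adapted complexes. -/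
theorem hasLeftDerivedFunctor_mapHomotopyCategory [HasColimitsOfSize.{0, 0} C] [AB5OfSize.{0, 0} C]
    {D : Type u'} [Category.{v'} D] [Abelian D] [HasDerivedCategory.{w} D] (Φ : Cover C)
    (G : C ⥤ D) [G.Additive] (P : CochainComplex C ℤ → Prop) (hP : ∀ K, P (resObj Φ K))
    (hF : ∀ {K K' : CochainComplex C ℤ} (f : K ⟶ K') [QuasiIso f], P K → P K' →
      QuasiIso ((G.mapHomologicalComplex (ComplexShape.up ℤ)).map f)) :
    (G.mapHomotopyCategory (ComplexShape.up ℤ) ⋙ DerivedCategory.Qh).HasLeftDerivedFunctor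
      (HomotopyCategory.quasiIso C (ComplexShape.up ℤ)) := by
  refine hasLeftDerivedFunctor_Qh _ (resFunctor Φ) (resNatTrans Φ) (fun K => quasiIso_resπ Φ K) P hP
    fun f _ hK hK' => ?_
  have := hF f hK hK'
  exact (NatIso.isIso_map_iff (DerivedCategory.quotientCompQhIso D)
    ((G.mapHomologicalComplex (ComplexShape.up ℤ)).map f)).2 inferInstance

end Groth.Agent.KFlat
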