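import Mathlib.Algebra.Homology.HomologySequenceLemmas
import Mathlib.Algebra.Homology.HomotopyCategory.Pretriangulated
import Mathlib.Algebra.Homology.HomologicalComplexAbelian
import Mathlib.Algebra.Homology.QuasiIso
import Mathlib.Algebra.Homology.HomotopyCategory.Acyclic

/-!
Functors between categories of complexes which preserve homotopies and degreewise split short exact
sequences: they preserve quasi-isomorphisms as soon as they kill the relevant acyclic complexes.
-/

set_option autoImplicit false

universe v v' u u'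

open CategoryTheory CategoryTheory.Limits

namespace Groth.Agent.KFlat

variable {C : Type u} [Category.{v} C] [Abelian C] {D : Type u'} [Category.{v'} D] [Abelian D]

theorem quasiIso_of_acyclic {S : ShortComplex (CochainComplex C ℤ)} (hS : S.ShortExact)
    (h : S.X₃.Acyclic) : QuasiIso S.f := by
  rw [quasiIso_iff]
  intro i
  rw [quasiIsoAt_iff_isIso_homologyMap]
  have h3 : ∀ j, IsZero (S.X₃.homology j) := fun j =>
    (HomologicalComplex.exactAt_iff_isZero_homology _ _).1 (h j)
  have : Epi (HomologicalComplex.homologyMap S.f i) :=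
    (hS.homology_exact₂ i).epi_f ((h3 i).eq_of_tgt _ _)
  have : Mono (HomologicalComplex.homologyMap S.f i) :=
    (hS.homology_exact₁ (i - 1) i (sub_add_cancel i 1)).mono_g ((h3 (i - 1)).eq_of_src _ _)
  exact isIso_of_mono_of_epi _

theorem acyclic_of_homotopy_zero {K : CochainComplex C ℤ} (h : Homotopy (𝟙 K) 0) : K.Acyclic :=
  fun i => by
    rw [HomologicalComplex.exactAt_iff_isZero_homology, IsZero.iff_id_eq_zero]
    have := h.homologyMap_eq i
    rwa [HomologicalComplex.homologyMap_id, HomologicalComplex.homologyMap_zero] at this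

/-- Preserves homotopies and degreewise split short exact sequences. -/
structure SplitPres (G : CochainComplex C ℤ ⥤ CochainComplex D ℤ) [G.Additive] : Prop where
  homotopy : ∀ {K L : CochainComplex C ℤ} {f g : K ⟶ L}, Homotopy f g →
    Nonempty (Homotopy (G.map f) (G.map g))
  shortExact : ∀ S : ShortComplex (CochainComplex C ℤ),
    (∀ i : ℤ, Nonempty ((S.map (HomologicalComplex.eval C (ComplexShape.up ℤ) i)).Splitting)) →
      (S.map G).ShortExact

section Cylinder

variable {P Q : CochainComplex C ℤ} (f : P ⟶ Q)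

/-- `P` embeds degreewise split in `Q ⊞ cone (𝟙 P)`. -/
noncomputable abbrev cylHom : P ⟶ Q ⊞ CochainComplex.mappingCone (𝟙 P) :=
  biprod.lift f (CochainComplex.mappingCone.inr (𝟙 P))

/-- The short complex `P ⟶ Q ⊞ cone (𝟙 P) ⟶ C'`. -/
noncomputable abbrev cylSC : ShortComplex (CochainComplex C ℤ) :=
  ShortComplex.mk (cylHom f) (cokernel.π (cylHom f)) (cokernel.condition _)

/-- The third term. -/
noncomputable abbrev cylCoker : CochainComplex C ℤ := cokernel (cylHom f)

/-- The retraction in each degree. -/
noncomputable def cylRetraction (i : ℤ) :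
    (Q ⊞ CochainComplex.mappingCone (𝟙 P)).X i ⟶ P.X i :=
  (biprod.snd : Q ⊞ CochainComplex.mappingCone (𝟙 P) ⟶ _).f i ≫
    (CochainComplex.mappingCone.snd (𝟙 P)).v i i (add_zero i)

theorem cylHom_retraction (i : ℤ) : (cylHom f).f i ≫ cylRetraction i = 𝟙 (P.X i) := by
  rw [cylRetraction, ← Category.assoc, ← HomologicalComplex.comp_f, biprod.lift_snd]
  simp

theorem mono_cylHom : Mono (cylHom f) := by
  have : ∀ i, Mono ((cylHom f).f i) := fun i =>
    (SplitMono.mk (cylRetraction i) (cylHom_retraction f i)).mono
  exact HomologicalComplex.mono_of_mono_f _ this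

theorem cylSC_shortExact : (cylSC f).ShortExact :=
  have := mono_cylHom f
  { exact := ShortComplex.exact_cokernel (cylHom f), mono_f := this,
    epi_g := inferInstanceAs (Epi (cokernel.π (cylHom f))) }

theorem cylSC_splitting (i : ℤ) :
    Nonempty (((cylSC f).map (HomologicalComplex.eval C (ComplexShape.up ℤ) i)).Splitting) := by
  have h := (cylSC_shortExact f).map_of_exact (HomologicalComplex.eval C (ComplexShape.up ℤ) i)
  have := h.epi_g
  exact ⟨ShortComplex.Splitting.ofExactOfRetraction _ h.exact (cylRetraction i)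
    (cylHom_retraction f i) this⟩

/-- A projection off a contractible summand is a homotopy equivalence. -/
noncomputable def fstHomotopyEquiv {X Z : CochainComplex C ℤ} (h : Homotopy (𝟙 Z) 0) :
    HomotopyEquiv (X ⊞ Z) X where
  hom := biprod.fst
  inv := biprod.inl
  homotopyHomInvId :=
    (Homotopy.ofEq (show biprod.fst ≫ biprod.inl =
        biprod.fst ≫ biprod.inl + (biprod.snd ≫ (0 : Z ⟶ Z)) ≫ biprod.inr by simp)).trans
      (((Homotopy.refl _).add ((h.compLeft biprod.snd).compRight biprod.inr).symm).trans
        (Homotopy.ofEq (by simp [biprod.total])))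
  homotopyInvHomId := Homotopy.ofEq biprod.inl_fst

end Cylinder

namespace SplitPres

variable {G : CochainComplex C ℤ ⥤ CochainComplex D ℤ} [G.Additive] (hG : SplitPres G)

include hG

/-- The image of a contractible complex is acyclic. -/
theorem acyclic_of_contractible {K : CochainComplex C ℤ} (h : Homotopy (𝟙 K) 0) :
    (G.obj K).Acyclic := by
  obtain ⟨H⟩ := hG.homotopy h
  exact acyclic_of_homotopy_zero ((Homotopy.ofEq (G.map_id K).symm).trans (H.trans (Homotopy.ofEq (G.map_zero K K))))

/-- The image of a homotopy equivalence is a quasi-isomorphism. -/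
theorem quasiIso_map_homotopyEquiv {K L : CochainComplex C ℤ} (e : HomotopyEquiv K L) :
    QuasiIso (G.map e.hom) := by
  obtain ⟨H₁⟩ := hG.homotopy e.homotopyHomInvId
  obtain ⟨H₂⟩ := hG.homotopy e.homotopyInvHomId
  let E : HomotopyEquiv (G.obj K) (G.obj L) :=
    ⟨G.map e.hom, G.map e.inv,
      (Homotopy.ofEq (G.map_comp _ _).symm).trans (H₁.trans (Homotopy.ofEq (G.map_id K))),
      (Homotopy.ofEq (G.map_comp _ _).symm).trans (H₂.trans (Homotopy.ofEq (G.map_id L)))⟩
  exact homotopyEquivalences_le_quasiIso _ _ (G.map e.hom) ⟨E, rfl⟩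

/-- `G f` is a quasi-isomorphism when `G` kills the cokernel of the cylinder embedding. -/
theorem quasiIso_map_of_acyclic {P Q : CochainComplex C ℤ} (f : P ⟶ Q)
    (h : (G.obj (cylCoker f)).Acyclic) : QuasiIso (G.map f) := by
  have h1 : QuasiIso (G.map (cylHom f)) :=
    quasiIso_of_acyclic (hG.shortExact (cylSC f) (cylSC_splitting f)) h
  have h2 : QuasiIso (G.map (fstHomotopyEquiv (X := Q)
      (CochainComplex.mappingCone.homotopyToZeroOfId P)).hom) := hG.quasiIso_map_homotopyEquiv _
  have hf : G.map f = G.map (cylHom f) ≫ G.map (fstHomotopyEquiv (X := Q)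
      (CochainComplex.mappingCone.homotopyToZeroOfId P)).hom := by
    rw [← G.map_comp]
    exact congrArg G.map (biprod.lift_fst _ _).symm
  rw [hf]
  exact quasiIso_comp _ _

end SplitPres

theorem splitPres_id : SplitPres (𝟭 (CochainComplex C ℤ)) where
  homotopy h := ⟨h⟩
  shortExact S hS := by
    refine HomologicalComplex.shortExact_of_degreewise_shortExact _ fun i => ?_
    obtain ⟨s⟩ := hS i
    exact s.shortExact

theorem acyclic_cylCoker {P Q : CochainComplex C ℤ} (f : P ⟶ Q) [QuasiIso f] :
    (cylCoker f).Acyclic := by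
  have h2 : QuasiIso (fstHomotopyEquiv (X := Q)
      (CochainComplex.mappingCone.homotopyToZeroOfId P)).hom :=
    homotopyEquivalences_le_quasiIso _ _ _ ⟨fstHomotopyEquiv (X := Q)
      (CochainComplex.mappingCone.homotopyToZeroOfId P), rfl⟩
  have : QuasiIso (cylHom f ≫ (fstHomotopyEquiv (X := Q)
      (CochainComplex.mappingCone.homotopyToZeroOfId P)).hom) := by
    change QuasiIso (biprod.lift f _ ≫ biprod.fst)
    rwa [biprod.lift_fst]
  have : QuasiIso (cylHom f) :=
    quasiIso_of_comp_right (cylHom f) (fstHomotopyEquiv (X := Q)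
      (CochainComplex.mappingCone.homotopyToZeroOfId P)).hom
  exact (cylSC_shortExact f).acyclic_X₃ this

end Groth.Agent.KFlat
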